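import Mathlib.AlgebraicGeometry.Limits
import Mathlib.AlgebraicGeometry.AffineScheme
import Mathlib.AlgebraicGeometry.Morphisms.ClosedImmersion
import Mathlib.AlgebraicGeometry.Morphisms.FiniteType
import Mathlib.Algebra.Polynomial.Laurent
import Mathlib.RingTheory.Polynomial.Basic
import Mathlib.RingTheory.Localization.Away.Basic

/-!
# Affine lines and punctured affine lines through global functions

* `IsA1 a t`, `IsGm a t` : `a : X ⟶ S` with coordinate `t` is the affine line, the punctured affine line over `S`;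
* `isA1_spec`, `isGm_spec`, base change;
* `IsA1.isPullback`, `IsGm.isPullback` : products;
* `IsA1.scale` : the coordinate `t * c`;
* `isPullback_gm_gm` : the coordinates `(t x, t)` on `G_m × G_m`;
* the open immersions `G_m ⟶ A^1`, `G_m ∖ {1} ⟶ G_m` and their closed complements.
-/

set_option autoImplicit false
universe u

open CategoryTheory CategoryTheory.Limits AlgebraicGeometry Opposite

namespace Groth.Agent.Sga4h.H299.GCoord

section toSpec

/-- global functions on `Spec R` -/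
noncomputable abbrev gl (R : Type u) [CommRing R] : R →+* Γ(Spec (CommRingCat.of R), ⊤) :=
  (Scheme.ΓSpecIso (CommRingCat.of R)).inv.hom

theorem appTop_gl {Z : Scheme.{u}} {A B : Type u} [CommRing A] [CommRing B] (f : A →+* B)
    (k : Z ⟶ Spec (CommRingCat.of B)) (a : A) :
    (k ≫ Spec.map (CommRingCat.ofHom f)).appTop.hom (gl A a) = k.appTop.hom (gl B (f a)) := by
  have h := Scheme.ΓSpecIso_inv_naturality (CommRingCat.ofHom f)
  have h1 := congrArg (fun q => (q ≫ k.appTop).hom a) h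
  rw [Scheme.Hom.comp_appTop]
  exact h1.symm

theorem gl_naturality {A B : Type u} [CommRing A] [CommRing B] (f : A →+* B) (a : A) :
    (Spec.map (CommRingCat.ofHom f)).appTop.hom (gl A a) = gl B (f a) :=
  (congrArg (fun q => q.hom a) (Scheme.ΓSpecIso_inv_naturality (CommRingCat.ofHom f))).symm

/-- morphisms to `Spec A` from ring maps -/
theorem exists_toSpec {Z : Scheme.{u}} {A : Type u} [CommRing A] (φ : A →+* Γ(Z, ⊤)) :
    ∃ k : Z ⟶ Spec (CommRingCat.of A), ∀ a, k.appTop.hom (gl A a) = φ a := by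
  refine ⟨Z.toSpecΓ ≫ Spec.map (CommRingCat.ofHom φ), fun a => ?_⟩
  have h3 : (Scheme.ΓSpecIso (CommRingCat.of A)).inv ≫ (Z.toSpecΓ ≫ Spec.map (CommRingCat.ofHom φ)).appTop =
      CommRingCat.ofHom φ := by
    rw [Scheme.Hom.comp_appTop, ← Scheme.ΓSpecIso_inv_naturality_assoc, Scheme.toSpecΓ_appTop,
      Iso.inv_hom_id, Category.comp_id]
  exact congrArg (fun q => q.hom a) h3

theorem toSpec_ext {Z : Scheme.{u}} {A : Type u} [CommRing A] {k k' : Z ⟶ Spec (CommRingCat.of A)}
    (h : ∀ a, k.appTop.hom (gl A a) = k'.appTop.hom (gl A a)) : k = k' := by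
  apply ext_of_isAffine
  rw [← cancel_epi (Scheme.ΓSpecIso (CommRingCat.of A)).inv]
  apply CommRingCat.hom_ext
  ext a
  exact h a

end toSpec

theorem comp_app {X Y Z : Scheme.{u}} (f : X ⟶ Y) (g : Y ⟶ Z) (s : Γ(Z, ⊤)) :
    (f ≫ g).appTop.hom s = f.appTop.hom (g.appTop.hom s) := rfl

/-- `a : X ⟶ S` is the affine line with coordinate `t`. -/
structure IsA1 {X S : Scheme.{u}} (a : X ⟶ S) (t : Γ(X, ⊤)) : Prop where
  exists_lift : ∀ {Z : Scheme.{u}} (h : Z ⟶ S) (s : Γ(Z, ⊤)), ∃ m : Z ⟶ X, m ≫ a = h ∧ m.appTop.hom t = s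
  uniq : ∀ {Z : Scheme.{u}} (m m' : Z ⟶ X), m ≫ a = m' ≫ a → m.appTop.hom t = m'.appTop.hom t → m = m'

/-- `a : X ⟶ S` is the punctured affine line with coordinate `t`. -/
structure IsGm {X S : Scheme.{u}} (a : X ⟶ S) (t : Γ(X, ⊤)) : Prop where
  isUnit : IsUnit t
  exists_lift : ∀ {Z : Scheme.{u}} (h : Z ⟶ S) (s : Γ(Z, ⊤)), IsUnit s →
    ∃ m : Z ⟶ X, m ≫ a = h ∧ m.appTop.hom t = s
  uniq : ∀ {Z : Scheme.{u}} (m m' : Z ⟶ X), m ≫ a = m' ≫ a → m.appTop.hom t = m'.appTop.hom t → m = m'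

/-- Base change. -/
theorem IsA1.baseChange {X S X' S' : Scheme.{u}} {a : X ⟶ S} {t : Γ(X, ⊤)} (h : IsA1 a t) {g : S' ⟶ S}
    {g' : X' ⟶ X} {a' : X' ⟶ S'} (sq : IsPullback g' a' a g) : IsA1 a' (g'.appTop.hom t) where
  exists_lift {Z} k s := by
    obtain ⟨m, h1, h2⟩ := h.exists_lift (k ≫ g) s
    refine ⟨sq.lift m k h1, sq.lift_snd _ _ _, ?_⟩
    rw [← comp_app, sq.lift_fst, h2]
  uniq {Z} m m' h1 h2 := by
    apply sq.hom_ext _ h1
    apply h.uniq _ _ _ h2
    rw [Category.assoc, Category.assoc, sq.w, ← Category.assoc, h1, Category.assoc]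

/-- Base change. -/
theorem IsGm.baseChange {X S X' S' : Scheme.{u}} {a : X ⟶ S} {t : Γ(X, ⊤)} (h : IsGm a t) {g : S' ⟶ S}
    {g' : X' ⟶ X} {a' : X' ⟶ S'} (sq : IsPullback g' a' a g) : IsGm a' (g'.appTop.hom t) where
  isUnit := h.isUnit.map _
  exists_lift {Z} k s hs := by
    obtain ⟨m, h1, h2⟩ := h.exists_lift (k ≫ g) s hs
    refine ⟨sq.lift m k h1, sq.lift_snd _ _ _, ?_⟩
    rw [← comp_app, sq.lift_fst, h2]
  uniq {Z} m m' h1 h2 := by
    apply sq.hom_ext _ h1
    apply h.uniq _ _ _ h2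
    rw [Category.assoc, Category.assoc, sq.w, ← Category.assoc, h1, Category.assoc]

/-- Products with the affine line. -/
theorem IsA1.isPullback {V Y A S : Scheme.{u}} {v : V ⟶ Y} {s : Γ(V, ⊤)} (hv : IsA1 v s) {a : A ⟶ S}
    {t : Γ(A, ⊤)} (ha : IsA1 a t) (y : Y ⟶ S) (pr : V ⟶ A) (w : pr ≫ a = v ≫ y) (hs : pr.appTop.hom t = s) :
    IsPullback pr v a y := by
  refine ⟨⟨w⟩, ⟨PullbackCone.IsLimit.mk w
    (fun c => (hv.exists_lift c.snd (c.fst.appTop.hom t)).choose) (fun c => ?_) (fun c => ?_)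
    (fun c m h1 h2 => ?_)⟩⟩
  · have hm := (hv.exists_lift c.snd (c.fst.appTop.hom t)).choose_spec
    apply ha.uniq
    · rw [Category.assoc, w, ← Category.assoc, hm.1]
      exact c.condition.symm
    · rw [comp_app, hs]
      exact hm.2
  · exact (hv.exists_lift c.snd (c.fst.appTop.hom t)).choose_spec.1
  · have hm := (hv.exists_lift c.snd (c.fst.appTop.hom t)).choose_spec
    apply hv.uniq
    · rw [h2, hm.1]
    · rw [hm.2, ← hs, ← comp_app, h1]

/-- The coordinate `t c`. -/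
theorem IsA1.scale {V Y : Scheme.{u}} {v : V ⟶ Y} {s : Γ(V, ⊤)} (hv : IsA1 v s) {c : Γ(Y, ⊤)} (hc : IsUnit c) :
    IsA1 v (s * v.appTop.hom c) where
  exists_lift {Z} h r := by
    obtain ⟨c, rfl⟩ := hc
    obtain ⟨m, h1, h2⟩ := hv.exists_lift h (r * h.appTop.hom (↑c⁻¹ : Γ(Y, ⊤)))
    refine ⟨m, h1, ?_⟩
    rw [map_mul, h2, ← comp_app, h1, mul_assoc, ← map_mul, Units.inv_mul, map_one, mul_one]
  uniq {Z} m m' h1 h2 := by
    apply hv.uniq m m' h1
    rw [map_mul, map_mul, ← comp_app, ← comp_app, h1] at h2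
    exact (hc.map (m' ≫ v).appTop.hom).mul_right_cancel h2

/-- The coordinates `(t x, t)` on `G_m × G_m`. -/
theorem isPullback_gm_gm {V G S : Scheme.{u}} {g : G ⟶ S} {x : Γ(G, ⊤)} (hg : IsGm g x) {v : V ⟶ G}
    {t : Γ(V, ⊤)} (hv : IsGm v t) (pr1 pr2 : V ⟶ G) (w1 : pr1 ≫ g = v ≫ g) (w2 : pr2 ≫ g = v ≫ g)
    (h1 : pr1.appTop.hom x = t * v.appTop.hom x) (h2 : pr2.appTop.hom x = t) : IsPullback pr1 pr2 g g := by
  have key : ∀ {Z : Scheme.{u}} (α β : Z ⟶ G), α ≫ g = β ≫ g → ∃ m : Z ⟶ V, m ≫ pr1 = α ∧ m ≫ pr2 = β := by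
    intro Z α β hαβ
    obtain ⟨b, hb⟩ := hg.isUnit.map β.appTop.hom
    obtain ⟨h, e1, e2⟩ := hg.exists_lift (α ≫ g) (α.appTop.hom x * (↑b⁻¹ : Γ(Z, ⊤)))
      ((hg.isUnit.map α.appTop.hom).mul (b⁻¹).isUnit)
    obtain ⟨m, e3, e4⟩ := hv.exists_lift h (β.appTop.hom x) (hg.isUnit.map β.appTop.hom)
    refine ⟨m, hg.uniq _ _ ?_ ?_, hg.uniq _ _ ?_ ?_⟩
    · rw [Category.assoc, w1, ← Category.assoc, e3, e1]
    · rw [comp_app, h1, map_mul, e4, ← comp_app, e3, e2, ← hb, mul_comm, mul_assoc, Units.inv_mul, mul_one]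
    · rw [Category.assoc, w2, ← Category.assoc, e3, e1, hαβ]
    · rw [comp_app, h2, e4]
  refine ⟨⟨w1.trans w2.symm⟩, ⟨PullbackCone.IsLimit.mk (w1.trans w2.symm)
    (fun c => (key c.fst c.snd c.condition).choose) (fun c => (key c.fst c.snd c.condition).choose_spec.1)
    (fun c => (key c.fst c.snd c.condition).choose_spec.2) (fun c m k1 k2 => ?_)⟩⟩
  obtain ⟨e1, e2⟩ := (key c.fst c.snd c.condition).choose_spec
  have ht : m.appTop.hom t = (key c.fst c.snd c.condition).choose.appTop.hom t := by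
    rw [← h2, ← comp_app, ← comp_app, k2, e2]
  apply hv.uniq _ _ _ ht
  apply hg.uniq
  · rw [Category.assoc, Category.assoc, ← w1, ← Category.assoc, ← Category.assoc, k1, e1]
  · have h3 : m.appTop.hom (t * v.appTop.hom x) =
        (key c.fst c.snd c.condition).choose.appTop.hom (t * v.appTop.hom x) := by
      rw [← h1, ← comp_app, ← comp_app, k1, e1]
    rw [map_mul, map_mul, ht] at h3
    exact (hv.isUnit.map _).mul_left_cancel h3

section spec

variable (K : Type u) [CommRing K]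

/-- The affine line. -/
theorem isA1_spec : IsA1 (Spec.map (CommRingCat.ofHom (Polynomial.C : K →+* Polynomial K)))
    (gl (Polynomial K) Polynomial.X) where
  exists_lift {Z} h s := by
    obtain ⟨k, hk⟩ := exists_toSpec (Polynomial.eval₂RingHom (h.appTop.hom.comp (gl K)) s)
    refine ⟨k, toSpec_ext fun a => ?_, ?_⟩
    · rw [appTop_gl, hk]
      simp
    · rw [hk]
      simp
  uniq {Z} m m' h1 h2 := by
    apply toSpec_ext
    intro a
    have e : (m.appTop.hom.comp (gl (Polynomial K))) = (m'.appTop.hom.comp (gl (Polynomial K))) := by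
      apply Polynomial.ringHom_ext
      · intro r
        change m.appTop.hom (gl _ (Polynomial.C r)) = m'.appTop.hom (gl _ (Polynomial.C r))
        rw [← appTop_gl, ← appTop_gl, h1]
      · exact h2
    exact DFunLike.congr_fun e a

open LaurentPolynomial in
/-- The punctured affine line. -/
theorem isGm_spec : IsGm (Spec.map (CommRingCat.ofHom (algebraMap K (LaurentPolynomial K))))
    (gl (LaurentPolynomial K) (LaurentPolynomial.T 1)) where
  isUnit := (LaurentPolynomial.isUnit_T 1).map _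
  exists_lift {Z} h s hs := by
    obtain ⟨s, rfl⟩ := hs
    obtain ⟨k, hk⟩ := exists_toSpec (LaurentPolynomial.eval₂ (h.appTop.hom.comp (gl K)) s)
    refine ⟨k, toSpec_ext fun a => ?_, ?_⟩
    · rw [appTop_gl, hk]
      change LaurentPolynomial.eval₂ (h.appTop.hom.comp (gl K)) s (LaurentPolynomial.C a) = _
      simp
    · rw [hk]
      simp
  uniq {Z} m m' h1 h2 := by
    apply toSpec_ext
    intro a
    have e : (m.appTop.hom.comp (gl (LaurentPolynomial K))) = (m'.appTop.hom.comp (gl (LaurentPolynomial K))) := by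
      have e1 : (m.appTop.hom.comp (gl (LaurentPolynomial K))).comp (Polynomial.toLaurent : Polynomial K →+* _) =
          (m'.appTop.hom.comp (gl (LaurentPolynomial K))).comp (Polynomial.toLaurent : Polynomial K →+* _) := by
        apply Polynomial.ringHom_ext
        · intro r
          change m.appTop.hom (gl _ (Polynomial.toLaurent (Polynomial.C r))) =
            m'.appTop.hom (gl _ (Polynomial.toLaurent (Polynomial.C r)))
          rw [Polynomial.toLaurent_C]
          change m.appTop.hom (gl _ (algebraMap K (LaurentPolynomial K) r)) =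
            m'.appTop.hom (gl _ (algebraMap K (LaurentPolynomial K) r))
          rw [← appTop_gl, ← appTop_gl, h1]
        · change m.appTop.hom (gl _ (Polynomial.toLaurent Polynomial.X)) =
            m'.appTop.hom (gl _ (Polynomial.toLaurent Polynomial.X))
          rw [Polynomial.toLaurent_X]
          exact h2
      exact IsLocalization.ringHom_ext (Submonoid.powers (Polynomial.X : Polynomial K)) e1
    exact DFunLike.congr_fun e a

end spec

end Groth.Agent.Sga4h.H299.GCoord
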