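import Groth.Agent.Sga4h.H299.Scal
import Groth.Prelude.Def_FinFr
import Groth.Prelude.Def_FixPt
import Groth.Prelude.Def_LangSh
import Mathlib.Algebra.Category.ModuleCat.Limits

/-!
# Sheaves with an action of `Λ : Type` as sheaves of modules over `ULift Λ`

`toMod L : EtModW.Mod (ULift Λ) X` for `L : EtLam.Sheaf Λ X`, with `ab (toMod L) = L.carrier`;
compatibility with inverse images, extension by zero, constant sheaves; `ofMod` in the other direction.
-/

set_option autoImplicit false
universe u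

open CategoryTheory CategoryTheory.Limits AlgebraicGeometry Opposite

namespace Groth.Agent.Sga4h.H299.LamMod

open Groth.Agent.Sga4h.ModRestr Groth.Agent.Sga4h.EtaleRes Groth.Agent.Etrest.ModAb
  Groth.Agent.Sga4h.H299.Scal

attribute [local instance] jCont

variable {Λ : Type} [CommRing Λ] {X Y : Scheme.{u}}

/-- The ring `ULift Λ`. -/
abbrev UL (Λ : Type) : Type (u + 1) := ULift.{u + 1} Λ

/-- The sections of a sheaf with `Λ`-action. -/
def Sec (L : EtLam.Sheaf Λ X) (U : (X.Etale)ᵒᵖ) : Type (u + 1) := L.carrier.obj.obj U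

noncomputable instance (L : EtLam.Sheaf Λ X) (U : (X.Etale)ᵒᵖ) : AddCommGroup (Sec L U) :=
  inferInstanceAs (AddCommGroup (L.carrier.obj.obj U : Type (u + 1)))

/-- The module structure on the sections of a sheaf with `Λ`-action. -/
noncomputable instance (L : EtLam.Sheaf Λ X) (U : (X.Etale)ᵒᵖ) : Module (UL.{u} Λ) (Sec L U) where
  smul r x := (L.act r.down).hom.app U x
  one_smul x := by
    change (L.act 1).hom.app U x = x
    rw [map_one]
    rfl
  mul_smul r s x := by
    change (L.act (r.down * s.down)).hom.app U x = (L.act r.down).hom.app U ((L.act s.down).hom.app U x)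
    rw [map_mul]
    rfl
  smul_zero r := map_zero ((L.act r.down).hom.app U).hom
  smul_add r x y := map_add ((L.act r.down).hom.app U).hom x y
  add_smul r s x := by
    change (L.act (r.down + s.down)).hom.app U x = _
    rw [map_add]
    rfl
  zero_smul x := by
    change (L.act 0).hom.app U x = 0
    rw [map_zero]
    rfl

/-- Restriction of sections as a linear map. -/
noncomputable def secMap (L : EtLam.Sheaf Λ X) {U V : (X.Etale)ᵒᵖ} (f : U ⟶ V) :
    Sec L U →ₗ[UL.{u} Λ] Sec L V where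
  toFun x := L.carrier.obj.map f x
  map_add' x y := map_add (L.carrier.obj.map f).hom x y
  map_smul' r x := by
    have h := congrArg (fun t => t x) ((L.act r.down).hom.naturality f)
    exact h.symm

/-- The presheaf of modules attached to a sheaf with `Λ`-action. -/
noncomputable def toPre (L : EtLam.Sheaf Λ X) : (X.Etale)ᵒᵖ ⥤ ModuleCat.{u + 1} (UL.{u} Λ) where
  obj U := ModuleCat.of (UL.{u} Λ) (Sec L U)
  map f := ModuleCat.ofHom (secMap L f)
  map_id U := by
    apply ModuleCat.hom_ext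
    apply LinearMap.ext
    intro x
    have h := congrArg (fun t => t x) (L.carrier.obj.map_id U)
    exact h
  map_comp f g := by
    apply ModuleCat.hom_ext
    apply LinearMap.ext
    intro x
    have h := congrArg (fun t => t x) (L.carrier.obj.map_comp f g)
    exact h

theorem isSheaf_toPre (L : EtLam.Sheaf Λ X) : Presheaf.IsSheaf X.smallEtaleTopology (toPre L) := by
  have h := (Presheaf.isSheaf_iff_isSheaf_forget X.smallEtaleTopology L.carrier.obj
    (forget AddCommGrpCat.{u + 1})).1 L.carrier.property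
  exact (Presheaf.isSheaf_iff_isSheaf_forget X.smallEtaleTopology (toPre L)
    (forget (ModuleCat.{u + 1} (UL.{u} Λ)))).2 h

/-- The sheaf of modules attached to a sheaf with `Λ`-action. -/
noncomputable def toMod (L : EtLam.Sheaf Λ X) : EtModW.Mod (UL.{u} Λ) X :=
  ⟨toPre L, isSheaf_toPre L⟩

/-- The underlying abelian sheaf of `toMod L` is `L`. -/
noncomputable def abToMod (L : EtLam.Sheaf Λ X) : (ab (UL.{u} Λ) X).obj (toMod L) ≅ L.carrier :=
  Iso.refl _

theorem abScal_toMod (L : EtLam.Sheaf Λ X) (r : UL.{u} Λ) :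
    abScal r (toMod L) ≫ (abToMod L).hom = (abToMod L).hom ≫ L.act r.down := by
  apply Sheaf.hom_ext
  rfl

/-- Isomorphic sheaves with `Λ`-action give isomorphic sheaves of modules. -/
noncomputable def isoOfCarrier {L L' : EtLam.Sheaf Λ X} (e : L.carrier ≅ L'.carrier)
    (he : ∀ r : Λ, L.act r ≫ e.hom = e.hom ≫ L'.act r) : toMod L ≅ toMod L' :=
  isoOfAb e (fun r => he r.down)

/-- A sheaf of modules with the underlying `Λ`-sheaf isomorphic to `L`. -/
noncomputable def isoToMod {N : EtModW.Mod (UL.{u} Λ) X} {L : EtLam.Sheaf Λ X}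
    (e : (ab (UL.{u} Λ) X).obj N ≅ L.carrier)
    (he : ∀ r : Λ, abScal (ULift.up r) N ≫ e.hom = e.hom ≫ L.act r) : N ≅ toMod L :=
  isoOfAb e (fun r => he r.down)

/-- `toMod` commutes with inverse images. -/
noncomputable def toModPull (f : X ⟶ Y) (L : EtLam.Sheaf Λ Y) :
    (EtModW.pull (UL.{u} Λ) f).obj (toMod L) ≅ toMod (EtLam.pullback f L) :=
  isoToMod ((pullIso (UL.{u} Λ) f).app (toMod L)) (fun r => pullIso_scal f (ULift.up r) (toMod L))

/-- `toMod` commutes with extension by zero. -/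
noncomputable def toModExt (j : X ⟶ Y) [Etale j] (L : EtLam.Sheaf Λ X) :
    (ext (UL.{u} Λ) j).obj (toMod L) ≅ toMod (FinFr.extZeroLam j L) :=
  isoToMod ((ExtBC.extAb (UL.{u} Λ) j).app (toMod L)) (fun r => extAb_scal j (ULift.up r) (toMod L))

/-- `constIso` is compatible with the scalars. -/
theorem constIso_scal (X : Scheme.{u}) (r : UL.{u} Λ) :
    abScal r (EtModW.constMod (UL.{u} Λ) X (UL.{u} Λ)) ≫
        ((constIso (UL.{u} Λ) X).app (ModuleCat.of (UL.{u} Λ) (UL.{u} Λ))).hom =
      ((constIso (UL.{u} Λ) X).app (ModuleCat.of (UL.{u} Λ) (UL.{u} Λ))).hom ≫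
        FinFr.constSMul X r.down := by
  have h := (constIso (UL.{u} Λ) X).hom.naturality
    (ModuleCat.ofHom (LinearMap.lsmul (UL.{u} Λ) (UL.{u} Λ) r))
  have h1 : (constantSheaf X.smallEtaleTopology (ModuleCat.{u + 1} (UL.{u} Λ))).map
      (ModuleCat.ofHom (LinearMap.lsmul (UL.{u} Λ) (UL.{u} Λ) r)) =
      scal r (EtModW.constMod (UL.{u} Λ) X (UL.{u} Λ)) := by
    apply (((FixPt.constAdj (UL.{u} Λ) X)).homEquiv _ _).injective
    rw [Adjunction.homEquiv_unit, Adjunction.homEquiv_unit, Adjunction.unit_naturality]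
    apply ModuleCat.hom_ext
    apply LinearMap.ext
    intro x
    exact ((FixPt.constAdj (UL.{u} Λ) X).unit.app (ModuleCat.of (UL.{u} Λ) (UL.{u} Λ))).hom.map_smul r x
  have h2 : abScal r (EtModW.constMod (UL.{u} Λ) X (UL.{u} Λ)) =
      (constantSheaf X.smallEtaleTopology (ModuleCat (UL.{u} Λ)) ⋙ ab (UL.{u} Λ) X).map
        (ModuleCat.ofHom ((LinearMap.lsmul (UL.{u} Λ) (UL.{u} Λ)) r)) := congrArg (ab (UL.{u} Λ) X).map h1.symm
  rw [h2]
  exact h

/-- `toMod` of the constant sheaf. -/
noncomputable def toModConst (X : Scheme.{u}) :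
    EtModW.constMod (UL.{u} Λ) X (UL.{u} Λ) ≅ toMod (FinFr.constLam Λ X) :=
  isoToMod ((constIso (UL.{u} Λ) X).app (ModuleCat.of (UL.{u} Λ) (UL.{u} Λ)))
    (fun r => constIso_scal X (ULift.up r))

/-- A sheaf which becomes constant after inverse image. -/
theorem nonempty_of_isConstOn (π : X ⟶ Y) (L : EtLam.Sheaf Λ Y) (h : LangSh.IsConstOn π L) :
    Nonempty ((EtModW.pull (UL.{u} Λ) π).obj (toMod L) ≅ EtModW.constMod (UL.{u} Λ) X (UL.{u} Λ)) := by
  obtain ⟨e, he⟩ := h
  exact ⟨toModPull π L ≪≫ isoOfCarrier (L' := FinFr.constLam Λ X) e he ≪≫ (toModConst X).symm⟩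

end Groth.Agent.Sga4h.H299.LamMod
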