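import Groth.Agent.Sga5.OneRow

/-!
# Composition of right derived functors when only one row is nonzero (all rows allowed)

`F : A ⥤ B` left exact preserving injectives, `G : B ⥤ C` left exact.

* `one_row` : `R^q F M = 0` for all `q ≠ a` implies `R^(p+a) (F ⋙ G) M ≅ R^p G (R^a F M)`;
* `isZero_below` : `R^q F M = 0` for all `q < a` implies `R^m (F ⋙ G) M = 0` for `m < a`;
* `isZero_all` : `R^q F M = 0` for all `q` implies `R^m (F ⋙ G) M = 0` for all `m`.
-/

set_option autoImplicit false
set_option backward.isDefEq.respectTransparency false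
set_option linter.unusedSectionVars false

open CategoryTheory CategoryTheory.Limits

namespace Groth.Agent.Sga4h.H299.Row

open Groth.Agent.EtpbcB.RDerLES Groth.Agent.EtpbcB.Acyc Groth.Agent.Sga5.OneRow

universe v₁ v₂ v₃ u₁ u₂ u₃

variable {A : Type u₁} {B : Type u₂} {C : Type u₃} [Category.{v₁} A] [Category.{v₂} B] [Category.{v₃} C]
  [Abelian A] [Abelian B] [Abelian C] [EnoughInjectives A]
  (F : A ⥤ B) [F.Additive] [PreservesFiniteLimits F] (G : B ⥤ C) [G.Additive] [PreservesFiniteLimits G]
  [HasInjectiveResolutions A] [HasInjectiveResolutions B]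

omit [EnoughInjectives A] [HasInjectiveResolutions B] in
theorem isZero_zero_iff (M : A) : IsZero ((F.rightDerived 0).obj M) ↔ IsZero (F.obj M) :=
  (F.rightDerivedZeroIsoSelf.app M).isZero_iff

/-- One row. -/
theorem one_row (hF : ∀ I : A, Injective I → Injective (F.obj I)) (a : ℕ) (M : A)
    (hq : ∀ q, q ≠ a → IsZero ((F.rightDerived q).obj M)) (p : ℕ) :
    Nonempty (((F ⋙ G).rightDerived (p + a)).obj M ≅
      (G.rightDerived p).obj ((F.rightDerived a).obj M)) := by
  cases a with
  | zero =>
    obtain ⟨e⟩ := comp_acyclic F G (fun I hI => by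
      have := hF I hI
      exact acyclic_of_injective _ _) M (fun q h => hq q (by omega)) p
    exact ⟨e.symm ≪≫ (G.rightDerived p).mapIso (F.rightDerivedZeroIsoSelf.app M).symm⟩
  | succ c =>
    have h0 : IsZero (F.obj M) := (isZero_zero_iff F M).1 (hq 0 (by omega))
    have h1 : Injective (F.obj M) := ⟨fun g _ _ => ⟨0, (h0.eq_of_tgt _ _)⟩⟩
    exact oneRow F G hF c M h1 (fun q _ h => hq q h) p

theorem below_aux (hF : ∀ I : A, Injective I → Injective (F.obj I)) (a : ℕ) (M : A)
    (h0 : Injective (F.obj M)) (hq : ∀ q, 1 ≤ q → q < a → IsZero ((F.rightDerived q).obj M)) (m : ℕ)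
    (h1 : 1 ≤ m) (hm : m < a) : IsZero (((F ⋙ G).rightDerived m).obj M) := by
  induction m generalizing M a with
  | zero => omega
  | succ m ih =>
    have hE := emb_shortExact M
    have hI : Acyclic F (emb M).X₂ := acyclic_of_injective _ _
    have hI' : Acyclic (F ⋙ G) (emb M).X₂ := acyclic_of_injective _ _
    have : PreservesFiniteLimits (F ⋙ G) := comp_preservesFiniteLimits F G
    obtain ⟨hex, hmono⟩ := map_exact F M
    have hR1 : IsZero ((F.rightDerived 1).obj (emb M).X₁) := hq 1 (by omega) (by omega)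
    have hepi : Epi (F.map (emb M).g) := epi_map_g F hE hR1
    have hFS : ((emb M).map F).ShortExact :=
      { exact := hex
        mono_f := hmono
        epi_g := hepi }
    have i1 : Injective ((emb M).map F).X₁ := h0
    have i2 : Injective ((emb M).map F).X₂ := hF _ inferInstance
    have i3 : Injective (F.obj (emb M).X₃) := injective_third hFS
    cases m with
    | zero =>
      obtain ⟨s, hs⟩ := exists_section hFS
      have hs' : s ≫ F.map (emb M).g = 𝟙 _ := hs
      have : Epi ((F ⋙ G).map (emb M).g) := by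
        have h3 : G.map s ≫ (F ⋙ G).map (emb M).g = 𝟙 _ := by
          change G.map s ≫ G.map (F.map (emb M).g) = 𝟙 _
          rw [← G.map_comp, hs', G.map_id]
        exact ⟨fun a b hab => by
          have h4 := congrArg (fun t => G.map s ≫ t) hab
          rwa [← Category.assoc, ← Category.assoc, h3, Category.id_comp, Category.id_comp] at h4⟩
      have e2 : ((F ⋙ G).rightDerived 1).obj M ≅ cokernel ((F ⋙ G).map (emb M).g) := oneIso hE hI'
      exact (isZero_cokernel_of_epi _).of_iso e2
    | succ m =>
      have e1 : ((F ⋙ G).rightDerived (m + 2)).obj M ≅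
        ((F ⋙ G).rightDerived (m + 1)).obj (emb M).X₃ := shiftIso hE hI' m
      refine (ih (a - 1) (emb M).X₃ i3 (fun q h2 h3 => ?_) (by omega) (by omega)).of_iso e1
      obtain ⟨q, rfl⟩ : ∃ r, q = r + 1 := ⟨q - 1, by omega⟩
      exact (hq (q + 2) (by omega) (by omega)).of_iso (shiftIso hE hI q).symm

/-- Vanishing below the first nonzero row. -/
theorem isZero_below (hF : ∀ I : A, Injective I → Injective (F.obj I)) (a : ℕ) (M : A)
    (hq : ∀ q, q < a → IsZero ((F.rightDerived q).obj M)) (m : ℕ) (hm : m < a) :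
    IsZero (((F ⋙ G).rightDerived m).obj M) := by
  have : PreservesFiniteLimits (F ⋙ G) := comp_preservesFiniteLimits F G
  have h0 : IsZero (F.obj M) := (isZero_zero_iff F M).1 (hq 0 (by omega))
  have h1 : Injective (F.obj M) := ⟨fun g _ _ => ⟨0, (h0.eq_of_tgt _ _)⟩⟩
  cases m with
  | zero =>
    exact (G.map_isZero h0).of_iso ((F ⋙ G).rightDerivedZeroIsoSelf.app M)
  | succ m => exact below_aux F G hF a M h1 (fun q _ h => hq q h) (m + 1) (by omega) hm

/-- Vanishing when all rows vanish. -/
theorem isZero_all (hF : ∀ I : A, Injective I → Injective (F.obj I)) (M : A)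
    (hq : ∀ q, IsZero ((F.rightDerived q).obj M)) (m : ℕ) :
    IsZero (((F ⋙ G).rightDerived m).obj M) :=
  isZero_below F G hF (m + 1) M (fun q _ => hq q) m (by omega)

end Groth.Agent.Sga4h.H299.Row
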