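import Groth.Agent.Sga4h.H299.ExtBC
import Groth.Agent.Sga4h.X144Shr
import Groth.Agent.Sga4h.RDExact

/-!
# Higher direct images of extensions by zero, for sheaves of modules (cartesian squares)

* `isIso_counit_of_ab` : `j_! j^* N ⟶ N` is an isomorphism as soon as `ab N ≅ j_! G`;
* `resRpush` : `R^q f'_* (j'^* M) ≅ j^* R^q f_* M`;
* `extResIso` : `j^* j_! ≅ 𝟭`.
-/

set_option autoImplicit false
universe u

open CategoryTheory CategoryTheory.Limits AlgebraicGeometry Opposite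

namespace Groth.Agent.Sga4h.H299.Sq

open Groth.Agent.Sga4h.ModRestr Groth.Agent.Sga4h.EtaleRes Groth.Agent.Etrest.ModAb
  Groth.Agent.Etcore.ShriekBaseChange Groth.Agent.Sga4h.H299.ExtBC

variable (Λ : Type (u + 1)) [CommRing Λ]

attribute [local instance] jCont

/-- `j_! j^* N ⟶ N` is an isomorphism if the underlying abelian sheaf of `N` is an extension by zero. -/
theorem isIso_counit_of_ab {Y Q : Scheme.{u}} (k : Y ⟶ Q) [IsOpenImmersion k] (N : EtModW.Mod Λ Q)
    (G : EtCoh.Ab Y) (e : (ab Λ Q).obj N ≅ (EtShriek.extZero k).obj G) :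
    IsIso ((extResAdj Λ k).counit.app N) := by
  have hm := X144Shr.mono_counit Λ k N
  have hi := X144Shr.isIso_res_counit Λ k N
  let ε := (extResAdj Λ k).counit.app N
  let π := cokernel.π ε
  have h1 : (res Λ k).map π = 0 := by
    have h2 : (res Λ k).map ε ≫ (res Λ k).map π = 0 := by
      rw [← Functor.map_comp, cokernel.condition, Functor.map_zero]
    have : IsIso ((res Λ k).map ε) := hi
    rw [← cancel_epi ((res Λ k).map ε), h2, comp_zero]
  have h3 : (EtShriek.restrAlong k).map ((ab Λ Q).map π) = 0 := by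
    have : (EtShriek.restrAlong k).map ((ab Λ Q).map π) = (ab Λ Y).map ((res Λ k).map π) := rfl
    rw [this, h1, Functor.map_zero]
    rfl
  have h4 : e.inv ≫ (ab Λ Q).map π = 0 := by
    apply ((EtShriek.extZeroAdj k).homEquiv _ _).injective
    rw [Adjunction.homEquiv_unit, Adjunction.homEquiv_unit, Functor.map_comp, h3, comp_zero, comp_zero,
      Functor.map_zero, comp_zero]
  have h5 : (ab Λ Q).map π = 0 := by
    rw [← cancel_epi e.inv, h4, comp_zero]
  have h6 : π = 0 := (ab Λ Q).map_injective (h5.trans (Functor.map_zero _ _ _).symm)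
  have h7 : Epi ε := Preadditive.epi_of_cokernel_zero h6
  exact isIso_of_mono_of_epi ε

/-- `j^* j_! ≅ 𝟭` -/
noncomputable def extResIso {Y Q : Scheme.{u}} (k : Y ⟶ Q) [Etale k] [Mono k] :
    ext Λ k ⋙ res Λ k ≅ 𝟭 _ := (asIso (extResAdj Λ k).unit).symm

instance preservesHomology_res {V X : Scheme.{u}} (j : V ⟶ X) [Etale j] : (res Λ j).PreservesHomology :=
  inferInstance

/-- `R^q f'_* (j'^* M) ≅ j^* R^q f_* M` -/
noncomputable def resRpush {V' V Y X : Scheme.{u}} (j : V ⟶ X) [Etale j] (f : Y ⟶ X) (j' : V' ⟶ Y)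
    [Etale j'] (f' : V' ⟶ V) (h : IsPullback j' f' f j) (q : ℕ) :
    res Λ j' ⋙ EtModW.Rpush Λ f' q ≅ EtModW.Rpush Λ f q ⋙ res Λ j :=
  (RDExact.preIso (res Λ j') (EtModW.push Λ f') (fun I _ => injective_res Λ j' I) q).symm ≪≫
    RDExact.congrIso (resPush Λ j f j' f' h) q ≪≫
      RDExact.postIso (EtModW.push Λ f) (res Λ j) q

/-- The square lemma: if `ab (R^q f_* (j'_! N))` is an extension by zero, then
`R^q f_* (j'_! N) ≅ j_! R^q f'_* N`. -/
theorem nonempty_sq {V' V Y X : Scheme.{u}} (j : V ⟶ X) [IsOpenImmersion j] (f : Y ⟶ X) (j' : V' ⟶ Y)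
    [IsOpenImmersion j'] (f' : V' ⟶ V) (h : IsPullback j' f' f j) (q : ℕ) (N : EtModW.Mod Λ V')
    (G : EtCoh.Ab V)
    (e : (ab Λ X).obj ((EtModW.Rpush Λ f q).obj ((ext Λ j').obj N)) ≅ (EtShriek.extZero j).obj G) :
    Nonempty ((EtModW.Rpush Λ f q).obj ((ext Λ j').obj N) ≅
      (ext Λ j).obj ((EtModW.Rpush Λ f' q).obj N)) := by
  have hi := isIso_counit_of_ab Λ j _ G e
  let e1 : (ext Λ j).obj ((res Λ j).obj ((EtModW.Rpush Λ f q).obj ((ext Λ j').obj N))) ≅
    (EtModW.Rpush Λ f q).obj ((ext Λ j').obj N) := @asIso _ _ _ _ _ hi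
  let e2 : (EtModW.Rpush Λ f' q).obj ((res Λ j').obj ((ext Λ j').obj N)) ≅
    (res Λ j).obj ((EtModW.Rpush Λ f q).obj ((ext Λ j').obj N)) := (resRpush Λ j f j' f' h q).app _
  let e3 : (EtModW.Rpush Λ f' q).obj ((res Λ j').obj ((ext Λ j').obj N)) ≅
    (EtModW.Rpush Λ f' q).obj N := (EtModW.Rpush Λ f' q).mapIso ((extResIso Λ j').app N)
  exact ⟨e1.symm ≪≫ (ext Λ j).mapIso (e2.symm ≪≫ e3)⟩

end Groth.Agent.Sga4h.H299.Sq
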