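import Groth.Agent.Sga4h.H299.ExtBC
import Groth.Agent.Sga4h.H299.Sq
import Groth.Agent.Sga4h.H299.Row
import Groth.Agent.Sga4h.X144Res
import Groth.Agent.Etrest.ModCons
import Groth.Agent.Etrest.ModAbR

/-!
# `R^q f_!` for sheaves of modules, computed with a compactification `X --j--> P --p--> S`

* `RS Λ j p q = j_! ⋙ R^q p_*`;
* `rsAb` : the underlying abelian sheaf;
* `extComp`, `rpushCongr`;
* `leray_push` : one row degeneration for direct images.
-/

set_option autoImplicit false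
universe u

open CategoryTheory CategoryTheory.Limits AlgebraicGeometry Opposite

namespace Groth.Agent.Sga4h.H299.Rs

open Groth.Agent.Sga4h.ModRestr Groth.Agent.Sga4h.EtaleRes Groth.Agent.Etrest.ModAb
  Groth.Agent.Sga4h.H299.ExtBC Groth.Agent.Etcore.LPullComp Groth.Agent.Etrest.ModCons

attribute [local instance] jCont

variable (Λ : Type (u + 1)) [CommRing Λ]

/-- `R^q f_!`, for `f = j ≫ p` with `j` an open immersion and `p` proper. -/
noncomputable def RS {X P S : Scheme.{u}} (j : X ⟶ P) [IsOpenImmersion j] (p : P ⟶ S) (q : ℕ) :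
    EtModW.Mod Λ X ⥤ EtModW.Mod Λ S :=
  ext Λ j ⋙ EtModW.Rpush Λ p q

instance additive_RS {X P S : Scheme.{u}} (j : X ⟶ P) [IsOpenImmersion j] (p : P ⟶ S) (q : ℕ) :
    (RS Λ j p q).Additive :=
  inferInstanceAs (ext Λ j ⋙ EtModW.Rpush Λ p q).Additive

/-- The underlying abelian sheaf of `R^q f_! M`. -/
noncomputable def rsAb {X P S : Scheme.{u}} (j : X ⟶ P) [IsOpenImmersion j] (p : P ⟶ S) (q : ℕ) :
    RS Λ j p q ⋙ ab Λ S ≅ ab Λ X ⋙ EtShriek.extZero j ⋙ EtCoh.Rpush p q :=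
  Functor.isoWhiskerLeft (ext Λ j) (rpushIso Λ p q) ≪≫
    Functor.isoWhiskerRight (extAb Λ j) (EtCoh.Rpush p q)

/-- Extensions by zero compose. -/
noncomputable def extComp {U V X : Scheme.{u}} (j : U ⟶ V) (k : V ⟶ X) [Etale j] [Etale k]
    [Etale (j ≫ k)] : ext Λ j ⋙ ext Λ k ≅ ext Λ (j ≫ k) :=
  Adjunction.leftAdjointUniq
    (((extResAdj Λ j).comp (extResAdj Λ k)).ofNatIsoRight (X144Res.resComp Λ k j).symm)
    (extResAdj Λ (j ≫ k))

/-- Extension by zero along equal morphisms. -/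
noncomputable def extCongr {U X : Scheme.{u}} {j k : U ⟶ X} (h : j = k) [Etale j] [Etale k] :
    ext Λ j ≅ ext Λ k :=
  Adjunction.leftAdjointUniq ((extResAdj Λ j).ofNatIsoRight (X144Res.resCongr Λ h)) (extResAdj Λ k)

/-- Higher direct images along equal morphisms. -/
noncomputable def rpushCongr {X Y : Scheme.{u}} {f g : X ⟶ Y} (h : f = g) (q : ℕ) :
    EtModW.Rpush Λ f q ≅ EtModW.Rpush Λ g q :=
  RDExact.congrIso (pushCongr Λ h) q

/-- `R^q (f g)_* = R^q` of the composite of the direct images. -/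
noncomputable def rpushCompIso {X Y Z : Scheme.{u}} (f : X ⟶ Y) (g : Y ⟶ Z) (q : ℕ) :
    (EtModW.push Λ f ⋙ EtModW.push Λ g).rightDerived q ≅ EtModW.Rpush Λ (f ≫ g) q :=
  RDExact.congrIso (pushComp Λ g f) q

theorem injective_push {X Y : Scheme.{u}} (f : X ⟶ Y) (I : EtModW.Mod Λ X) (hI : Injective I) :
    Injective ((EtModW.push Λ f).obj I) := by
  have : PreservesFiniteLimits (EtModW.pull Λ f) := inferInstance
  have : (EtModW.pull Λ f).PreservesMonomorphisms := inferInstance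
  exact Injective.injective_of_adjoint (pullPushAdj Λ f) I

/-- One row degeneration of the Leray spectral sequence of a composite. -/
theorem leray_push {X Y Z : Scheme.{u}} (f : X ⟶ Y) (g : Y ⟶ Z) (a : ℕ) (M : EtModW.Mod Λ X)
    (hq : ∀ q, q ≠ a → IsZero ((EtModW.Rpush Λ f q).obj M)) (n : ℕ) :
    Nonempty ((EtModW.Rpush Λ (f ≫ g) (n + a)).obj M ≅
      (EtModW.Rpush Λ g n).obj ((EtModW.Rpush Λ f a).obj M)) := by
  obtain ⟨e⟩ := Row.one_row (EtModW.push Λ f) (EtModW.push Λ g) (injective_push Λ f) a M hq n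
  exact ⟨((rpushCompIso Λ f g (n + a)).app M).symm ≪≫ e⟩

/-- Vanishing below the first nonzero row. -/
theorem isZero_push_below {X Y Z : Scheme.{u}} (f : X ⟶ Y) (g : Y ⟶ Z) (a : ℕ) (M : EtModW.Mod Λ X)
    (hq : ∀ q, q < a → IsZero ((EtModW.Rpush Λ f q).obj M)) (m : ℕ) (hm : m < a) :
    IsZero ((EtModW.Rpush Λ (f ≫ g) m).obj M) :=
  (Row.isZero_below (EtModW.push Λ f) (EtModW.push Λ g) (injective_push Λ f) a M hq m hm).of_iso
    ((rpushCompIso Λ f g m).app M).symm

end Groth.Agent.Sga4h.H299.Rs
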