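import Groth.Agent.Sga5.H835.InvEquiv
import Groth.Agent.Sga5.H835.MonEt
import Groth.Agent.Sga4h.BidTens
import Groth.Agent.Sga4h.H299.Rs
import Groth.Prelude.Def_FixPt

/-!
# Projection formula for invertible sheaves of modules

`T L = L ⊗ -`.  For `L`, `L'` with `L ⊗ L' ≅ Λ`:

* `tEquiv` : `T L` is an equivalence with inverse `T L'`;
* `pullT` : `T L ⋙ f^* ≅ f^* ⋙ T (f^* L)`;
* `pushT` : `T (f^* L) ⋙ f_* ≅ f_* ⋙ T L`; `rpushT` : the same for `R^q f_*`;
* `extT` : `T (j^* L) ⋙ j_! ≅ j_! ⋙ T L`;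
* `rsT` : `T ((j ≫ p)^* L) ⋙ RS j p q ≅ RS j p q ⋙ T L`.
-/

set_option autoImplicit false
universe u

open CategoryTheory CategoryTheory.Limits AlgebraicGeometry Opposite MonoidalCategory

namespace Groth.Agent.Sga4h.H299.Proj

open Groth.Agent.Sga4h.ModRestr Groth.Agent.Sga4h.EtaleRes Groth.Agent.Etrest.ModAb
  Groth.Agent.Sga4h.H299.ExtBC Groth.Agent.Etcore.LPullComp Groth.Agent.Etrest.ModCons
  Groth.Agent.Sga4h.H299.Rs Groth.Agent.Sga4h.BidTens
open scoped Groth.Agent.Sga5.H835.MonEt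

attribute [local instance] jCont

variable {Λ : Type (u + 1)} [CommRing Λ] {X Y : Scheme.{u}}

/-- `L ⊗ -` -/
noncomputable abbrev T (L : EtModW.Mod Λ X) : EtModW.Mod Λ X ⥤ EtModW.Mod Λ X :=
  (EtModD.tensorBi Λ X).obj L

/-- Isomorphic sheaves give isomorphic tensor functors. -/
noncomputable def tCongr {L L' : EtModW.Mod Λ X} (e : L ≅ L') : T L ≅ T L' :=
  (EtModD.tensorBi Λ X).mapIso e

/-- `L ⊗ (L' ⊗ -) ≅ (L ⊗ L') ⊗ -` -/
noncomputable def tAssoc (L L' : EtModW.Mod Λ X) : T L' ⋙ T L ≅ T ((T L).obj L') :=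
  NatIso.ofComponents (fun N => (α_ L L' N).symm) (fun g =>
    MonoidalCategory.associator_inv_naturality_right L L' g)

/-- `Λ ⊗ - ≅ 𝟭` -/
noncomputable def tUnit (X : Scheme.{u}) : T (EtModW.constMod Λ X Λ) ≅ 𝟭 (EtModW.Mod Λ X) :=
  NatIso.ofComponents (fun N => λ_ N) (fun g => MonoidalCategory.leftUnitor_naturality g)

/-- `L ⊗ L' ≅ L' ⊗ L` -/
noncomputable def tSwap (L L' : EtModW.Mod Λ X) : (T L).obj L' ≅ (T L').obj L := β_ L L'

section

variable {L L' : EtModW.Mod Λ X} (p : (T L).obj L' ≅ EtModW.constMod Λ X Λ)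

/-- Tensoring with an invertible sheaf is an equivalence. -/
noncomputable def tEquiv : EtModW.Mod Λ X ≌ EtModW.Mod Λ X :=
  CategoryTheory.Equivalence.mk (T L) (T L')
    ((tUnit X).symm ≪≫ tCongr p.symm ≪≫ tCongr (tSwap L L') ≪≫ (tAssoc L' L).symm)
    (tAssoc L L' ≪≫ tCongr p ≪≫ tUnit X)

/-- `T L ⊣ T L'` -/
noncomputable def tAdj : T L ⊣ T L' := (tEquiv p).toAdjunction

/-- `T L' ⊣ T L` -/
noncomputable def tAdj' : T L' ⊣ T L := (tEquiv p).symm.toAdjunction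

include p in
theorem isEquivalence_T : (T L).IsEquivalence := (tEquiv p).isEquivalence_functor

end

variable (f : X ⟶ Y)

/-- `T L ⋙ f^* ≅ f^* ⋙ T (f^* L)` -/
noncomputable def pullT (L : EtModW.Mod Λ Y) :
    T L ⋙ EtModW.pull Λ f ≅ EtModW.pull Λ f ⋙ T ((EtModW.pull Λ f).obj L) :=
  (pullTensor Λ f).app L

/-- The inverse image of an inverse pair. -/
noncomputable def pairPull {L L' : EtModW.Mod Λ Y} (p : (T L).obj L' ≅ EtModW.constMod Λ Y Λ) :
    (T ((EtModW.pull Λ f).obj L)).obj ((EtModW.pull Λ f).obj L') ≅ EtModW.constMod Λ X Λ :=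
  ((pullT f L).app L').symm ≪≫ (EtModW.pull Λ f).mapIso p ≪≫ FixPt.pullUnit f

variable {L L' : EtModW.Mod Λ Y} (p : (T L).obj L' ≅ EtModW.constMod Λ Y Λ)

/-- `T (f^* L) ⋙ f_* ≅ f_* ⋙ T L` -/
noncomputable def pushT : T ((EtModW.pull Λ f).obj L) ⋙ EtModW.push Λ f ≅ EtModW.push Λ f ⋙ T L :=
  Adjunction.rightAdjointUniq ((pullPushAdj Λ f).comp (tAdj' (pairPull f p)))
    (((tAdj' p).comp (pullPushAdj Λ f)).ofNatIsoLeft (pullT f L'))

include p in
theorem preservesFiniteLimits_T : PreservesFiniteLimits (T L) :=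
  have := isEquivalence_T p
  inferInstance

include p in
theorem additive_T : (T L).Additive := (tAdj p).left_adjoint_additive

include p in
theorem injective_T (I : EtModW.Mod Λ Y) (hI : Injective I) : Injective ((T L).obj I) := by
  have h1 : (T L').IsEquivalence := isEquivalence_T ((tSwap L' L) ≪≫ p)
  have : (T L').PreservesMonomorphisms := inferInstance
  exact Injective.injective_of_adjoint (tAdj' p) I

/-- `T (f^* L) ⋙ R^q f_* ≅ R^q f_* ⋙ T L` -/
noncomputable def rpushT (q : ℕ) :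
    T ((EtModW.pull Λ f).obj L) ⋙ EtModW.Rpush Λ f q ≅ EtModW.Rpush Λ f q ⋙ T L :=
  have _h1 := isEquivalence_T p
  have _h2 := isEquivalence_T (pairPull f p)
  have _h3 : (T L).Additive := additive_T p
  have _h4 : (T ((EtModW.pull Λ f).obj L)).Additive := additive_T (pairPull f p)
  (RDExact.preIso (T ((EtModW.pull Λ f).obj L)) (EtModW.push Λ f)
    (fun I hI => injective_T (pairPull f p) I hI) q).symm ≪≫
    RDExact.congrIso (pushT f p) q ≪≫ RDExact.postIso (EtModW.push Λ f) (T L) q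

section

variable {U : Scheme.{u}} (j : U ⟶ Y) [Etale j]

/-- `T L ⋙ j^* ≅ j^* ⋙ T (j^* L)` for the restriction along an étale morphism. -/
noncomputable def resT (L : EtModW.Mod Λ Y) :
    T L ⋙ res Λ j ≅ res Λ j ⋙ T ((EtModW.pull Λ j).obj L) :=
  Functor.isoWhiskerLeft (T L) (resPull Λ j).symm ≪≫ pullT j L ≪≫
    Functor.isoWhiskerRight (resPull Λ j) _

/-- `T (j^* L) ⋙ j_! ≅ j_! ⋙ T L` -/
noncomputable def extT : T ((EtModW.pull Λ j).obj L) ⋙ ext Λ j ≅ ext Λ j ⋙ T L :=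
  Adjunction.leftAdjointUniq ((tAdj (pairPull j p)).comp (extResAdj Λ j))
    (((extResAdj Λ j).comp (tAdj p)).ofNatIsoRight (resT j L'))

end

/-- **Projection formula** for `R^q f_!` and an invertible sheaf, two step form. -/
noncomputable def rsT' {U P S : Scheme.{u}} (j : U ⟶ P) [IsOpenImmersion j] (r : P ⟶ S)
    {L L' : EtModW.Mod Λ S} (p : (T L).obj L' ≅ EtModW.constMod Λ S Λ) (q : ℕ) :
    T ((EtModW.pull Λ j).obj ((EtModW.pull Λ r).obj L)) ⋙ RS Λ j r q ≅ RS Λ j r q ⋙ T L :=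
  Functor.isoWhiskerRight (extT (pairPull r p) j) (EtModW.Rpush Λ r q) ≪≫
    Functor.isoWhiskerLeft (ext Λ j) (rpushT r p q)

/-- **Projection formula** for `R^q f_!` and an invertible sheaf. -/
noncomputable def rsT {U P S : Scheme.{u}} (j : U ⟶ P) [IsOpenImmersion j] (r : P ⟶ S) (f : U ⟶ S)
    (hf : j ≫ r = f) {L L' : EtModW.Mod Λ S} (p : (T L).obj L' ≅ EtModW.constMod Λ S Λ) (q : ℕ) :
    T ((EtModW.pull Λ f).obj L) ⋙ RS Λ j r q ≅ RS Λ j r q ⋙ T L :=
  Functor.isoWhiskerRight (tCongr (((Groth.Agent.Etcore.LPullComp.pullComp Λ j r ≪≫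
    Groth.Agent.Etcore.LPullComp.pullCongr Λ hf).symm).app L)) (RS Λ j r q) ≪≫ rsT' j r p q

end Groth.Agent.Sga4h.H299.Proj
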