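import Groth.Agent.Sga4h.H299.PbcMod
import Groth.Agent.Sga4h.H299.Rs

/-!
# Proper base change for `R^q f_!` of sheaves of modules over a torsion ring

* `nonempty_rs_pbc` : `g^* R^q f_! M ≅ R^q f'_! g'^* M`;
* `exists_baseChange` : the base change of a compactification.
-/

set_option autoImplicit false
universe u

open CategoryTheory CategoryTheory.Limits AlgebraicGeometry Opposite

namespace Groth.Agent.Sga4h.H299.RsBC

open Groth.Agent.Sga4h.ModRestr Groth.Agent.Sga4h.EtaleRes Groth.Agent.Etrest.ModAb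
  Groth.Agent.Sga4h.H299.ExtBC Groth.Agent.Sga4h.H299.Rs Groth.Agent.Sga4h.H299.PbcMod

attribute [local instance] jCont

variable {Λ : Type (u + 1)} [CommRing Λ]

/-- Proper base change for `R^q f_!`. -/
theorem nonempty_rs_pbc {n : ℕ} (hn0 : 0 < n) (hn : (n : Λ) = 0) {X P S X' P' S' : Scheme.{u}}
    {j : X ⟶ P} {p : P ⟶ S} {j' : X' ⟶ P'} {p' : P' ⟶ S'} {gX : X' ⟶ X} {gP : P' ⟶ P} {g : S' ⟶ S}
    [IsOpenImmersion j] [IsOpenImmersion j'] [IsProper p]
    (h1 : IsPullback gX j' j gP) (h2 : IsPullback gP p' p g) (q : ℕ) (M : EtModW.Mod Λ X) :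
    Nonempty ((EtModW.pull Λ g).obj ((RS Λ j p q).obj M) ≅
      (RS Λ j' p' q).obj ((EtModW.pull Λ gX).obj M)) := by
  obtain ⟨e⟩ := nonempty_pbc h2 hn0 hn ((ext Λ j).obj M) q
  exact ⟨e ≪≫ (EtModW.Rpush Λ p' q).mapIso ((extPull Λ j gP j' gX h1.flip).symm.app M)⟩

/-- The base change of a compactification. -/
theorem exists_baseChange {X P S X' S' : Scheme.{u}} (j : X ⟶ P) (p : P ⟶ S) [IsOpenImmersion j]
    [IsProper p] {g : S' ⟶ S} {g₁ : X' ⟶ X} {g₂ : X' ⟶ S'} (h : IsPullback g₁ g₂ (j ≫ p) g) :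
    ∃ (P' : Scheme.{u}) (j' : X' ⟶ P') (p' : P' ⟶ S') (gP : P' ⟶ P), IsOpenImmersion j' ∧ IsProper p' ∧
      j' ≫ p' = g₂ ∧ IsPullback g₁ j' j gP ∧ IsPullback gP p' p g := by
  let j' : X' ⟶ pullback p g := pullback.lift (g₁ ≫ j) g₂ (by rw [Category.assoc, h.w])
  have w1 : j' ≫ pullback.fst p g = g₁ ≫ j := pullback.lift_fst _ _ _
  have w2 : j' ≫ pullback.snd p g = g₂ := pullback.lift_snd _ _ _
  have t : IsPullback (pullback.fst p g) (pullback.snd p g) p g := IsPullback.of_hasPullback p g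
  have s : IsPullback g₁ j' j (pullback.fst p g) := IsPullback.of_bot (by rw [w2]; exact h) w1.symm t
  exact ⟨pullback p g, j', pullback.snd p g, pullback.fst p g,
    MorphismProperty.of_isPullback s inferInstance, inferInstance, w2, s, t⟩

end Groth.Agent.Sga4h.H299.RsBC
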