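import Groth.Agent.Sga4h.H299.Kun
import Mathlib.LinearAlgebra.Dimension.FreeAndStrongRankCondition
import Mathlib.FieldTheory.Finiteness

/-!
# The Künneth formula over a separably closed field, one factor with cohomology in one degree

`X --jX--> P --p--> Spec K`, `Y --jY--> Q --r--> Spec K`, `Z = X ×_K Y`, `Z --l--> E --e--> Spec K`, all
compactifications; `M` on `X`, `N` invertible on `Y` (with inverse `N'`).

* `nonempty_kunneth` : if `R^q f_! M = 0` for `q ≠ a` and `R^a f_! M ≅ Λ^d` then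
  `R^(m+a) (M ⊠ N) ≅ (R^m N)^d`;
* `card_kunneth` : the same for the orders of the groups `H^n(E, l_! (M ⊠ N))`, `Λ` a finite field;
* `subsingleton_kunneth`, `subsingleton_kunneth_below` : vanishing.
-/

set_option autoImplicit false
universe u

open CategoryTheory CategoryTheory.Limits AlgebraicGeometry Opposite

namespace Groth.Agent.Sga4h.H299.KunF

open Groth.Agent.Sga4h.ModRestr Groth.Agent.Sga4h.EtaleRes Groth.Agent.Etrest.ModAb
  Groth.Agent.Sga4h.H299.ExtBC Groth.Agent.Sga4h.H299.Rs Groth.Agent.Sga4h.H299.AbBasic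
  Groth.Agent.Sga4h.H299.Proj Groth.Agent.Sga4h.H299.Leray Groth.Agent.Sga4h.H299.RsBC
  Groth.Agent.Sga4h.H299.Hc Groth.Agent.Sga4h.H299.Kun

attribute [local instance] jCont Abelian.hasFiniteBiproducts

section linalg

theorem nonempty_equiv_of_card {k : Type u} [Field k] [Finite k] {V : Type u} [AddCommGroup V] [Module k V]
    {d : ℕ} (h : Nat.card V = Nat.card k ^ d) : Nonempty (V ≃ₗ[k] (Fin d → k)) := by
  have h0 : Nat.card V ≠ 0 := by
    rw [h]
    exact pow_ne_zero _ Nat.card_pos.ne'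
  have hV : Finite V := Nat.finite_of_card_ne_zero h0
  have h1 : Nat.card V = Nat.card k ^ Module.finrank k V := Module.natCard_eq_pow_finrank
  have h2 : Module.finrank k V = d :=
    Nat.pow_right_injective Finite.one_lt_card (h1.symm.trans h)
  refine ⟨LinearEquiv.ofFinrankEq V (Fin d → k) ?_⟩
  rw [h2, Module.finrank_fin_fun]

end linalg

section

variable {Λ : Type (u + 1)} [CommRing Λ] {K : Type u} [Field K] [IsSepClosed K]
  {X P Y Q Z E : Scheme.{u}} {jX : X ⟶ P} {p : P ⟶ Spec (CommRingCat.of K)} {jY : Y ⟶ Q}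
  {r : Q ⟶ Spec (CommRingCat.of K)} {l : Z ⟶ E} {e : E ⟶ Spec (CommRingCat.of K)} [IsOpenImmersion jX]
  [IsProper p] [IsOpenImmersion jY] [IsProper r] [IsOpenImmersion l] [IsProper e] {pr1 : Z ⟶ X}
  {pr2 : Z ⟶ Y}

omit [IsSepClosed K] in
theorem compactSpace_of_proper (r : Q ⟶ Spec (CommRingCat.of K)) [IsProper r] : CompactSpace Q :=
  QuasiCompact.compactSpace_of_compactSpace r

omit [IsSepClosed K] in
theorem quasiSeparatedSpace_of_proper (r : Q ⟶ Spec (CommRingCat.of K)) [IsProper r] :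
    QuasiSeparatedSpace Q :=
  quasiSeparatedSpace_of_quasiSeparated r

/-- **Künneth formula** over a separably closed field, when `M` has cohomology in a single degree. -/
theorem nonempty_kunneth {n : ℕ} (hn0 : 0 < n) (hn : (n : Λ) = 0) [QuasiCompact jX] [QuasiCompact jY]
    (h : IsPullback pr1 pr2 (jX ≫ p) (jY ≫ r)) (w : l ≫ e = pr2 ≫ jY ≫ r)
    (M : EtModW.Mod Λ X) {N N' : EtModW.Mod Λ Y} (pN : (T N).obj N' ≅ EtModW.constMod Λ Y Λ) (a d : ℕ)
    (hM : ∀ q, q ≠ a → IsZero ((RS Λ jX p q).obj M))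
    (hd : ((ModPoint.Γ Λ _).obj ((RS Λ jX p a).obj M) : Type (u + 1)) ≃ₗ[Λ] (Fin d → Λ)) (m : ℕ) :
    Nonempty ((RS Λ l e (m + a)).obj ((T ((EtModW.pull Λ pr2).obj N)).obj ((EtModW.pull Λ pr1).obj M)) ≅
      ⨁ fun _ : Fin d => (RS Λ jY r m).obj N) := by
  have := compactSpace_of_proper r
  have := quasiSeparatedSpace_of_proper r
  obtain ⟨e1⟩ := nonempty_kunneth_rel hn0 hn h w M pN a hM m
  obtain ⟨e2⟩ := nonempty_iso_cstPow _ hd
  let e3 : (EtModW.pull Λ (jY ≫ r)).obj ((RS Λ jX p a).obj M) ≅ cstPow Λ Y d :=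
    (EtModW.pull Λ (jY ≫ r)).mapIso e2 ≪≫ (FixPt.pullConstIso (jY ≫ r)).app (ModuleCat.of Λ (Fin d → Λ))
  exact ⟨e1 ≪≫ (RS Λ jY r m).mapIso ((T N).mapIso e3 ≪≫ tensorCstPow pN d) ≪≫
    (RS Λ jY r m).mapBiproduct _⟩

end

section

variable {Λ : Type (u + 1)} [Field Λ] [Finite Λ] {K : Type u} [Field K] [IsSepClosed K]
  {X P Y Q Z E : Scheme.{u}} {jX : X ⟶ P} {p : P ⟶ Spec (CommRingCat.of K)} {jY : Y ⟶ Q}
  {r : Q ⟶ Spec (CommRingCat.of K)} {l : Z ⟶ E} {e : E ⟶ Spec (CommRingCat.of K)} [IsOpenImmersion jX]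
  [IsProper p] [IsOpenImmersion jY] [IsProper r] [IsOpenImmersion l] [IsProper e] {pr1 : Z ⟶ X}
  {pr2 : Z ⟶ Y}

instance additive_Γ (Λ : Type (u + 1)) [CommRing Λ] (X : Scheme.{u}) : (ModPoint.Γ Λ X).Additive where
  map_add := rfl

omit [Finite Λ] [IsSepClosed K] in
theorem card_biproduct (F : EtModW.Mod Λ (Spec (CommRingCat.of K))) (d : ℕ) :
    Nat.card ((ModPoint.Γ Λ _).obj (⨁ fun _ : Fin d => F) : Type (u + 1)) =
      Nat.card ((ModPoint.Γ Λ _).obj F : Type (u + 1)) ^ d := by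
  have e1 : (ModPoint.Γ Λ (Spec (CommRingCat.of K))).obj (⨁ fun _ : Fin d => F) ≅
      ModuleCat.of Λ (∀ _ : Fin d, (ModPoint.Γ Λ (Spec (CommRingCat.of K))).obj F) :=
    (ModPoint.Γ Λ (Spec (CommRingCat.of K))).mapBiproduct _ ≪≫ ModuleCat.biproductIsoPi _
  rw [Nat.card_congr e1.toLinearEquiv.toEquiv]
  change Nat.card (Fin d → _) = _
  rw [Nat.card_fun, Nat.card_fin]

/-- **Künneth formula** for the orders of the cohomology groups with compact supports. -/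
theorem card_kunneth {n : ℕ} (hn0 : 0 < n) (hn : (n : Λ) = 0) [QuasiCompact jX] [QuasiCompact jY]
    (h : IsPullback pr1 pr2 (jX ≫ p) (jY ≫ r)) (w : l ≫ e = pr2 ≫ jY ≫ r)
    (M : EtModW.Mod Λ X) {N N' : EtModW.Mod Λ Y} (pN : (T N).obj N' ≅ EtModW.constMod Λ Y Λ) (a d : ℕ)
    (hM : ∀ q, q ≠ a → Subsingleton (EtCoh.H P ((EtShriek.extZero jX).obj ((ab Λ X).obj M)) q))
    (hd : Nat.card (EtCoh.H P ((EtShriek.extZero jX).obj ((ab Λ X).obj M)) a) = Nat.card Λ ^ d) (m : ℕ) :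
    Nat.card (EtCoh.H E ((EtShriek.extZero l).obj ((ab Λ Z).obj
      ((T ((EtModW.pull Λ pr2).obj N)).obj ((EtModW.pull Λ pr1).obj M)))) (m + a)) =
    Nat.card (EtCoh.H Q ((EtShriek.extZero jY).obj ((ab Λ Y).obj N)) m) ^ d := by
  obtain ⟨e1⟩ := nonempty_hcEquiv jX p a M
  rw [← Nat.card_congr e1.toEquiv] at hd
  obtain ⟨e2⟩ := nonempty_equiv_of_card hd
  obtain ⟨e3⟩ := nonempty_kunneth hn0 hn h w M pN a d (fun q hq => (isZero_iff jX p q M).2 (hM q hq)) e2 m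
  obtain ⟨e4⟩ := nonempty_hcEquiv l e (m + a)
    ((T ((EtModW.pull Λ pr2).obj N)).obj ((EtModW.pull Λ pr1).obj M))
  obtain ⟨e5⟩ := nonempty_hcEquiv jY r m N
  rw [← Nat.card_congr e4.toEquiv, ← Nat.card_congr e5.toEquiv,
    Nat.card_congr ((ModPoint.Γ Λ _).mapIso e3).toLinearEquiv.toEquiv]
  exact card_biproduct _ d

omit [Finite Λ] in
theorem subsingleton_kunneth_below {n : ℕ} (hn0 : 0 < n) (hn : (n : Λ) = 0) [QuasiCompact jX]
    [QuasiCompact jY] (h : IsPullback pr1 pr2 (jX ≫ p) (jY ≫ r)) (w : l ≫ e = pr2 ≫ jY ≫ r)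
    (M : EtModW.Mod Λ X) {N N' : EtModW.Mod Λ Y} (pN : (T N).obj N' ≅ EtModW.constMod Λ Y Λ) (a : ℕ)
    (hM : ∀ q, q < a → Subsingleton (EtCoh.H P ((EtShriek.extZero jX).obj ((ab Λ X).obj M)) q)) (m : ℕ)
    (hm : m < a) :
    Subsingleton (EtCoh.H E ((EtShriek.extZero l).obj ((ab Λ Z).obj
      ((T ((EtModW.pull Λ pr2).obj N)).obj ((EtModW.pull Λ pr1).obj M)))) m) := by
  have := compactSpace_of_proper r
  have := quasiSeparatedSpace_of_proper r
  exact (isZero_iff l e m _).1 (isZero_kunneth_below hn0 hn h w M pN a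
    (fun q hq => (isZero_iff jX p q M).2 (hM q hq)) m hm)

omit [Finite Λ] in
theorem subsingleton_kunneth {n : ℕ} (hn0 : 0 < n) (hn : (n : Λ) = 0) [QuasiCompact jX]
    [QuasiCompact jY] (h : IsPullback pr1 pr2 (jX ≫ p) (jY ≫ r)) (w : l ≫ e = pr2 ≫ jY ≫ r)
    (M : EtModW.Mod Λ X) {N N' : EtModW.Mod Λ Y} (pN : (T N).obj N' ≅ EtModW.constMod Λ Y Λ)
    (hM : ∀ q, Subsingleton (EtCoh.H P ((EtShriek.extZero jX).obj ((ab Λ X).obj M)) q)) (m : ℕ) :
    Subsingleton (EtCoh.H E ((EtShriek.extZero l).obj ((ab Λ Z).obj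
      ((T ((EtModW.pull Λ pr2).obj N)).obj ((EtModW.pull Λ pr1).obj M)))) m) :=
  subsingleton_kunneth_below hn0 hn h w M pN (m + 1) (fun q _ => hM q) m (by omega)

end

end Groth.Agent.Sga4h.H299.KunF
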