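import Groth.Agent.Sga4h.H299.HcK

/-!
# The long exact sequence of cohomology with compact supports, group form, and orders of the groups

`U --j--> X <--b-- Z`, `j` open, `b` closed, complementary; all three compactified over `Spec K`, `K` separably
closed.

* `exists_hcLes` : the exact sequence `⋯ → H_c^q(U) → H_c^q(X) → H_c^q(Z) → H_c^(q+1)(U) → ⋯`;
* `card_open` : if `X` has cohomology in degree `d + 1` only and `Z` in degree `d` only then `U` has cohomology in
  degree `d + 1` only, of order the product;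
* `card_total` : if `U` and `Z` have cohomology in degree `d` only then `X` too, of order the product.
-/

set_option autoImplicit false
universe u

open CategoryTheory CategoryTheory.Limits AlgebraicGeometry Opposite

namespace Groth.Agent.Sga4h.H299.HcCard

open Groth.Agent.Sga4h.ModRestr Groth.Agent.Sga4h.EtaleRes Groth.Agent.Etrest.ModAb
  Groth.Agent.Sga4h.H299.ExtBC Groth.Agent.Sga4h.H299.Rs Groth.Agent.Sga4h.H299.AbBasic
  Groth.Agent.Sga4h.H299.Leray Groth.Agent.Sga4h.H299.Hc Groth.Agent.Sga4h.H299.Exc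
  Groth.Agent.Sga4h.H299.HcK

attribute [local instance] jCont

section alg

variable {A B C : Type*} [AddCommGroup A] [AddCommGroup B] [AddCommGroup C]

/-- Orders in a short exact sequence. -/
theorem card_mul_of_exact (f : A →+ B) (g : B →+ C) (hf : Function.Injective f)
    (h : Function.Exact f g) (hg : Function.Surjective g) : Nat.card B = Nat.card A * Nat.card C := by
  have h1 : g.ker = f.range := by
    ext x
    exact h x
  have h2 : Nat.card (B ⧸ g.ker) = Nat.card C :=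
    Nat.card_congr (QuotientAddGroup.quotientKerEquivOfSurjective g hg).toEquiv
  have h3 : Nat.card f.range = Nat.card A := Nat.card_congr (AddMonoidHom.ofInjective hf).symm.toEquiv
  rw [AddSubgroup.card_eq_card_quotient_mul_card_addSubgroup g.ker, h2, h1, h3, mul_comm]

theorem subsingleton_of_exact (f : A →+ B) (g : B →+ C) (h : Function.Exact f g) [Subsingleton A]
    [Subsingleton C] : Subsingleton B := by
  refine ⟨fun x y => ?_⟩
  have h0 : ∀ z : B, z = 0 := by
    intro z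
    obtain ⟨a, ha⟩ := (h z).1 (Subsingleton.elim _ _)
    rw [← ha, Subsingleton.elim a 0, map_zero]
  rw [h0 x, h0 y]

theorem injective_of_exact (f : A →+ B) (g : B →+ C) (h : Function.Exact f g) [Subsingleton A] :
    Function.Injective g := by
  rw [injective_iff_map_eq_zero]
  intro x hx
  obtain ⟨a, ha⟩ := (h x).1 hx
  rw [← ha, Subsingleton.elim a 0, map_zero]

theorem surjective_of_exact (f : A →+ B) (g : B →+ C) (h : Function.Exact f g) [Subsingleton C] :
    Function.Surjective f := by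
  intro x
  exact (h x).1 (Subsingleton.elim _ _)

/-- Transport of exactness. -/
theorem exact_transport {A' B' C' : Type*} [AddCommGroup A'] [AddCommGroup B'] [AddCommGroup C'] (a : A ≃+ A')
    (b : B ≃+ B') (c : C ≃+ C') (f : A →+ B) (g : B →+ C) (h : Function.Exact f g) :
    Function.Exact ((b.toAddMonoidHom.comp f).comp a.symm.toAddMonoidHom)
      ((c.toAddMonoidHom.comp g).comp b.symm.toAddMonoidHom) := by
  intro y
  constructor
  · intro hy
    have h1 : c (g (b.symm y)) = 0 := hy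
    obtain ⟨x, hx⟩ := (h (b.symm y)).1 (by simpa using h1)
    refine ⟨a x, ?_⟩
    change b (f (a.symm (a x))) = y
    rw [a.symm_apply_apply, hx, b.apply_symm_apply]
  · rintro ⟨x, hx⟩
    change c (g (b.symm y)) = 0
    have h1 : b (f (a.symm x)) = y := hx
    rw [← h1, b.symm_apply_apply, (h _).2 ⟨_, rfl⟩, map_zero]

end alg

variable {Λ : Type (u + 1)} [CommRing Λ] {K : Type u} [Field K] [IsSepClosed K]

/-- The additive map on global sections. -/
noncomputable def gmap {F G : EtModW.Mod Λ (Spec (CommRingCat.of K))} (φ : F ⟶ G) :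
    ((ModPoint.Γ Λ _).obj F : Type (u + 1)) →+ ((ModPoint.Γ Λ _).obj G : Type (u + 1)) :=
  ((ModPoint.Γ Λ _).map φ).hom.toAddMonoidHom

theorem exact_gmap {F G H : EtModW.Mod Λ (Spec (CommRingCat.of K))} {φ : F ⟶ G} {ψ : G ⟶ H} {w : φ ≫ ψ = 0}
    (h : (ShortComplex.mk φ ψ w).Exact) : Function.Exact (gmap φ) (gmap ψ) := by
  have h1 : ((ShortComplex.mk φ ψ w).map (ModPoint.Γ Λ (Spec (CommRingCat.of K)))).Exact := h.map _
  exact (ShortComplex.ShortExact.moduleCat_exact_iff_function_exact _).1 h1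

theorem injective_gmap {F G : EtModW.Mod Λ (Spec (CommRingCat.of K))} {φ : F ⟶ G} [Mono φ] :
    Function.Injective (gmap φ) := by
  have h1 : Mono ((ModPoint.Γ Λ (Spec (CommRingCat.of K))).map φ) := inferInstance
  exact (ModuleCat.mono_iff_injective _).1 h1

variable {U X Z P PU PZ : Scheme.{u}} (j : U ⟶ X) [IsOpenImmersion j] (b : Z ⟶ X) [IsClosedImmersion b]
  (l : X ⟶ P) (p : P ⟶ Spec (CommRingCat.of K)) (lU : U ⟶ PU) (pU : PU ⟶ Spec (CommRingCat.of K))
  (lZ : Z ⟶ PZ) (pZ : PZ ⟶ Spec (CommRingCat.of K))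
  [IsOpenImmersion l] [IsProper p] [IsOpenImmersion lU] [IsProper pU] [IsOpenImmersion lZ] [IsProper pZ]
  [QuasiCompact l] [QuasiCompact j]

/-- The sections of `R^q p_* j_! F` over `Spec K`: the group `H_c^q(X, F)`. -/
noncomputable abbrev GG {X P : Scheme.{u}} (l : X ⟶ P) [IsOpenImmersion l] (p : P ⟶ Spec (CommRingCat.of K))
    (F : EtModW.Mod Λ X) (q : ℕ) : ModuleCat.{u + 1} Λ :=
  (ModPoint.Γ Λ _).obj ((RS Λ l p q).obj F)

omit [IsProper p] [QuasiCompact l] in
theorem subsingleton_GG_iff (F : EtModW.Mod Λ X) (q : ℕ) :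
    Subsingleton (GG l p F q) ↔ Subsingleton (HcG l F q) := by
  obtain ⟨e⟩ := nonempty_hcEquiv l p q F
  exact e.toEquiv.subsingleton_congr

omit [IsProper p] [QuasiCompact l] in
theorem card_GG (F : EtModW.Mod Λ X) (q : ℕ) :
    Nat.card (GG l p F q) = Nat.card (HcG l F q) := by
  obtain ⟨e⟩ := nonempty_hcEquiv l p q F
  exact Nat.card_congr e.toEquiv

/-- **The long exact sequence of cohomology with compact supports.** -/
theorem exists_hcLes {n : ℕ} (hn0 : 0 < n) (hn : (n : Λ) = 0) (hr : Set.range j = (Set.range b)ᶜ)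
    (wU : lU ≫ pU = j ≫ l ≫ p) (wZ : lZ ≫ pZ = b ≫ l ≫ p) (F : EtModW.Mod Λ X) :
    ∃ (α : ∀ q, GG lU pU ((EtModW.pull Λ j).obj F) q →+ GG l p F q)
      (β : ∀ q, GG l p F q →+ GG lZ pZ ((EtModW.pull Λ b).obj F) q)
      (δ : ∀ q, GG lZ pZ ((EtModW.pull Λ b).obj F) q →+ GG lU pU ((EtModW.pull Λ j).obj F) (q + 1)),
      Function.Injective (α 0) ∧ (∀ q, Function.Exact (α q) (β q)) ∧ (∀ q, Function.Exact (β q) (δ q)) ∧
        ∀ q, Function.Exact (δ q) (α (q + 1)) := by
  have := compactSpace_of_proper p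
  have := quasiSeparatedSpace_of_proper p
  obtain ⟨α, β, δ', h1, h2, h3, m, x1, x2, x3⟩ := exists_les j b l p lU pU lZ pZ hn0 hn hr wU wZ F
  exact ⟨fun q => gmap (α q), fun q => gmap (β q), fun q => gmap (δ' q), injective_gmap (φ := α 0),
    fun q => exact_gmap (x1 q), fun q => exact_gmap (x2 q), fun q => exact_gmap (x3 q)⟩

theorem card_open' {n : ℕ} (hn0 : 0 < n) (hn : (n : Λ) = 0) (hr : Set.range j = (Set.range b)ᶜ)
    (wU : lU ≫ pU = j ≫ l ≫ p) (wZ : lZ ≫ pZ = b ≫ l ≫ p) (F : EtModW.Mod Λ X) (d : ℕ)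
    (hX : ∀ q, q ≠ d + 1 → Subsingleton (GG l p F q))
    (hZ : ∀ q, q ≠ d → Subsingleton (GG lZ pZ ((EtModW.pull Λ b).obj F) q)) :
    (∀ q, q ≠ d + 1 → Subsingleton (GG lU pU ((EtModW.pull Λ j).obj F) q)) ∧
      Nat.card (GG lU pU ((EtModW.pull Λ j).obj F) (d + 1)) =
        Nat.card (GG lZ pZ ((EtModW.pull Λ b).obj F) d) * Nat.card (GG l p F (d + 1)) := by
  obtain ⟨α, β, δ, m, x1, x2, x3⟩ := exists_hcLes j b l p lU pU lZ pZ hn0 hn hr wU wZ F
  constructor
  · intro q hq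
    match q, hq with
    | 0, hq =>
      have := hX 0 hq
      exact m.subsingleton
    | q + 1, hq =>
      have i1 := hX (q + 1) hq
      have i2 := hZ q (fun h => hq (by rw [h]))
      exact subsingleton_of_exact (δ q) (α (q + 1)) (x3 q)
  · have i1 := hX d (by omega)
    have i2 := hZ (d + 1) (by omega)
    exact card_mul_of_exact (δ d) (α (d + 1)) (injective_of_exact (β d) (δ d) (x2 d)) (x3 d)
      (surjective_of_exact (α (d + 1)) (β (d + 1)) (x1 (d + 1)))

theorem card_total' {n : ℕ} (hn0 : 0 < n) (hn : (n : Λ) = 0) (hr : Set.range j = (Set.range b)ᶜ)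
    (wU : lU ≫ pU = j ≫ l ≫ p) (wZ : lZ ≫ pZ = b ≫ l ≫ p) (F : EtModW.Mod Λ X) (d : ℕ)
    (hU : ∀ q, q ≠ d → Subsingleton (GG lU pU ((EtModW.pull Λ j).obj F) q))
    (hZ : ∀ q, q ≠ d → Subsingleton (GG lZ pZ ((EtModW.pull Λ b).obj F) q)) :
    (∀ q, q ≠ d → Subsingleton (GG l p F q)) ∧
      Nat.card (GG l p F d) = Nat.card (GG lU pU ((EtModW.pull Λ j).obj F) d) *
        Nat.card (GG lZ pZ ((EtModW.pull Λ b).obj F) d) := by
  obtain ⟨α, β, δ, m, x1, x2, x3⟩ := exists_hcLes j b l p lU pU lZ pZ hn0 hn hr wU wZ F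
  constructor
  · intro q hq
    have i1 := hU q hq
    have i2 := hZ q hq
    exact subsingleton_of_exact (α q) (β q) (x1 q)
  · have i1 := hU (d + 1) (by omega)
    have hi : Function.Injective (α d) := by
      match d, hU, hZ, i1 with
      | 0, _, _, _ => exact m
      | d + 1, hU, hZ, _ =>
        have := hZ d (by omega)
        exact injective_of_exact (δ d) (α (d + 1)) (x3 d)
    exact card_mul_of_exact (α d) (β d) hi (x1 d) (surjective_of_exact (β d) (δ d) (x2 d))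

theorem card_shift' {n : ℕ} (hn0 : 0 < n) (hn : (n : Λ) = 0) (hr : Set.range j = (Set.range b)ᶜ)
    (wU : lU ≫ pU = j ≫ l ≫ p) (wZ : lZ ≫ pZ = b ≫ l ≫ p) (F : EtModW.Mod Λ X) (q : ℕ)
    (hX : Subsingleton (GG l p F q)) (hX' : Subsingleton (GG l p F (q + 1))) :
    Nat.card (GG lZ pZ ((EtModW.pull Λ b).obj F) q) =
      Nat.card (GG lU pU ((EtModW.pull Λ j).obj F) (q + 1)) := by
  obtain ⟨α, β, δ, m, x1, x2, x3⟩ := exists_hcLes j b l p lU pU lZ pZ hn0 hn hr wU wZ F
  exact Nat.card_congr (Equiv.ofBijective (δ q) ⟨injective_of_exact (β q) (δ q) (x2 q),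
    surjective_of_exact (δ q) (α (q + 1)) (x3 q)⟩)

/-- `X` has cohomology in degree `d + 1` only, `Z` in degree `d` only. -/
theorem card_open {n : ℕ} (hn0 : 0 < n) (hn : (n : Λ) = 0) (hr : Set.range j = (Set.range b)ᶜ)
    (wU : lU ≫ pU = j ≫ l ≫ p) (wZ : lZ ≫ pZ = b ≫ l ≫ p) (F : EtModW.Mod Λ X) (d : ℕ)
    (hX : ∀ q, q ≠ d + 1 → Subsingleton (HcG l F q))
    (hZ : ∀ q, q ≠ d → Subsingleton (HcG lZ ((EtModW.pull Λ b).obj F) q)) :
    (∀ q, q ≠ d + 1 → Subsingleton (HcG lU ((EtModW.pull Λ j).obj F) q)) ∧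
      Nat.card (HcG lU ((EtModW.pull Λ j).obj F) (d + 1)) =
        Nat.card (HcG lZ ((EtModW.pull Λ b).obj F) d) * Nat.card (HcG l F (d + 1)) := by
  simp only [← subsingleton_GG_iff l p, ← subsingleton_GG_iff lU pU, ← subsingleton_GG_iff lZ pZ,
    ← card_GG l p, ← card_GG lU pU, ← card_GG lZ pZ] at hX hZ ⊢
  exact card_open' j b l p lU pU lZ pZ hn0 hn hr wU wZ F d hX hZ

/-- `U` and `Z` have cohomology in degree `d` only. -/
theorem card_total {n : ℕ} (hn0 : 0 < n) (hn : (n : Λ) = 0) (hr : Set.range j = (Set.range b)ᶜ)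
    (wU : lU ≫ pU = j ≫ l ≫ p) (wZ : lZ ≫ pZ = b ≫ l ≫ p) (F : EtModW.Mod Λ X) (d : ℕ)
    (hU : ∀ q, q ≠ d → Subsingleton (HcG lU ((EtModW.pull Λ j).obj F) q))
    (hZ : ∀ q, q ≠ d → Subsingleton (HcG lZ ((EtModW.pull Λ b).obj F) q)) :
    (∀ q, q ≠ d → Subsingleton (HcG l F q)) ∧
      Nat.card (HcG l F d) =
        Nat.card (HcG lU ((EtModW.pull Λ j).obj F) d) * Nat.card (HcG lZ ((EtModW.pull Λ b).obj F) d) := by
  simp only [← subsingleton_GG_iff l p, ← subsingleton_GG_iff lU pU, ← subsingleton_GG_iff lZ pZ,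
    ← card_GG l p, ← card_GG lU pU, ← card_GG lZ pZ] at hU hZ ⊢
  exact card_total' j b l p lU pU lZ pZ hn0 hn hr wU wZ F d hU hZ

/-- If `X` has no cohomology in degrees `q`, `q + 1`: the connecting map is bijective. -/
theorem card_shift {n : ℕ} (hn0 : 0 < n) (hn : (n : Λ) = 0) (hr : Set.range j = (Set.range b)ᶜ)
    (wU : lU ≫ pU = j ≫ l ≫ p) (wZ : lZ ≫ pZ = b ≫ l ≫ p) (F : EtModW.Mod Λ X) (q : ℕ)
    (hX : Subsingleton (HcG l F q)) (hX' : Subsingleton (HcG l F (q + 1))) :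
    Nat.card (HcG lZ ((EtModW.pull Λ b).obj F) q) = Nat.card (HcG lU ((EtModW.pull Λ j).obj F) (q + 1)) := by
  simp only [← subsingleton_GG_iff l p, ← card_GG lU pU, ← card_GG lZ pZ] at hX hX' ⊢
  exact card_shift' j b l p lU pU lZ pZ hn0 hn hr wU wZ F q hX hX'

/-- The bottom degree. -/
theorem subsingleton_zero {n : ℕ} (hn0 : 0 < n) (hn : (n : Λ) = 0) (hr : Set.range j = (Set.range b)ᶜ)
    (wU : lU ≫ pU = j ≫ l ≫ p) (wZ : lZ ≫ pZ = b ≫ l ≫ p) (F : EtModW.Mod Λ X)
    (hX : Subsingleton (HcG l F 0)) : Subsingleton (HcG lU ((EtModW.pull Λ j).obj F) 0) := by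
  rw [← subsingleton_GG_iff lU pU]
  rw [← subsingleton_GG_iff l p] at hX
  obtain ⟨α, β, δ, m, x1, x2, x3⟩ := exists_hcLes j b l p lU pU lZ pZ hn0 hn hr wU wZ F
  exact m.subsingleton

end Groth.Agent.Sga4h.H299.HcCard
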