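import Groth.Agent.Sga4h.H299.CurveCst
import Groth.Agent.Sga4B.PureLine
import Groth.Agent.Lefpen.H717.ProjIrr
import Groth.Agent.Sga4B.P1Kum835
import Mathlib.Algebra.MvPolynomial.Equiv

/-!
# Cohomology with compact supports of the affine line, constant coefficients

`K` algebraically closed, `Λ` a finite ring killed by `n`, `n ≠ 0` in `K`:
`H_c^2(A^1, Λ)` has order `|Λ|` and `H_c^q(A^1, Λ) = 0` for `q ≠ 2`.
-/

set_option autoImplicit false
universe u

open CategoryTheory CategoryTheory.Limits AlgebraicGeometry Opposite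

namespace Groth.Agent.Sga4h.H299.A1Cst

open Groth.Agent.Sga4h.ModRestr Groth.Agent.Sga4h.EtaleRes Groth.Agent.Etrest.ModAb
  Groth.Agent.Sga4h.H299.HcK Groth.Agent.Sga4h.H299.CurveCst Groth.Agent.Sga5.ProjSmooth
  Groth.Agent.Sga5.ProjHyper Groth.Agent.Sga5.ProjChart

attribute [local instance] jCont

section geo

variable (K : Type u) [Field K]

/-- `K[X] ≅ K[X_0]` -/
noncomputable def polyEquiv : MvPolynomial (Fin 1) K ≃+* Polynomial K :=
  (MvPolynomial.uniqueAlgEquiv K (Fin 1)).toRingEquiv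

/-- The affine line in the projective line. -/
noncomputable def j : Spec (CommRingCat.of (Polynomial K)) ⟶ CohB1.ProjSpace 1 K :=
  Spec.map (CommRingCat.ofHom (polyEquiv K).toRingHom) ≫ Sga4B.PureLine.j K

instance isIso_spec : IsIso (Spec.map (CommRingCat.ofHom (polyEquiv K).toRingHom)) := by
  have : IsIso (CommRingCat.ofHom (polyEquiv K).toRingHom) :=
    (ConcreteCategory.isIso_iff_bijective _).2 (polyEquiv K).bijective
  infer_instance

instance : IsOpenImmersion (j K) := by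
  unfold j
  infer_instance

theorem j_g : j K ≫ Sga4B.PureLine.g K = Spec.map (CommRingCat.ofHom (Polynomial.C : K →+* Polynomial K)) := by
  unfold j
  rw [Category.assoc]
  change _ ≫ chart 1 K (Fin.last 1) ≫ CohB1.ProjSpace.toSpec 1 K = _
  rw [chart_toSpec, ← Spec.map_comp]
  congr 1
  apply CommRingCat.hom_ext
  apply RingHom.ext
  intro r
  change (polyEquiv K) (MvPolynomial.C r) = Polynomial.C r
  simp [polyEquiv]

theorem range_j : Set.range (j K) = (Set.range (hyper 0 K))ᶜ := by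
  rw [range_hyper, compl_compl]
  unfold j
  ext x
  constructor
  · rintro ⟨y, rfl⟩
    exact ⟨Spec.map (CommRingCat.ofHom (polyEquiv K).toRingHom) y, (Scheme.Hom.comp_apply _ _ _).symm⟩
  · rintro ⟨y, rfl⟩
    obtain ⟨z, rfl⟩ := (Scheme.homeoOfIso (asIso (Spec.map (CommRingCat.ofHom (polyEquiv K).toRingHom)))).surjective y
    exact ⟨z, by rw [Scheme.Hom.comp_apply]; rfl⟩

end geo

variable {Λ : Type (u + 1)} [CommRing Λ] [Finite Λ] {K : Type u} [Field K] [IsAlgClosed K]

/-- **Cohomology with compact supports of the affine line.** -/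
theorem main {n : ℕ} (hn : (n : Λ) = 0) (hK : (n : K) ≠ 0) {P : Scheme.{u}}
    (l : Spec (CommRingCat.of (Polynomial K)) ⟶ P) (p : P ⟶ Spec (CommRingCat.of K)) [IsOpenImmersion l]
    [IsProper p] (w : l ≫ p = Spec.map (CommRingCat.ofHom (Polynomial.C : K →+* Polynomial K))) :
    Nat.card (HcG l (EtModW.constMod Λ _ Λ) 2) = Nat.card Λ ∧
      ∀ q, q ≠ 2 → Subsingleton (HcG l (EtModW.constMod Λ _ Λ) q) := by
  have hn0 : 0 < n := Nat.pos_of_ne_zero (by rintro rfl; exact hK Nat.cast_zero)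
  obtain ⟨M, _, _, ⟨e⟩⟩ := exists_small Λ
  have hM : ∀ m : M, n • m = 0 := by
    intro m
    obtain ⟨x, rfl⟩ := e.surjective m
    rw [← map_nsmul, nsmul_eq_mul, hn, zero_mul, map_zero]
  obtain ⟨a1, ⟨a2⟩, a3⟩ := Sga4B.P1Kum835.stmtP1 n K hK M hM
  have hH : ∀ q, Nonempty (HcG (𝟙 (CohB1.ProjSpace 1 K)) (EtModW.constMod Λ _ Λ) q ≃+
      EtCoh.H (CohB1.ProjSpace 1 K) (EtCoh.const (CohB1.ProjSpace 1 K) M) q) := fun q =>
    nonempty_hcId_const _ e q
  have hiso : IsIso (hyper 0 K ≫ Sga4B.PureLine.g K) := by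
    change IsIso (hyper 0 K ≫ CohB1.ProjSpace.toSpec 1 K)
    rw [hyper_toSpec]
    infer_instance
  have h1 : Subsingleton (HcG (𝟙 (CohB1.ProjSpace 1 K)) (EtModW.constMod Λ _ Λ) 1) := by
    obtain ⟨e1⟩ := hH 1
    exact e1.toEquiv.subsingleton
  obtain ⟨b0, b1, b2⟩ := core hn0 hn (Sga4B.PureLine.g K) (j K) (hyper 0 K) (range_j K) l p
    (by rw [w, j_g]) h1
  constructor
  · rw [(b2 2 le_rfl).1]
    obtain ⟨e1⟩ := hH 2
    exact Nat.card_congr ((e1.toEquiv.trans a2.toEquiv).trans e.symm.toEquiv)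
  · intro q hq
    match q, hq with
    | 0, _ => exact b0
    | 1, _ => exact b1
    | q + 3, _ =>
      refine (b2 (q + 3) (by omega)).2 ?_
      obtain ⟨e1⟩ := hH (q + 3)
      have := a3 (q + 3) (by omega)
      exact e1.toEquiv.subsingleton

end Groth.Agent.Sga4h.H299.A1Cst
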