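import Groth.Agent.Etrest.ModAb
import Groth.Agent.EtpbcB.TorsionBasic

/-!
# The underlying abelian sheaf of a sheaf of modules: zero objects, torsion
-/

set_option autoImplicit false
universe u

open CategoryTheory CategoryTheory.Limits AlgebraicGeometry Opposite

namespace Groth.Agent.Sga4h.H299.AbBasic

open Groth.Agent.Etrest.ModAb Groth.Agent.EtpbcB

variable {Λ : Type (u + 1)} [CommRing Λ]

theorem isZero_of_ab {X : Scheme.{u}} {F : EtModW.Mod Λ X} (h : IsZero ((ab Λ X).obj F)) : IsZero F := by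
  rw [IsZero.iff_id_eq_zero] at h ⊢
  apply (ab Λ X).map_injective
  rw [CategoryTheory.Functor.map_id, CategoryTheory.Functor.map_zero]
  exact h

theorem isZero_ab {X : Scheme.{u}} {F : EtModW.Mod Λ X} (h : IsZero F) : IsZero ((ab Λ X).obj F) :=
  (ab Λ X).map_isZero h

theorem isZero_ab_iff {X : Scheme.{u}} {F : EtModW.Mod Λ X} : IsZero ((ab Λ X).obj F) ↔ IsZero F :=
  ⟨isZero_of_ab, isZero_ab⟩

theorem killedBy_ab {X : Scheme.{u}} {n : ℕ} (hn : (n : Λ) = 0) (F : EtModW.Mod Λ X) :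
    EtCoh.KilledBy n ((ab Λ X).obj F) := by
  intro U s
  let s' : EtModW.sect Λ F U := s
  have h : n • s' = 0 := by
    rw [← Nat.cast_smul_eq_nsmul Λ, hn, zero_smul]
  exact h

theorem isTorsion_ab {X : Scheme.{u}} {n : ℕ} (hn0 : 0 < n) (hn : (n : Λ) = 0) (F : EtModW.Mod Λ X) :
    EtCoh.IsTorsion ((ab Λ X).obj F) :=
  TorsionBasic.isTorsion_of_killedBy hn0 (killedBy_ab hn F)

end Groth.Agent.Sga4h.H299.AbBasic
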