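import Groth.Agent.Sga4h.H918.ConnAlg
import Groth.Prelude.Def_LangSh
import Mathlib.FieldTheory.Finite.Trace
import Mathlib.RingTheory.Trace.Basic
import Mathlib.RingTheory.Norm.Basic
import Mathlib.FieldTheory.IsAlgClosed.Basic

/-!
# Algebra for the Artin–Schreier–Kummer sheaf on `𝔾_m`

* `isDomain_askT`: `k[T, T⁻¹][z, y]/(z ^ q - z - T, y ^ (q - 1) - T)` is a domain.
* `frob_root`: the action of Frobenius on a root of `y ^ (q - 1) = v` is given by the norm of `v`.
* `eq_one_of_norm`: an additive character `ψ` such that `ψ (Tr v) χ (N v)` is a multiplicative function of `N v` is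
  trivial.
-/

set_option autoImplicit false

open Polynomial
open scoped LaurentPolynomial

namespace Groth.Agent.Sga4h.H299.AskAlg

section Dom

theorem exists_laurent_frac (k : Type*) [Field k] : ∃ φ : k[T;T⁻¹] →+* FractionRing k[X],
    Function.Injective φ ∧ φ (LaurentPolynomial.T 1) = (algebraMap k[X] (FractionRing k[X]) X)⁻¹ := by
  have hX : algebraMap k[X] (FractionRing k[X]) X ≠ 0 := by
    rw [Ne, FaithfulSMul.algebraMap_eq_zero_iff]
    exact X_ne_zero
  have hg : IsUnit (algebraMap k[X] (FractionRing k[X]) X) := hX.isUnit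
  let ψ : k[T;T⁻¹] →+* FractionRing k[X] := IsLocalization.Away.lift (X : k[X]) hg
  have hψ : ∀ p : k[X], ψ (Polynomial.toLaurent p) = algebraMap _ _ p := by
    intro p
    exact IsLocalization.Away.lift_eq (X : k[X]) hg p
  have hinj : Function.Injective ψ := by
    refine (IsLocalization.lift_injective_iff _).2 fun x y => ?_
    have h1 : Function.Injective (algebraMap k[X] k[T;T⁻¹]) := Polynomial.toLaurent_injective
    have h2 : Function.Injective (algebraMap k[X] (FractionRing k[X])) := FaithfulSMul.algebraMap_injective _ _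
    exact ⟨fun h => congrArg _ (h1 h), fun h => congrArg _ (h2 h)⟩
  refine ⟨ψ.comp (LaurentPolynomial.invert (R := k)).toRingEquiv.toRingHom,
    hinj.comp (LaurentPolynomial.invert (R := k)).injective, ?_⟩
  change ψ (LaurentPolynomial.invert (LaurentPolynomial.T 1)) = _
  rw [LaurentPolynomial.invert_T]
  have h1 : (LaurentPolynomial.T (-1) : k[T;T⁻¹]) * Polynomial.toLaurent X = 1 := by
    rw [Polynomial.toLaurent_X, ← LaurentPolynomial.T_add]
    exact LaurentPolynomial.T_zero
  have h2 := congrArg ψ h1
  rw [map_mul, map_one, hψ] at h2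
  exact eq_inv_of_mul_eq_one_left h2

theorem isDomain_askT (k : Type*) [Field k] (q : ℕ) (hq : 2 ≤ q) :
    IsDomain (LangSh.ASKAlg k[T;T⁻¹] q (LaurentPolynomial.T 1) (q - 1) (LaurentPolynomial.T 1)) := by
  obtain ⟨φ, hφ, hT⟩ := exists_laurent_frac k
  have hP : (Ideal.span {(X : k[X])}).IsPrime := (Ideal.span_singleton_prime X_ne_zero).2 prime_X
  refine H918.ConnAlg.isDomain_ask (D := k[X]) (P := Ideal.span {(X : k[X])}) (w := X)
    (Ideal.mem_span_singleton_self _) ?_ φ hφ _ hT q hq
  rw [pow_two, Ideal.span_singleton_mul_span_singleton, Ideal.mem_span_singleton]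
  rintro ⟨c, hc⟩
  have h1 : (X : k[X]) * 1 = X * (X * c) := by rw [mul_one, ← mul_assoc]; exact hc
  have h2 : (1 : k[X]) = X * c := mul_left_cancel₀ X_ne_zero h1
  exact not_isUnit_X (IsUnit.of_mul_eq_one c h2.symm)

end Dom

section Frob

theorem pow_card_pow {K : Type*} [Field K] (q : ℕ) (y v : K) (h : y ^ q = v * y) (n : ℕ) :
    y ^ (q ^ n) = v ^ (∑ i ∈ Finset.range n, q ^ i) * y := by
  induction n with
  | zero => simp
  | succ n ih =>
    have h1 : (∑ i ∈ Finset.range n, q ^ i) * q + 1 = ∑ i ∈ Finset.range (n + 1), q ^ i := by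
      rw [Finset.sum_range_succ', pow_zero, Finset.sum_mul]
      simp only [pow_succ]
    rw [pow_succ, pow_mul, ih, mul_pow, ← pow_mul, h, ← h1, pow_succ, mul_assoc]

variable {k K : Type*} [Field k] [Fintype k] [Field K] [Algebra k K]

/-- Frobenius on a root of `y ^ (q - 1) = v`. -/
theorem frob_root (E : IntermediateField k K) [Fintype E] (v : E) (y : K)
    (hy : y ^ (Fintype.card k - 1) = v) :
    y ^ Fintype.card E = algebraMap k K (Algebra.norm k v) * y := by
  have hfin : Module.Finite k E := Module.Finite.of_finite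
  have h0 : y ^ Fintype.card k = (v : K) * y := by
    rw [← hy, ← pow_succ, Nat.sub_add_cancel Fintype.card_pos]
  rw [Module.card_eq_pow_finrank (K := k) (V := E), pow_card_pow _ _ _ h0]
  congr 1
  have h1 := FiniteField.algebraMap_norm_eq_pow_sum (K := k) (L := E) (x := v)
  have h2 := congrArg (algebraMap E K) h1
  rw [← IsScalarTower.algebraMap_apply] at h2
  rw [h2, map_pow, Nat.card_eq_fintype_card]
  rfl

end Frob

section Char

variable {k K : Type*} [Field k] [Fintype k] [Field K] [Algebra k K] [IsAlgClosed K] [Algebra.IsAlgebraic k K]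
  {Λ : Type*} [Field Λ]

omit [IsAlgClosed K] [Algebra.IsAlgebraic k K] in
theorem fintype_of_finite (E : IntermediateField k K) [Module.Finite k E] : Nonempty (Fintype E) := by
  have : Finite E := Module.finite_of_finite k
  exact ⟨Fintype.ofFinite E⟩

/-- **Additive characters.** -/
theorem eq_one_of_norm (ψ : AddChar k Λ) (χ : MulChar k Λ) (t : kˣ → Λ)
    (h : ∀ (E : IntermediateField k K) [Fintype E] (v : Eˣ),
      ψ (Algebra.trace k E (v : E)) * χ (Algebra.norm k (v : E)) = t (Units.map (Algebra.norm k) v))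
    (ht : ∀ a b, t (a * b) = t a * t b) : ψ = 1 := by
  have hunit : ∀ c : k, IsUnit (ψ c) := by
    intro c
    refine IsUnit.of_mul_eq_one (ψ (-c)) ?_
    rw [← AddChar.map_add_eq_mul, add_neg_cancel, AddChar.map_zero_eq_one]
  -- rational points
  have hrat : ∀ a : kˣ, ψ a * χ a = t a := by
    intro a
    have hft : Nonempty (Fintype (⊥ : IntermediateField k K)) := fintype_of_finite _
    obtain ⟨hft⟩ := hft
    have h1 := h ⊥ (Units.map (algebraMap k (⊥ : IntermediateField k K)).toMonoidHom a)
    have h2 : Algebra.norm k (algebraMap k (⊥ : IntermediateField k K) (a : k)) = a := by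
      rw [Algebra.norm_algebraMap, IntermediateField.finrank_bot, pow_one]
    have h3 : Algebra.trace k (⊥ : IntermediateField k K) (algebraMap k (⊥ : IntermediateField k K) (a : k)) = a := by
      rw [Algebra.trace_algebraMap, IntermediateField.finrank_bot, one_smul]
    have h4 : Units.map (Algebra.norm k) (Units.map (algebraMap k (⊥ : IntermediateField k K)).toMonoidHom a) = a :=
      Units.ext h2
    rw [h4] at h1
    rw [← h1]
    change ψ a * χ a = ψ (Algebra.trace k _ (algebraMap k (⊥ : IntermediateField k K) (a : k))) *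
      χ (Algebra.norm k (algebraMap k (⊥ : IntermediateField k K) (a : k)))
    rw [h2, h3]
  have ht1 : t 1 = 1 := by
    have h1 := ht 1 1
    rw [mul_one] at h1
    have h2 : t 1 ≠ 0 := by
      rw [← hrat 1, Units.val_one, MulChar.map_one, mul_one]
      exact (hunit 1).ne_zero
    exact (mul_right_cancel₀ h2 ((one_mul _).trans h1)).symm
  ext c
  rw [AddChar.one_apply]
  obtain ⟨x, hx⟩ : ∃ x : K, x ^ 2 - algebraMap k K c * x + 1 = 0 := by
    obtain ⟨x, hx⟩ := IsAlgClosed.exists_root (X ^ 2 - C (algebraMap k K c) * X + 1 : K[X]) (by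
      have : (X ^ 2 - C (algebraMap k K c) * X + 1 : K[X]).degree = 2 := by
        compute_degree!
      rw [this]
      decide)
    refine ⟨x, ?_⟩
    rw [IsRoot.def] at hx
    simpa using hx
  have hx0 : x ≠ 0 := by
    rintro rfl
    simp at hx
  by_cases hxk : x ∈ (algebraMap k K).range
  · obtain ⟨a, rfl⟩ := hxk
    have ha : a ^ 2 - c * a + 1 = 0 := by
      apply (algebraMap k K).injective
      rw [map_add, map_sub, map_pow, map_mul, map_one, map_zero]
      exact hx
    have hab : a * (c - a) = 1 := by linear_combination -ha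
    have hba : (c - a) * a = 1 := by rw [mul_comm]; exact hab
    let u : kˣ := ⟨a, c - a, hab, hba⟩
    have h1 : t u * t u⁻¹ = 1 := by rw [← ht, mul_inv_cancel, ht1]
    rw [← hrat u, ← hrat u⁻¹] at h1
    have h2 : (ψ a * χ a) * (ψ (c - a) * χ (c - a)) = 1 := h1
    have h3 : χ a * χ (c - a) = 1 := by rw [← map_mul, hab, map_one]
    have h4 : ψ a * ψ (c - a) = ψ c := by rw [← AddChar.map_add_eq_mul]; congr 1; ring
    rw [← h4]
    calc ψ a * ψ (c - a) = (ψ a * ψ (c - a)) * (χ a * χ (c - a)) := by rw [h3, mul_one]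
      _ = (ψ a * χ a) * (ψ (c - a) * χ (c - a)) := by ring
      _ = 1 := h2
  · have hint : IsIntegral k x := (Algebra.IsAlgebraic.isAlgebraic x).isIntegral
    have hP : (X ^ 2 - C c * X + 1 : k[X]).Monic := by monicity!
    have hPd : (X ^ 2 - C c * X + 1 : k[X]).natDegree = 2 := by compute_degree!
    have hdvd : minpoly k x ∣ (X ^ 2 - C c * X + 1 : k[X]) := minpoly.dvd _ _ (by simpa using hx)
    have hdeg : 2 ≤ (minpoly k x).natDegree := by
      have h1 := minpoly.natDegree_pos hint
      have h2 : (minpoly k x).natDegree ≠ 1 := fun h3 => hxk (minpoly.natDegree_eq_one_iff.1 h3)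
      omega
    have hmin : minpoly k x = X ^ 2 - C c * X + 1 :=
      (Polynomial.eq_of_monic_of_dvd_of_natDegree_le (minpoly.monic hint) hP hdvd (by rw [hPd]; exact hdeg)).symm
    let pb := IntermediateField.adjoin.powerBasis hint
    have hfd : Module.Finite k (IntermediateField.adjoin k {x}) := pb.finite
    obtain ⟨hft⟩ := fintype_of_finite (IntermediateField.adjoin k {x})
    have hgen : minpoly k pb.gen = X ^ 2 - C c * X + 1 := by
      rw [← hmin]
      exact IntermediateField.minpoly_gen k x
    have htr : Algebra.trace k _ pb.gen = c := by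
      rw [PowerBasis.trace_gen_eq_nextCoeff_minpoly, hgen, nextCoeff_of_natDegree_pos (by rw [hPd]; omega), hPd]
      simp [coeff_one]
    have hno : Algebra.norm k pb.gen = 1 := by
      rw [Algebra.PowerBasis.norm_gen_eq_coeff_zero_minpoly, hgen, ← PowerBasis.natDegree_minpoly, hgen, hPd]
      simp
    have hg0 : pb.gen ≠ 0 := by
      intro h0
      apply hx0
      have h1 := congrArg (fun z : IntermediateField.adjoin k {x} => (z : K)) h0
      exact h1
    have h1 := h (IntermediateField.adjoin k {x}) (Units.mk0 pb.gen hg0)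
    have h2 : Units.map (Algebra.norm k) (Units.mk0 pb.gen hg0) = 1 := Units.ext hno
    rw [h2, ht1, Units.val_mk0, htr, hno, MulChar.map_one, mul_one] at h1
    exact h1

end Char

end Groth.Agent.Sga4h.H299.AskAlg
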