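import Groth.Agent.Sga4h.H299.HcK
import Groth.Agent.Sga4h.X144Shr
import Groth.Agent.Sga5.FlcClopen
import Groth.Agent.Etrest.ConstBasic

/-!
# `H^0_c = 0` for a non proper irreducible scheme and a finite locally constant coefficient sheaf
-/

set_option autoImplicit false
universe u

open CategoryTheory CategoryTheory.Limits AlgebraicGeometry Opposite

namespace Groth.Agent.Sga4h.H299.NoH0

open Groth.Agent.Sga4h.ModRestr Groth.Agent.Sga4h.EtaleRes Groth.Agent.Etrest.ModAb
  Groth.Agent.Sga4h.H299.ExtBC Groth.Agent.Sga4h.H299.HcK Groth.Agent.EtpbcA Groth.Agent.EtpbcA.ConsVan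
  Groth.Agent.EtpbcB.GammaRpush

attribute [local instance] jCont

variable {Λ : Type (u + 1)} [CommRing Λ] {X P : Scheme.{u}} (j : X ⟶ P) [IsOpenImmersion j]

/-- The map to the final object attached to `compEtale j ⊤`. -/
noncomputable def toTop (V : P.Etale) : V ⟶ EtCoh.top P :=
  MorphismProperty.Over.homMk V.hom (Category.comp_id _)

theorem toTop_unique {V : P.Etale} (f g : V ⟶ EtCoh.top P) : f = g :=
  (topIsTerminal P).hom_ext f g

theorem toTop_left (V : P.Etale) (v : V.left) : (toTop V).left v = V.hom v := rfl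

/-- Vanishing at a point of the open subscheme. -/
theorem van_iff (G : EtModW.Mod Λ P) (s : EtCoh.sect ((ab Λ P).obj G) (EtCoh.top P)) (x : X) :
    Van ((ab Λ P).obj G) s (j x) ↔
      Van ((ab Λ X).obj ((res Λ j).obj G)) (U := EtCoh.top X)
        (ConsVan.res ((ab Λ P).obj G) (toTop ((EtShriek.compEtale j).obj (EtCoh.top X))) s) x := by
  constructor
  · rintro ⟨V, g, v, hv, hs⟩
    have h1 : V.hom v = j x := by
      rw [← hv, ← toTop_left, toTop_unique (toTop V) g]
    obtain ⟨y, hy1, hy2⟩ := Scheme.Pullback.exists_preimage_pullback v x h1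
    refine ⟨(EtCoh.bc j).obj V, toTop _, y, hy2, ?_⟩
    change ((ab Λ P).obj G).obj.map ((EtShriek.compEtale j).map (toTop ((EtCoh.bc j).obj V))).op
      (((ab Λ P).obj G).obj.map (toTop ((EtShriek.compEtale j).obj (EtCoh.top X))).op s) = 0
    have h2 : (EtShriek.compEtale j).map (toTop ((EtCoh.bc j).obj V)) ≫
        toTop ((EtShriek.compEtale j).obj (EtCoh.top X)) = (compBcAdj j).counit.app V ≫ g :=
      toTop_unique _ _
    have h3 := congrArg (fun k => ConsVan.res ((ab Λ P).obj G) k s) h2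
    simp only [ConsVan.res_comp] at h3
    refine h3.trans ?_
    rw [hs, map_zero]
  · rintro ⟨V, g, v, hv, hs⟩
    refine ⟨(EtShriek.compEtale j).obj V, toTop _, v, ?_, ?_⟩
    · rw [toTop_left]
      change j (V.hom v) = j x
      rw [← hv, ← toTop_left, toTop_unique (toTop V) g]
    · have h2 : toTop ((EtShriek.compEtale j).obj V) = (EtShriek.compEtale j).map g ≫
        toTop ((EtShriek.compEtale j).obj (EtCoh.top X)) := toTop_unique _ _
      rw [h2, ConsVan.res_comp]
      exact hs

/-- A non surjective open immersion to an irreducible scheme: extensions by zero of finite locally constant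
sheaves have no sections. -/
theorem sect_eq_zero [IrreducibleSpace P] (hj : ¬ Function.Surjective j) (M : EtModW.Mod Λ X)
    (hM : EtCoh.IsFiniteLocallyConstant ((ab Λ X).obj M))
    (s : EtCoh.sect ((ab Λ P).obj ((ext Λ j).obj M)) (EtCoh.top P)) : s = 0 := by
  let F := (ab Λ P).obj ((ext Λ j).obj M)
  let F' := (ab Λ X).obj ((res Λ j).obj ((ext Λ j).obj M))
  have hF' : EtCoh.IsFiniteLocallyConstant F' :=
    Etrest.ConstBasic.isFiniteLocallyConstant_of_iso
      ((ab Λ X).mapIso (asIso ((extResAdj Λ j).unit.app M))) hM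
  let s' : EtCoh.sect F' (EtCoh.top X) :=
    ConsVan.res F (toTop ((EtShriek.compEtale j).obj (EtCoh.top X))) s
  let O : Set P := {v | Van F (U := EtCoh.top P) s v}
  have hO : IsOpen O := isOpen_van (F := F) s
  have hO1 : O.Nonempty := by
    simp only [Function.Surjective, not_forall] at hj
    obtain ⟨y, hy⟩ := hj
    refine ⟨y, ?_⟩
    obtain ⟨V, g, ⟨v, hv⟩, h0⟩ := X144Shr.ext_local_zero Λ j M (EtCoh.top P) s y (fun h => hy h)
    exact ⟨V, g, v, hv, h0⟩
  let C : Set P := j '' {x | ¬ Van F' (U := EtCoh.top X) s' x}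
  have hC : IsOpen C := by
    refine j.isOpenEmbedding.isOpenMap _ ?_
    exact (Sga5.FlcClopen.isClopen_van hF' s').compl.isOpen
  have hOC : ∀ v, v ∈ O ∨ v ∈ C := by
    intro v
    by_cases hv : v ∈ Set.range j
    · obtain ⟨x, rfl⟩ := hv
      by_cases h : Van F' (U := EtCoh.top X) s' x
      · exact Or.inl ((van_iff j ((ext Λ j).obj M) s x).2 h)
      · exact Or.inr ⟨x, h, rfl⟩
    · refine Or.inl ?_
      obtain ⟨V, g, ⟨w, hw⟩, h0⟩ := X144Shr.ext_local_zero Λ j M (EtCoh.top P) s v (fun h => hv h)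
      exact ⟨V, g, w, hw, h0⟩
  have hC0 : C = ∅ := by
    by_contra hne
    rw [← Ne, ← Set.nonempty_iff_ne_empty] at hne
    obtain ⟨v, hv1, hv2⟩ := nonempty_preirreducible_inter hO hC hO1 hne
    obtain ⟨x, hx, rfl⟩ := hv2
    exact hx ((van_iff j ((ext Λ j).obj M) s x).1 hv1)
  refine eq_zero_of_van (F := F) s (fun v => ?_)
  rcases hOC v with h | h
  · exact h
  · rw [hC0] at h
    exact h.elim

/-- `H^0_c(X, M) = 0` -/
theorem subsingleton_zero [IrreducibleSpace P] (hj : ¬ Function.Surjective j) (M : EtModW.Mod Λ X)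
    (hM : EtCoh.IsFiniteLocallyConstant ((ab Λ X).obj M)) : Subsingleton (HcG j M 0) := by
  have h1 : Subsingleton (EtCoh.sect ((ab Λ P).obj ((ext Λ j).obj M)) (EtCoh.top P)) :=
    ⟨fun a b => (sect_eq_zero j hj M hM a).trans (sect_eq_zero j hj M hM b).symm⟩
  have h2 : Subsingleton (EtCoh.H P ((ab Λ P).obj ((ext Λ j).obj M)) 0) :=
    (Sheaf.H.equiv₀ ((ab Λ P).obj ((ext Λ j).obj M)) (topIsTerminal P)).toEquiv.subsingleton
  obtain ⟨e⟩ := nonempty_H_congr ((extAb Λ j).app M) 0
  exact (e.toEquiv.subsingleton_congr).1 h2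

end Groth.Agent.Sga4h.H299.NoH0
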