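import Groth.Agent.Sga4h.H299.HcCard
import Groth.Agent.Sga4h.H299.NoH0
import Groth.Agent.Etrest.SHPoint

/-!
# Cohomology with compact supports of a proper curve minus a rational point, constant coefficients

`P` proper connected (irreducible) over `Spec K`, `Z ≅ Spec K` closed in `P`, `U` the complement, `Λ` a finite ring
killed by `n > 0`.  If `H^1(P, Λ) = 0` then `H_c^0(U, Λ) = H_c^1(U, Λ) = 0` and `H_c^q(U, Λ) ≅ H^q(P, Λ)`, `q ≥ 2`.
-/

set_option autoImplicit false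
universe u

open CategoryTheory CategoryTheory.Limits AlgebraicGeometry Opposite

namespace Groth.Agent.Sga4h.H299.CurveCst

open Groth.Agent.Sga4h.ModRestr Groth.Agent.Sga4h.EtaleRes Groth.Agent.Etrest.ModAb
  Groth.Agent.Sga4h.H299.ExtBC Groth.Agent.Sga4h.H299.Rs Groth.Agent.Sga4h.H299.AbBasic
  Groth.Agent.Sga4h.H299.Leray Groth.Agent.Sga4h.H299.Hc Groth.Agent.Sga4h.H299.Exc
  Groth.Agent.Sga4h.H299.HcK Groth.Agent.Sga4h.H299.HcCard

attribute [local instance] jCont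

section cst

/-- A set with `n` elements without structure. -/
def FinSet (n : ℕ) : Type := Fin n

instance (n : ℕ) : Finite (FinSet n) := inferInstanceAs (Finite (Fin n))

/-- A finite group is isomorphic to a group in `Type`. -/
theorem exists_small (A : Type (u + 1)) [AddCommGroup A] [Finite A] :
    ∃ (M : Type) (_ : AddCommGroup M) (_ : Finite M), Nonempty (A ≃+ M) := by
  let e : FinSet (Nat.card A) ≃ A := (Finite.equivFin A).symm
  let i : AddCommGroup (FinSet (Nat.card A)) := e.addCommGroup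
  exact ⟨FinSet (Nat.card A), i, inferInstance, ⟨e.addEquiv.symm⟩⟩

variable {Λ : Type (u + 1)} [CommRing Λ]

/-- The underlying abelian sheaf of the constant sheaf. -/
noncomputable def abConst (X : Scheme.{u}) {M : Type} [AddCommGroup M] (e : Λ ≃+ M) :
    (ab Λ X).obj (EtModW.constMod Λ X Λ) ≅ EtCoh.const X M :=
  (constIso Λ X).app (ModuleCat.of Λ Λ) ≪≫
    (constantSheaf X.smallEtaleTopology AddCommGrpCat.{u + 1}).mapIso
      (AddEquiv.toAddCommGrpIso (X := AddCommGrpCat.of Λ) (Y := AddCommGrpCat.of (ULift.{u + 1} M))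
        (e.trans AddEquiv.ulift.symm))

theorem isFLC_const [Finite Λ] (X : Scheme.{u}) :
    EtCoh.IsFiniteLocallyConstant ((ab Λ X).obj (EtModW.constMod Λ X Λ)) := by
  obtain ⟨M, _, _, ⟨e⟩⟩ := exists_small Λ
  exact Etrest.ConstBasic.isFiniteLocallyConstant_of_iso (abConst X e).symm
    (Etrest.ConstBasic.isFiniteLocallyConstant_const _ M)

/-- `H^q(X, Λ)` -/
theorem nonempty_hcId (X : Scheme.{u}) (F : EtModW.Mod Λ X) (q : ℕ) :
    Nonempty (HcG (𝟙 X) F q ≃+ EtCoh.H X ((ab Λ X).obj F) q) :=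
  nonempty_H_congr ((extAb Λ (𝟙 X)).symm.app F ≪≫ (ab Λ X).mapIso ((extId X).app F)) q

theorem nonempty_hcId_const (X : Scheme.{u}) {M : Type} [AddCommGroup M] (e : Λ ≃+ M) (q : ℕ) :
    Nonempty (HcG (𝟙 X) (EtModW.constMod Λ X Λ) q ≃+ EtCoh.H X (EtCoh.const X M) q) := by
  obtain ⟨e1⟩ := nonempty_hcId X (EtModW.constMod Λ X Λ) q
  obtain ⟨e2⟩ := nonempty_H_congr (abConst X e) q
  exact ⟨e1.trans e2⟩

theorem card_zero [Finite Λ] (X : Scheme.{u}) [ConnectedSpace X] :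
    Nat.card (HcG (𝟙 X) (EtModW.constMod Λ X Λ) 0) = Nat.card Λ := by
  obtain ⟨M, _, _, ⟨e⟩⟩ := exists_small Λ
  obtain ⟨e1⟩ := nonempty_hcId_const X e 0
  obtain ⟨e2⟩ := Etrest.SHPoint.nonempty_H0_const X M
  exact Nat.card_congr ((e1.trans e2).toEquiv.trans e.symm.toEquiv)

end cst

variable {Λ : Type (u + 1)} [CommRing Λ] [Finite Λ] {K : Type u} [Field K] [IsSepClosed K]

omit [Finite Λ] in
/-- A point has no higher cohomology. -/
theorem subsingleton_point {Z : Scheme.{u}} (f : Z ⟶ Spec (CommRingCat.of K)) [IsIso f] (F : EtModW.Mod Λ Z)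
    (q : ℕ) (hq : 1 ≤ q) : Subsingleton (HcG (𝟙 Z) F q) :=
  (isZero_iff (𝟙 Z) f q F).1 ((isZero_rpush_integral f F q hq).of_iso ((rsId f q).app F))

/-- **Cohomology with compact supports of a curve minus a rational point.** -/
theorem core {n : ℕ} (hn0 : 0 < n) (hn : (n : Λ) = 0) {U Z P PU : Scheme.{u}}
    (g : P ⟶ Spec (CommRingCat.of K)) [IsProper g] [IrreducibleSpace P] (j : U ⟶ P) [IsOpenImmersion j]
    [QuasiCompact j] (b : Z ⟶ P) [IsClosedImmersion b] [IsIso (b ≫ g)]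
    (hr : Set.range j = (Set.range b)ᶜ) (lU : U ⟶ PU) (pU : PU ⟶ Spec (CommRingCat.of K))
    [IsOpenImmersion lU] [IsProper pU] (w : lU ≫ pU = j ≫ g)
    (h1 : Subsingleton (HcG (𝟙 P) (EtModW.constMod Λ P Λ) 1)) :
    Subsingleton (HcG lU (EtModW.constMod Λ U Λ) 0) ∧ Subsingleton (HcG lU (EtModW.constMod Λ U Λ) 1) ∧
      ∀ q, 2 ≤ q → Nat.card (HcG lU (EtModW.constMod Λ U Λ) q) =
        Nat.card (HcG (𝟙 P) (EtModW.constMod Λ P Λ) q) ∧
        (Subsingleton (HcG (𝟙 P) (EtModW.constMod Λ P Λ) q) →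
          Subsingleton (HcG lU (EtModW.constMod Λ U Λ) q)) := by
  have hind : ∀ q, Nonempty (HcG j (EtModW.constMod Λ U Λ) q ≃+ HcG lU (EtModW.constMod Λ U Λ) q) := fun q =>
    hc_indep hn0 hn j g lU pU w.symm (EtModW.constMod Λ U Λ) q
  have hU0 : Subsingleton (HcG j (EtModW.constMod Λ U Λ) 0) := by
    refine NoH0.subsingleton_zero j (fun hs => ?_) _ (isFLC_const U)
    have hz : ConnectedSpace Z := by
      have e : Z ≅ Spec (CommRingCat.of K) := asIso (b ≫ g)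
      exact (Scheme.homeoOfIso e.symm).surjective.connectedSpace (Scheme.homeoOfIso e.symm).continuous
    obtain ⟨z⟩ := hz.toNonempty
    have h2 : b z ∈ Set.range j := hs (b z)
    rw [hr] at h2
    exact h2 ⟨z, rfl⟩
  have hcp : ConnectedSpace P := inferInstance
  have hcz : ConnectedSpace Z := by
    have e : Z ≅ Spec (CommRingCat.of K) := asIso (b ≫ g)
    exact (Scheme.homeoOfIso e.symm).surjective.connectedSpace (Scheme.homeoOfIso e.symm).continuous
  have hz0 := card_zero (Λ := Λ) Z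
  have hp0 := card_zero (Λ := Λ) P
  have hzq : ∀ q, 1 ≤ q → Subsingleton (HcG (𝟙 Z) (EtModW.constMod Λ Z Λ) q) := fun q hq =>
    subsingleton_point (b ≫ g) _ q hq
  -- everything in terms of the groups `GG`
  obtain ⟨α, β, δ, m, x1, x2, x3⟩ := exists_hcLes j b (𝟙 P) g j g (𝟙 Z) (b ≫ g) hn0 hn hr
    (by rw [Category.id_comp]) (by rw [Category.id_comp, Category.id_comp]) (EtModW.constMod Λ P Λ)
  have eU : ∀ q, Nonempty (GG j g ((EtModW.pull Λ j).obj (EtModW.constMod Λ P Λ)) q ≃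
      HcG lU (EtModW.constMod Λ U Λ) q) := by
    intro q
    obtain ⟨e1⟩ := nonempty_hcEquiv j g q ((EtModW.pull Λ j).obj (EtModW.constMod Λ P Λ))
    obtain ⟨e2⟩ := hc_congr j (FixPt.pullUnit (Λ := Λ) j) q
    obtain ⟨e3⟩ := hind q
    exact ⟨(e1.toEquiv.trans e2.toEquiv).trans e3.toEquiv⟩
  have eZ : ∀ q, Nonempty (GG (𝟙 Z) (b ≫ g) ((EtModW.pull Λ b).obj (EtModW.constMod Λ P Λ)) q ≃
      HcG (𝟙 Z) (EtModW.constMod Λ Z Λ) q) := by
    intro q
    obtain ⟨e1⟩ := nonempty_hcEquiv (𝟙 Z) (b ≫ g) q ((EtModW.pull Λ b).obj (EtModW.constMod Λ P Λ))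
    obtain ⟨e2⟩ := hc_congr (𝟙 Z) (FixPt.pullUnit (Λ := Λ) b) q
    exact ⟨e1.toEquiv.trans e2.toEquiv⟩
  have eP : ∀ q, Nonempty (GG (𝟙 P) g (EtModW.constMod Λ P Λ) q ≃
      HcG (𝟙 P) (EtModW.constMod Λ P Λ) q) := by
    intro q
    obtain ⟨e1⟩ := nonempty_hcEquiv (𝟙 P) g q (EtModW.constMod Λ P Λ)
    exact ⟨e1.toEquiv⟩
  have sZ : ∀ q, 1 ≤ q →
      Subsingleton (GG (𝟙 Z) (b ≫ g) ((EtModW.pull Λ b).obj (EtModW.constMod Λ P Λ)) q) := by
    intro q hq
    obtain ⟨e⟩ := eZ q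
    have := hzq q hq
    exact e.subsingleton
  have sU0 : Subsingleton (HcG lU (EtModW.constMod Λ U Λ) 0) := by
    obtain ⟨e⟩ := hind 0
    exact e.symm.toEquiv.subsingleton
  refine ⟨sU0, ?_, ?_⟩
  · obtain ⟨e⟩ := eU 1
    obtain ⟨eP1⟩ := eP 1
    obtain ⟨eU0⟩ := eU 0
    obtain ⟨eZ0⟩ := eZ 0
    obtain ⟨eP0⟩ := eP 0
    have i1 : Subsingleton (GG (𝟙 P) g (EtModW.constMod Λ P Λ) 1) := eP1.subsingleton
    have i2 : Subsingleton (GG j g ((EtModW.pull Λ j).obj (EtModW.constMod Λ P Λ)) 0) := eU0.subsingleton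
    have i3 : Function.Injective (β 0) := injective_of_exact (α 0) (β 0) (x1 0)
    have c1 : Nat.card (GG (𝟙 Z) (b ≫ g) ((EtModW.pull Λ b).obj (EtModW.constMod Λ P Λ)) 0) = Nat.card Λ :=
      (Nat.card_congr eZ0).trans hz0
    have c2 : Nat.card (GG (𝟙 P) g (EtModW.constMod Λ P Λ) 0) = Nat.card Λ := (Nat.card_congr eP0).trans hp0
    have hΛ : Nat.card Λ ≠ 0 := Nat.card_pos.ne'
    have f1 : Finite (GG (𝟙 Z) (b ≫ g) ((EtModW.pull Λ b).obj (EtModW.constMod Λ P Λ)) 0) :=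
      Nat.finite_of_card_ne_zero (by rw [c1]; exact hΛ)
    have i4 : Function.Surjective (β 0) := by
      have h5 : Function.Bijective (β 0) := (Nat.bijective_iff_injective_and_card _).2 ⟨i3, by rw [c1, c2]⟩
      exact h5.2
    have i5 : Function.Injective (α 1) := by
      rw [injective_iff_map_eq_zero]
      intro x hx
      obtain ⟨z, hz⟩ := (x3 0 x).1 hx
      obtain ⟨y, rfl⟩ := i4 z
      rw [← hz]
      exact (x2 0 _).2 ⟨y, rfl⟩
    have i6 : Subsingleton (GG j g ((EtModW.pull Λ j).obj (EtModW.constMod Λ P Λ)) 1) := i5.subsingleton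
    exact e.symm.subsingleton
  · intro q hq
    obtain ⟨q, rfl⟩ := Nat.exists_eq_add_of_le' hq
    have i1 := sZ (q + 1) (by omega)
    have i2 := sZ (q + 2) (by omega)
    have hb : Function.Bijective (α (q + 2)) :=
      ⟨injective_of_exact (δ (q + 1)) (α (q + 2)) (x3 (q + 1)),
        surjective_of_exact (α (q + 2)) (β (q + 2)) (x1 (q + 2))⟩
    obtain ⟨e1⟩ := eU (q + 2)
    obtain ⟨e2⟩ := eP (q + 2)
    let e : HcG lU (EtModW.constMod Λ U Λ) (q + 2) ≃ HcG (𝟙 P) (EtModW.constMod Λ P Λ) (q + 2) :=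
      e1.symm.trans ((Equiv.ofBijective _ hb).trans e2)
    exact ⟨Nat.card_congr e, fun h => e.subsingleton⟩

end Groth.Agent.Sga4h.H299.CurveCst
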