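import Groth.Agent.EtpbcB.RDerLES

/-!
# The long exact sequence of right derived functors, transported along isomorphisms
-/

set_option autoImplicit false
set_option backward.isDefEq.respectTransparency false
universe v u v' u'

open CategoryTheory CategoryTheory.Limits

namespace Groth.Agent.Sga4h.H299.Les

open Groth.Agent.EtpbcB.RDerLES

variable {C : Type u} [Category.{v} C] [Abelian C] [HasInjectiveResolutions C]
variable {D : Type u'} [Category.{v'} D] [Abelian D]
variable (G : C ⥤ D) [G.Additive] [PreservesFiniteLimits G]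

theorem mono_zero {S : ShortComplex C} (hS : S.ShortExact) : Mono ((G.rightDerived 0).map S.f) := by
  have := hS.mono_f
  have h1 : Mono (G.map S.f) := inferInstance
  have h2 := G.rightDerivedZeroIsoSelf.hom.naturality S.f
  have h3 : Mono ((G.rightDerived 0).map S.f ≫ G.rightDerivedZeroIsoSelf.hom.app S.X₂) := by
    rw [h2]
    infer_instance
  exact mono_of_mono _ (G.rightDerivedZeroIsoSelf.hom.app S.X₂)

theorem exists_les {S : ShortComplex C} (hS : S.ShortExact) (A₁ A₂ A₃ : ℕ → D)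
    (i₁ : ∀ q, Nonempty (A₁ q ≅ (G.rightDerived q).obj S.X₁))
    (i₂ : ∀ q, Nonempty (A₂ q ≅ (G.rightDerived q).obj S.X₂))
    (i₃ : ∀ q, Nonempty (A₃ q ≅ (G.rightDerived q).obj S.X₃)) :
    ∃ (α : ∀ q, A₁ q ⟶ A₂ q) (β : ∀ q, A₂ q ⟶ A₃ q) (δ : ∀ q, A₃ q ⟶ A₁ (q + 1))
      (h1 : ∀ q, α q ≫ β q = 0) (h2 : ∀ q, β q ≫ δ q = 0) (h3 : ∀ q, δ q ≫ α (q + 1) = 0),
      Mono (α 0) ∧ (∀ q, (ShortComplex.mk _ _ (h1 q)).Exact) ∧ (∀ q, (ShortComplex.mk _ _ (h2 q)).Exact) ∧
        ∀ q, (ShortComplex.mk _ _ (h3 q)).Exact := by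
  let e₁ := fun q => (i₁ q).some
  let e₂ := fun q => (i₂ q).some
  let e₃ := fun q => (i₃ q).some
  refine ⟨fun q => (e₁ q).hom ≫ (G.rightDerived q).map S.f ≫ (e₂ q).inv,
    fun q => (e₂ q).hom ≫ (G.rightDerived q).map S.g ≫ (e₃ q).inv,
    fun q => (e₃ q).hom ≫ δ G hS q ≫ (e₁ (q + 1)).inv, ?_, ?_, ?_, ?_, ?_, ?_, ?_⟩
  · intro q
    simp only [Category.assoc, Iso.inv_hom_id_assoc]
    rw [← Category.assoc ((G.rightDerived q).map S.f), EtpbcB.RDerLES.map_comp_zero, zero_comp, comp_zero]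
  · intro q
    simp only [Category.assoc, Iso.inv_hom_id_assoc]
    rw [← Category.assoc ((G.rightDerived q).map S.g), comp_δ, zero_comp, comp_zero]
  · intro q
    simp only [Category.assoc, Iso.inv_hom_id_assoc]
    rw [← Category.assoc (δ G hS q), δ_comp, zero_comp, comp_zero]
  · have := mono_zero G hS
    infer_instance
  · intro q
    refine (ShortComplex.exact_iff_of_iso (ShortComplex.isoMk (e₁ q) (e₂ q) (e₃ q) ?_ ?_)).2
      (exact₂ G hS q)
    · simp
    · simp
  · intro q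
    refine (ShortComplex.exact_iff_of_iso (ShortComplex.isoMk (e₂ q) (e₃ q) (e₁ (q + 1)) ?_ ?_)).2
      (exact₃ G hS q)
    · simp
    · simp
  · intro q
    refine (ShortComplex.exact_iff_of_iso (ShortComplex.isoMk (e₃ q) (e₁ (q + 1)) (e₂ (q + 1)) ?_ ?_)).2
      (exact₁ G hS q)
    · simp
    · simp

end Groth.Agent.Sga4h.H299.Les
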