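import Groth.Agent.Sga4h.H299.Leray
import Groth.Agent.Sga4h.H299.Les
import Groth.Agent.Sga4h.LFinSupp
import Groth.Agent.Sga4A.IntegralSection

/-!
# Finite morphisms and excision for `R^q f_!` of sheaves of modules over a torsion ring

* `nonempty_rs_finite` : `R^q (f b)_! N ≅ R^q f_! (b_* N)` for `b` finite;
* `excSeq` : `0 ⟶ j_! j^* F ⟶ F ⟶ b_* b^* F ⟶ 0`, `j` open, `b` closed, complementary;
* `exists_les` : the long exact sequence of `R^q f_!`;
* `nonempty_of_open`, `nonempty_of_closed`, `isZero_of_open_closed`.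
-/

set_option autoImplicit false
universe u

open CategoryTheory CategoryTheory.Limits AlgebraicGeometry Opposite

namespace Groth.Agent.Sga4h.H299.Exc

open Groth.Agent.Sga4h.ModRestr Groth.Agent.Sga4h.EtaleRes Groth.Agent.Etrest.ModAb
  Groth.Agent.Sga4h.H299.ExtBC Groth.Agent.Etcore.LPullComp Groth.Agent.Etrest.ModCons
  Groth.Agent.Sga4h.H299.Rs Groth.Agent.Sga4h.H299.AbBasic Groth.Agent.Sga4h.H299.Leray
  Groth.Agent.EtpbcB.RDerLES

attribute [local instance] jCont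

variable {Λ : Type (u + 1)} [CommRing Λ]

theorem isZero_rpush_integral {X Y : Scheme.{u}} (f : X ⟶ Y) [IsIntegralHom f] (N : EtModW.Mod Λ X) (q : ℕ)
    (hq : 1 ≤ q) : IsZero ((EtModW.Rpush Λ f q).obj N) :=
  isZero_of_ab ((Sga4A.EtSplit.isZero_Rpush f _ q hq).of_iso ((rpushIso Λ f q).app N))

/-- `(𝟙)_! ≅ 𝟭` -/
noncomputable def extId (X : Scheme.{u}) : ext Λ (𝟙 X) ≅ 𝟭 (EtModW.Mod Λ X) :=
  Adjunction.leftAdjointUniq (extResAdj Λ (𝟙 X))
    (Adjunction.id.ofNatIsoRight ((pullId Λ X).symm ≪≫ resPull Λ (𝟙 X)))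

/-- `R^q f_!` for `f` proper. -/
noncomputable def rsId {X S : Scheme.{u}} (f : X ⟶ S) (q : ℕ) : RS Λ (𝟙 X) f q ≅ EtModW.Rpush Λ f q :=
  Functor.isoWhiskerRight (extId X) (EtModW.Rpush Λ f q) ≪≫ Functor.leftUnitor _

variable {n : ℕ}

/-- Finite direct images: `R^q (b ≫ f)_! N ≅ R^q f_! (b_* N)`. -/
theorem nonempty_rs_finite (hn0 : 0 < n) (hn : (n : Λ) = 0) {Z X P S E : Scheme.{u}} (b : Z ⟶ X) [IsFinite b]
    (l : X ⟶ P) (p : P ⟶ S) (lZ : Z ⟶ E) (e : E ⟶ S) [IsOpenImmersion l] [IsProper p] [IsOpenImmersion lZ]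
    [IsProper e] [QuasiCompact l] [CompactSpace P] [QuasiSeparatedSpace P] (w : lZ ≫ e = b ≫ l ≫ p)
    (N : EtModW.Mod Λ Z) (q : ℕ) :
    Nonempty ((RS Λ lZ e q).obj N ≅ (RS Λ l p q).obj ((EtModW.push Λ b).obj N)) := by
  obtain ⟨e1⟩ := nonempty_leray (𝟙 Z) b l p lZ e hn0 hn (by rw [w, Category.id_comp]) 0 N
    (fun q hq => (isZero_rpush_integral b N q (by omega)).of_iso ((rsId b q).app N)) q
  exact ⟨e1 ≪≫ (RS Λ l p q).mapIso ((rsId b 0).app N ≪≫
    (EtModW.push Λ b).rightDerivedZeroIsoSelf.app N)⟩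

section exc

variable {U X Z : Scheme.{u}} (j : U ⟶ X) [IsOpenImmersion j] (b : Z ⟶ X) [IsClosedImmersion b]
  (hr : Set.range j = (Set.range b)ᶜ)

include hr in
theorem isIso_counit_closedSeq (F : EtModW.Mod Λ X) :
    IsIso ((extResAdj Λ j).counit.app (LFinSupp.closedSeq b F).X₁) := by
  have hm := X144Shr.mono_counit Λ j (LFinSupp.closedSeq b F).X₁
  let ε := (extResAdj Λ j).counit.app (LFinSupp.closedSeq b F).X₁
  have hi : IsIso ((res Λ j).map ε) := X144Shr.isIso_res_counit Λ j _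
  have h1 : IsZero ((EtModW.pull Λ j).obj (cokernel ε)) := by
    have h2 : IsZero ((res Λ j).obj (cokernel ε)) :=
      (isZero_cokernel_of_epi ((res Λ j).map ε)).of_iso (PreservesCokernel.iso (res Λ j) ε)
    exact h2.of_iso ((resPull Λ j).app _)
  have h2 : IsZero ((EtModW.pull Λ b).obj (cokernel ε)) := by
    have : Epi ((EtModW.pull Λ b).map (cokernel.π ε)) := inferInstance
    exact IsZero.of_epi ((EtModW.pull Λ b).map (cokernel.π ε)) (LFinSupp.isZero_pull_closedSeq b F)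
  have h3 : IsZero (cokernel ε) := by
    refine LFinPull.isZero_of_pull (ι := Bool) (Z := fun i => match i with
        | true => U
        | false => Z) (fun i => match i with
        | true => j
        | false => b) ?_ _ ?_
    · intro y
      by_cases hy : y ∈ Set.range b
      · exact ⟨false, hy⟩
      · refine ⟨true, ?_⟩
        change y ∈ Set.range j
        rw [hr]
        exact hy
    · intro i
      match i with
      | true => exact h1
      | false => exact h2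
  have : Epi ε := Preadditive.epi_of_isZero_cokernel _ h3
  exact isIso_of_mono_of_epi ε

/-- The kernel of `F ⟶ b_* b^* F` is `j_! j^* F`. -/
theorem nonempty_closedSeq_iso (hr : Set.range j = (Set.range b)ᶜ) (F : EtModW.Mod Λ X) :
    Nonempty ((LFinSupp.closedSeq b F).X₁ ≅ (ext Λ j).obj ((EtModW.pull Λ j).obj F)) := by
  have h1 := isIso_counit_closedSeq j b hr F
  have h2 : IsIso ((EtModW.pull Λ j).map (LFinSupp.closedSeq b F).f) :=
    LFinSupp.isIso_pull_closedSeq b F j (fun z hz => by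
      have : j z ∈ Set.range j := ⟨z, rfl⟩
      rw [hr] at this
      exact this hz)
  let e1 : (ext Λ j).obj ((res Λ j).obj (LFinSupp.closedSeq b F).X₁) ≅ (LFinSupp.closedSeq b F).X₁ :=
    @asIso _ _ _ _ _ h1
  let e2 : (EtModW.pull Λ j).obj (LFinSupp.closedSeq b F).X₁ ≅ (EtModW.pull Λ j).obj F :=
    @asIso _ _ _ _ _ h2
  exact ⟨e1.symm ≪≫ (ext Λ j).mapIso ((resPull Λ j).symm.app _ ≪≫ e2)⟩

end exc

section les

variable {U X Z P S PU PZ : Scheme.{u}} (j : U ⟶ X) [IsOpenImmersion j] (b : Z ⟶ X) [IsClosedImmersion b]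
  (l : X ⟶ P) (p : P ⟶ S) (lU : U ⟶ PU) (pU : PU ⟶ S) (lZ : Z ⟶ PZ) (pZ : PZ ⟶ S)
  [IsOpenImmersion l] [IsProper p] [IsOpenImmersion lU] [IsProper pU] [IsOpenImmersion lZ] [IsProper pZ]
  [QuasiCompact l] [QuasiCompact j] [CompactSpace P] [QuasiSeparatedSpace P]

/-- The long exact sequence of `R^q f_!` attached to an open subscheme and its closed complement. -/
theorem exists_les (hn0 : 0 < n) (hn : (n : Λ) = 0) (hr : Set.range j = (Set.range b)ᶜ)
    (wU : lU ≫ pU = j ≫ l ≫ p) (wZ : lZ ≫ pZ = b ≫ l ≫ p) (F : EtModW.Mod Λ X) :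
    ∃ (α : ∀ q, (RS Λ lU pU q).obj ((EtModW.pull Λ j).obj F) ⟶ (RS Λ l p q).obj F)
      (β : ∀ q, (RS Λ l p q).obj F ⟶ (RS Λ lZ pZ q).obj ((EtModW.pull Λ b).obj F))
      (δ : ∀ q, (RS Λ lZ pZ q).obj ((EtModW.pull Λ b).obj F) ⟶
        (RS Λ lU pU (q + 1)).obj ((EtModW.pull Λ j).obj F))
      (h1 : ∀ q, α q ≫ β q = 0) (h2 : ∀ q, β q ≫ δ q = 0) (h3 : ∀ q, δ q ≫ α (q + 1) = 0),
      Mono (α 0) ∧ (∀ q, (ShortComplex.mk _ _ (h1 q)).Exact) ∧ (∀ q, (ShortComplex.mk _ _ (h2 q)).Exact) ∧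
        ∀ q, (ShortComplex.mk _ _ (h3 q)).Exact := by
  let T := (LFinSupp.closedSeq b F).map (ext Λ l)
  have hT : T.ShortExact := (LFinSupp.closedSeq_shortExact b F).map_of_exact (ext Λ l)
  have eU' : ∀ q, Nonempty ((RS Λ lU pU q).obj ((EtModW.pull Λ j).obj F) ≅
      ((EtModW.push Λ p).rightDerived q).obj T.X₁) := by
    intro q
    obtain ⟨e1⟩ := nonempty_closedSeq_iso j b hr F
    obtain ⟨e2⟩ := nonempty_indep hn0 hn (j ≫ l) p lU pU (by rw [wU, Category.assoc]) q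
      ((EtModW.pull Λ j).obj F)
    exact ⟨e2.symm ≪≫ (EtModW.Rpush Λ p q).mapIso
      (((extComp Λ j l).app ((EtModW.pull Λ j).obj F)).symm ≪≫ (ext Λ l).mapIso e1.symm)⟩
  have eZ' : ∀ q, Nonempty ((RS Λ lZ pZ q).obj ((EtModW.pull Λ b).obj F) ≅
      ((EtModW.push Λ p).rightDerived q).obj T.X₃) := by
    intro q
    obtain ⟨e1⟩ := nonempty_rs_finite hn0 hn b l p lZ pZ wZ ((EtModW.pull Λ b).obj F) q
    exact ⟨e1⟩
  exact Les.exists_les (EtModW.push Λ p) hT _ _ _ eU' (fun q => ⟨Iso.refl _⟩) eZ'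

/-- If the cohomology of the closed part vanishes, `R^q f_!` only sees the open part. -/
theorem nonempty_of_closed (hn0 : 0 < n) (hn : (n : Λ) = 0) (hr : Set.range j = (Set.range b)ᶜ)
    (wU : lU ≫ pU = j ≫ l ≫ p) (wZ : lZ ≫ pZ = b ≫ l ≫ p) (F : EtModW.Mod Λ X)
    (h : ∀ q, IsZero ((RS Λ lZ pZ q).obj ((EtModW.pull Λ b).obj F))) (q : ℕ) :
    Nonempty ((RS Λ lU pU q).obj ((EtModW.pull Λ j).obj F) ≅ (RS Λ l p q).obj F) := by
  obtain ⟨α, β, δ', h1, h2, h3, m, x1, x2, x3⟩ := exists_les j b l p lU pU lZ pZ hn0 hn hr wU wZ F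
  have he : Epi (α q) := (x1 q).epi_f ((h q).eq_of_tgt _ _)
  have hm : Mono (α q) := by
    cases q with
    | zero => exact m
    | succ q => exact (x3 q).mono_g ((h q).eq_of_src _ _)
  have := isIso_of_mono_of_epi (α q)
  exact ⟨asIso (α q)⟩

/-- If the cohomology of the open part vanishes, `R^q f_!` only sees the closed part. -/
theorem nonempty_of_open (hn0 : 0 < n) (hn : (n : Λ) = 0) (hr : Set.range j = (Set.range b)ᶜ)
    (wU : lU ≫ pU = j ≫ l ≫ p) (wZ : lZ ≫ pZ = b ≫ l ≫ p) (F : EtModW.Mod Λ X)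
    (h : ∀ q, IsZero ((RS Λ lU pU q).obj ((EtModW.pull Λ j).obj F))) (q : ℕ) :
    Nonempty ((RS Λ l p q).obj F ≅ (RS Λ lZ pZ q).obj ((EtModW.pull Λ b).obj F)) := by
  obtain ⟨α, β, δ', h1, h2, h3, m, x1, x2, x3⟩ := exists_les j b l p lU pU lZ pZ hn0 hn hr wU wZ F
  have hm : Mono (β q) := (x1 q).mono_g ((h q).eq_of_src _ _)
  have he : Epi (β q) := (x2 q).epi_f ((h (q + 1)).eq_of_tgt _ _)
  have := isIso_of_mono_of_epi (β q)
  exact ⟨asIso (β q)⟩

/-- Vanishing on both parts. -/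
theorem isZero_of_open_closed (hn0 : 0 < n) (hn : (n : Λ) = 0) (hr : Set.range j = (Set.range b)ᶜ)
    (wU : lU ≫ pU = j ≫ l ≫ p) (wZ : lZ ≫ pZ = b ≫ l ≫ p) (F : EtModW.Mod Λ X) (q : ℕ)
    (h : IsZero ((RS Λ lU pU q).obj ((EtModW.pull Λ j).obj F)))
    (h' : IsZero ((RS Λ lZ pZ q).obj ((EtModW.pull Λ b).obj F))) :
    IsZero ((RS Λ l p q).obj F) := by
  obtain ⟨α, β, δ', h1, h2, h3, m, x1, x2, x3⟩ := exists_les j b l p lU pU lZ pZ hn0 hn hr wU wZ F
  exact (x1 q).isZero_of_both_zeros (h.eq_of_src _ _) (h'.eq_of_tgt _ _)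

end les

end Groth.Agent.Sga4h.H299.Exc
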