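import Groth.Agent.Etrest.ModAb
import Groth.Agent.Sga4h.ModRestr
import Groth.Agent.Etcore.ShriekBaseChange

/-!
# Extension by zero of sheaves of modules: underlying abelian sheaf, base change

* `extAb` : `ab (j_! M) ≅ j_! (ab M)`;
* `resPush` : `f'_* j'^* ≅ j^* f_*` for a cartesian square with `j` étale;
* `extPull` : `j'_! f'^* ≅ f^* j_!`;
* `resPull` : `j^* ≅` inverse image, for sheaves of modules.
-/

set_option autoImplicit false
universe u

open CategoryTheory CategoryTheory.Limits AlgebraicGeometry Opposite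

namespace Groth.Agent.Sga4h.H299.ExtBC

open Groth.Agent.Sga4h.ModRestr Groth.Agent.Sga4h.EtaleRes Groth.Agent.Etrest.ModAb
  Groth.Agent.Etcore.ShriekBaseChange

variable (Λ : Type (u + 1)) [CommRing Λ]

attribute [local instance] jCont

section

variable {U X : Scheme.{u}} (j : U ⟶ X) [Etale j]

/-- Restriction commutes with passing to the underlying abelian sheaf. -/
noncomputable def resAb : res Λ j ⋙ ab Λ U ≅ ab Λ X ⋙ EtShriek.restrAlong j :=
  NatIso.ofComponents (fun _ => Iso.refl _) (fun _ => by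
    apply Sheaf.hom_ext
    rfl)

/-- Restriction commutes with coinduction. -/
noncomputable def resCoind : coindSh Λ X ⋙ res Λ j ≅ EtShriek.restrAlong j ⋙ coindSh Λ U :=
  NatIso.ofComponents (fun _ => Iso.refl _) (fun _ => by
    apply Sheaf.hom_ext
    rfl)

/-- Extension by zero commutes with passing to the underlying abelian sheaf. -/
noncomputable def extAb : ext Λ j ⋙ ab Λ X ≅ ab Λ U ⋙ EtShriek.extZero j :=
  (((extResAdj Λ j).comp (coindShAdj Λ X)).ofNatIsoRight (resCoind Λ j)).leftAdjointUniq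
    ((coindShAdj Λ U).comp (EtShriek.extZeroAdj j))

/-- The inverse image along an étale morphism is the restriction. -/
noncomputable def resPull : EtModW.pull Λ j ≅ res Λ j :=
  Adjunction.leftAdjointUniq (pullPushAdj Λ j) (resPushAdj Λ j)

end

section

variable {V' V Y X : Scheme.{u}} (j : V ⟶ X) [Etale j] (f : Y ⟶ X) (j' : V' ⟶ Y) [Etale j'] (f' : V' ⟶ V)
  (h : IsPullback j' f' f j)

/-- `j^{-1} f_* ≅ f'_* j'^{-1}` -/
noncomputable def resPush : res Λ j' ⋙ EtModW.push Λ f' ≅ EtModW.push Λ f ⋙ res Λ j :=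
  letI := Functor.isContinuous_comp (EtShriek.compEtale j) (EtCoh.bc f) V.smallEtaleTopology
    X.smallEtaleTopology Y.smallEtaleTopology
  letI := Functor.isContinuous_comp (EtCoh.bc f') (EtShriek.compEtale j') V.smallEtaleTopology
    V'.smallEtaleTopology Y.smallEtaleTopology
  Functor.sheafPushforwardContinuousIso (bcCompIso j f j' f' h) (ModuleCat.{u + 1} Λ)
    V.smallEtaleTopology Y.smallEtaleTopology

/-- `j'_! f'^{-1} ≅ f^{-1} j_!` -/
noncomputable def extPull : EtModW.pull Λ f' ⋙ ext Λ j' ≅ ext Λ j ⋙ EtModW.pull Λ f :=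
  Adjunction.leftAdjointUniq
    (((pullPushAdj Λ f').comp (extResAdj Λ j')).ofNatIsoRight (resPush Λ j f j' f' h))
    ((extResAdj Λ j).comp (pullPushAdj Λ f))

end

end Groth.Agent.Sga4h.H299.ExtBC
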