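import Groth.Agent.Sga4h.H299.GCoord
import Mathlib.RingTheory.Polynomial.Ideal
import Mathlib.RingTheory.Spectrum.Prime.Topology

/-!
# `G_m ⊂ A^1` and `G_m ∖ {1} ⊂ G_m` over a field, with their closed complements
-/

set_option autoImplicit false
universe u

open CategoryTheory CategoryTheory.Limits AlgebraicGeometry Opposite
open scoped LaurentPolynomial

namespace Groth.Agent.Sga4h.H299.GCoordK

open Groth.Agent.Sga4h.H299.GCoord

variable (K : Type u) [Field K]

/-- The structure morphism of the affine line. -/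
noncomputable abbrev a : Spec (CommRingCat.of (Polynomial K)) ⟶ Spec (CommRingCat.of K) :=
  Spec.map (CommRingCat.ofHom (Polynomial.C : K →+* Polynomial K))

/-- The structure morphism of the punctured affine line. -/
noncomputable abbrev g : Spec (CommRingCat.of K[T;T⁻¹]) ⟶ Spec (CommRingCat.of K) :=
  Spec.map (CommRingCat.ofHom (algebraMap K K[T;T⁻¹]))

/-- The coordinate of the affine line. -/
noncomputable abbrev t : Γ(Spec (CommRingCat.of (Polynomial K)), ⊤) := gl (Polynomial K) Polynomial.X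

/-- The coordinate of the punctured affine line. -/
noncomputable abbrev x : Γ(Spec (CommRingCat.of K[T;T⁻¹]), ⊤) := gl K[T;T⁻¹] (LaurentPolynomial.T 1)

/-- The punctured affine line in the affine line. -/
noncomputable def o : Spec (CommRingCat.of K[T;T⁻¹]) ⟶ Spec (CommRingCat.of (Polynomial K)) :=
  Spec.map (CommRingCat.ofHom (algebraMap (Polynomial K) K[T;T⁻¹]))

instance : IsOpenImmersion (o K) := IsOpenImmersion.of_isLocalization (Polynomial.X : Polynomial K)

instance : LocallyOfFiniteType (a K) := by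
  rw [HasRingHomProperty.Spec_iff (P := @LocallyOfFiniteType)]
  change (algebraMap K (Polynomial K)).FiniteType
  rw [RingHom.finiteType_algebraMap]
  infer_instance

/-- The origin. -/
noncomputable def z : Spec (CommRingCat.of K) ⟶ Spec (CommRingCat.of (Polynomial K)) :=
  Spec.map (CommRingCat.ofHom (Polynomial.evalRingHom (0 : K)))

instance : IsClosedImmersion (z K) :=
  IsClosedImmersion.spec_of_surjective _ (fun r => ⟨Polynomial.C r, Polynomial.eval_C⟩)

/-- Evaluation at `1` on Laurent polynomials. -/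
noncomputable def ev1 : K[T;T⁻¹] →+* K := LaurentPolynomial.eval₂ (RingHom.id K) 1

theorem ev1_C (r : K) : ev1 K (algebraMap K K[T;T⁻¹] r) = r := by
  change LaurentPolynomial.eval₂ (RingHom.id K) 1 (LaurentPolynomial.C r) = r
  simp

theorem ev1_T : ev1 K (LaurentPolynomial.T 1) = 1 := by
  simp [ev1]

/-- The point `1` of the punctured affine line. -/
noncomputable def e : Spec (CommRingCat.of K) ⟶ Spec (CommRingCat.of K[T;T⁻¹]) :=
  Spec.map (CommRingCat.ofHom (ev1 K))

instance : IsClosedImmersion (e K) :=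
  IsClosedImmersion.spec_of_surjective _ (fun r => ⟨algebraMap K K[T;T⁻¹] r, ev1_C K r⟩)

/-- The ring of `G_m ∖ {1}`. -/
abbrev RY : Type u := Localization.Away (LaurentPolynomial.T 1 - 1 : K[T;T⁻¹])

/-- `G_m ∖ {1}` in `G_m`. -/
noncomputable def y : Spec (CommRingCat.of (RY K)) ⟶ Spec (CommRingCat.of K[T;T⁻¹]) :=
  Spec.map (CommRingCat.ofHom (algebraMap K[T;T⁻¹] (RY K)))

instance : IsOpenImmersion (y K) := IsOpenImmersion.of_isLocalization (LaurentPolynomial.T 1 - 1 : K[T;T⁻¹])

theorem toLaurent_eq : algebraMap (Polynomial K) K[T;T⁻¹] = (Polynomial.toLaurent : Polynomial K →+* _) :=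
  RingHom.ext LaurentPolynomial.algebraMap_eq_toLaurent

theorem o_a : o K ≫ a K = g K := by
  unfold o a g
  rw [← Spec.map_comp, ← CommRingCat.ofHom_comp]
  congr 2
  apply RingHom.ext
  intro r
  change algebraMap (Polynomial K) K[T;T⁻¹] (Polynomial.C r) = LaurentPolynomial.C r
  rw [toLaurent_eq, Polynomial.toLaurent_C]

instance : LocallyOfFiniteType (g K) := by
  rw [← o_a]
  infer_instance

theorem z_a : z K ≫ a K = 𝟙 _ := by
  unfold z a
  rw [← Spec.map_comp, ← CommRingCat.ofHom_comp]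
  have : (Polynomial.evalRingHom (0 : K)).comp (Polynomial.C) = RingHom.id K := by
    ext r
    simp
  rw [this]
  exact Spec.map_id _

theorem e_g : e K ≫ g K = 𝟙 _ := by
  unfold e g
  rw [← Spec.map_comp, ← CommRingCat.ofHom_comp]
  have : (ev1 K).comp (algebraMap K K[T;T⁻¹]) = RingHom.id K := by
    apply RingHom.ext
    intro r
    exact ev1_C K r
  rw [this]
  exact Spec.map_id _

theorem o_t : (o K).appTop.hom (t K) = x K := by
  unfold o t x
  rw [gl_naturality, toLaurent_eq, Polynomial.toLaurent_X]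

theorem z_t : (z K).appTop.hom (t K) = 0 := by
  unfold z t
  rw [gl_naturality]
  simp

theorem e_x : (e K).appTop.hom (x K) = 1 := by
  unfold e x
  rw [gl_naturality, ev1_T, map_one]

theorem isUnit_y : IsUnit ((y K).appTop.hom (x K - 1)) := by
  have h : x K - 1 = gl K[T;T⁻¹] (LaurentPolynomial.T 1 - 1) := by
    rw [map_sub, map_one]
  rw [h]
  unfold y
  rw [gl_naturality]
  exact (IsLocalization.Away.algebraMap_isUnit (LaurentPolynomial.T 1 - 1 : K[T;T⁻¹])).map _

theorem range_o : Set.range (o K) = (Set.range (z K))ᶜ := by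
  have h1 : Set.range (o K) = ((PrimeSpectrum.basicOpen (Polynomial.X : Polynomial K) :
      TopologicalSpace.Opens (PrimeSpectrum (Polynomial K))) : Set (PrimeSpectrum (Polynomial K))) :=
    PrimeSpectrum.localization_away_comap_range K[T;T⁻¹] (Polynomial.X : Polynomial K)
  have h2 : Set.range (z K) = PrimeSpectrum.zeroLocus (RingHom.ker (Polynomial.evalRingHom (0 : K)) : Set _) :=
    _root_.range_comap_of_surjective _ _ (fun r => ⟨Polynomial.C r, Polynomial.eval_C⟩)
  rw [h1, h2, Polynomial.ker_evalRingHom, PrimeSpectrum.zeroLocus_span, PrimeSpectrum.basicOpen_eq_zeroLocus_compl,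
    Polynomial.C_0, sub_zero]
  rfl

theorem ker_ev1 (f : K[T;T⁻¹]) (hf : ev1 K f = 0) : ∃ r, f = r * (LaurentPolynomial.T 1 - 1) := by
  obtain ⟨⟨p, s⟩, hs⟩ := IsLocalization.surj (Submonoid.powers (Polynomial.X : Polynomial K)) f
  obtain ⟨s, n, rfl⟩ := s
  have h1 : ev1 K (algebraMap (Polynomial K) K[T;T⁻¹] p) = 0 := by
    rw [← hs, map_mul, hf, zero_mul]
  have h2 : ∀ q : Polynomial K, ev1 K (algebraMap (Polynomial K) K[T;T⁻¹] q) = q.eval 1 := by
    intro q
    have : (ev1 K).comp (algebraMap (Polynomial K) K[T;T⁻¹]) = Polynomial.evalRingHom 1 := by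
      apply Polynomial.ringHom_ext
      · intro r
        simp [toLaurent_eq, ev1]
      · simp [toLaurent_eq, ev1]
    exact DFunLike.congr_fun this q
  rw [h2] at h1
  obtain ⟨r, hr⟩ := Polynomial.dvd_iff_isRoot.2 h1
  have hu : IsUnit (algebraMap (Polynomial K) K[T;T⁻¹] (Polynomial.X ^ n)) :=
    IsLocalization.map_units K[T;T⁻¹] (⟨Polynomial.X ^ n, n, rfl⟩ : Submonoid.powers (Polynomial.X : Polynomial K))
  obtain ⟨u, hu⟩ := hu
  refine ⟨↑u⁻¹ * algebraMap (Polynomial K) K[T;T⁻¹] r, ?_⟩
  have h3 : algebraMap (Polynomial K) K[T;T⁻¹] (Polynomial.X - Polynomial.C 1) = LaurentPolynomial.T 1 - 1 := by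
    rw [map_sub, toLaurent_eq, Polynomial.toLaurent_X, map_one, map_one]
  have h4 : f * u = algebraMap (Polynomial K) K[T;T⁻¹] p := by
    rw [hu]
    exact hs
  rw [hr, map_mul, h3] at h4
  calc f = f * u * ↑u⁻¹ := by rw [mul_assoc, Units.mul_inv, mul_one]
    _ = _ := by rw [h4]; ring

theorem range_y : Set.range (y K) = (Set.range (e K))ᶜ := by
  have h1 : Set.range (y K) = ((PrimeSpectrum.basicOpen (LaurentPolynomial.T 1 - 1 : K[T;T⁻¹]) :
      TopologicalSpace.Opens (PrimeSpectrum K[T;T⁻¹])) : Set (PrimeSpectrum K[T;T⁻¹])) :=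
    PrimeSpectrum.localization_away_comap_range (RY K) (LaurentPolynomial.T 1 - 1 : K[T;T⁻¹])
  have h2 : Set.range (e K) = PrimeSpectrum.zeroLocus (RingHom.ker (ev1 K) : Set _) :=
    _root_.range_comap_of_surjective _ _ (fun r => ⟨algebraMap K K[T;T⁻¹] r, ev1_C K r⟩)
  have h3 : (RingHom.ker (ev1 K) : Ideal K[T;T⁻¹]) = Ideal.span {LaurentPolynomial.T 1 - 1} := by
    apply le_antisymm
    · intro f hf
      obtain ⟨r, hr⟩ := ker_ev1 K f hf
      rw [hr]
      exact Ideal.mul_mem_left _ _ (Ideal.subset_span rfl)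
    · rw [Ideal.span_le, Set.singleton_subset_iff]
      change ev1 K (LaurentPolynomial.T 1 - 1) = 0
      rw [map_sub, ev1_T, map_one, sub_self]
  rw [h1, h2, h3, PrimeSpectrum.zeroLocus_span, PrimeSpectrum.basicOpen_eq_zeroLocus_compl]
  rfl

end Groth.Agent.Sga4h.H299.GCoordK
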