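import Groth.Agent.Sga4h.H299.HcN
import Groth.Agent.Sga4h.H299.GCoordK
import Groth.Agent.Sga4h.H918.Lang

/-!
# The total space of the Gauss sum computation

`K` separably closed, `θ` a character of `k × k^*`; on `W = A^1 × G_m` with coordinates `(t, x)` the sheaf
`F_θ(t (x - 1), x)`:
* on `x ≠ 1` it has no cohomology as soon as `F_θ(t, 1)` has none on `A^1`;
* on `t = 0` it is `F_θ(0, x)`; on `x = 1` it is constant; on `t ≠ 0` it is `F_θ(x, x) ⊠ F_θ(-x, x⁻¹)`.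
-/

set_option autoImplicit false
universe u

open CategoryTheory CategoryTheory.Limits AlgebraicGeometry Opposite
open scoped LaurentPolynomial

namespace Groth.Agent.Sga4h.H299.GaussGeo

open Groth.Agent.Etrest.ModAb Groth.Agent.Sga4h.H299.Proj Groth.Agent.Sga4h.H299.HcN
  Groth.Agent.Sga4h.H299.GCoord Groth.Agent.Sga4h.H299.GCoordK
open Groth.Agent.Sga4h.H918.Ask (GG)
open Groth.Agent.Sga4h.H918.Lang (F pullF mulF trivF)

variable {k : Type*} [Field k] [Fintype k] {S : Scheme.{u}} {Λ : Type (u + 1)} [CommRing Λ]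
  (ρ : k →+* Γ(S, ⊤)) (θ : GG k →* Λˣ)

/-- `F_θ(φ, u)` on an `S`-scheme. -/
noncomputable abbrev FF {X : Scheme.{u}} (f : X ⟶ S) (φ u : Γ(X, ⊤)) (hu : IsUnit u) : EtModW.Mod Λ X :=
  F (f.appTop.hom.comp ρ) θ φ u hu

theorem FF_congr {X : Scheme.{u}} {f f' : X ⟶ S} (h : f = f') {φ φ' u u' : Γ(X, ⊤)} (h1 : φ = φ')
    (h2 : u = u') (hu : IsUnit u) (hu' : IsUnit u') :
    Nonempty (FF ρ θ f φ u hu ≅ FF ρ θ f' φ' u' hu') := by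
  subst h h1 h2
  exact ⟨Iso.refl _⟩

theorem pull_FF {X Z : Scheme.{u}} {f : X ⟶ S} {f' : Z ⟶ S} (m : Z ⟶ X) (w : m ≫ f = f')
    (φ u : Γ(X, ⊤)) (hu : IsUnit u) (φ' u' : Γ(Z, ⊤)) (h1 : m.appTop.hom φ = φ') (h2 : m.appTop.hom u = u')
    (hu' : IsUnit u') : Nonempty ((EtModW.pull Λ m).obj (FF ρ θ f φ u hu) ≅ FF ρ θ f' φ' u' hu') := by
  subst w h1 h2
  exact pullF m θ hu

/-- `F(φ, u) ⊗ F(φ', u') ≅ F(φ'', u'')` -/
theorem mul_FF {X : Scheme.{u}} (f : X ⟶ S) {φ u φ' u' φ'' u'' : Γ(X, ⊤)} (hu : IsUnit u) (hu' : IsUnit u')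
    (hu'' : IsUnit u'') (h1 : φ + φ' = φ'') (h2 : u * u' = u'') :
    Nonempty (FF ρ θ f φ'' u'' hu'' ≅ (T (FF ρ θ f φ u hu)).obj (FF ρ θ f φ' u' hu')) := by
  subst h1 h2
  exact mulF _ θ hu hu'

/-- `F(0, 1) ≅ Λ` -/
theorem triv_FF {X : Scheme.{u}} (f : X ⟶ S) {φ u : Γ(X, ⊤)} (hu : IsUnit u) (h1 : φ = 0) (h2 : u = 1) :
    Nonempty (FF ρ θ f φ u hu ≅ EtModW.constMod Λ X Λ) := by
  subst h1 h2
  exact trivF θ 0 1 (by rw [zero_pow Fintype.card_ne_zero, sub_zero]) (one_pow _) hu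

/-- `F(φ, u)` is invertible. -/
theorem inv_FF {X : Scheme.{u}} (f : X ⟶ S) (φ u : Γ(X, ⊤)) (hu : IsUnit u) :
    ∃ N' : EtModW.Mod Λ X, Nonempty ((T (FF ρ θ f φ u hu)).obj N' ≅ EtModW.constMod Λ X Λ) := by
  obtain ⟨u, rfl⟩ := hu
  refine ⟨FF ρ θ f (-φ) (↑u⁻¹) (u⁻¹).isUnit, ?_⟩
  obtain ⟨e1⟩ := mul_FF ρ θ f (φ := φ) (φ' := -φ) u.isUnit (u⁻¹).isUnit isUnit_one (add_neg_cancel φ)
    (Units.mul_inv u)
  obtain ⟨e2⟩ := triv_FF ρ θ f (X := X) isUnit_one rfl rfl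
  exact ⟨e1.symm ≪≫ e2⟩

/-- Transport of both factors of a tensor product. -/
theorem tens_congr {X : Scheme.{u}} {L L' N N' : EtModW.Mod Λ X} (e : Nonempty (L ≅ L')) (e' : Nonempty (N ≅ N')) :
    Nonempty ((T L).obj N ≅ (T L').obj N') := by
  obtain ⟨e⟩ := e
  obtain ⟨e'⟩ := e'
  exact ⟨(tCongr e).app N ≪≫ (T L').mapIso e'⟩

end Groth.Agent.Sga4h.H299.GaussGeo
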