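import Groth.Agent.Sga4h.H299.GaussGeo

/-!
# The cohomology of the total space of the Gauss sum computation
-/

set_option autoImplicit false
universe u

open CategoryTheory CategoryTheory.Limits AlgebraicGeometry Opposite
open scoped LaurentPolynomial

namespace Groth.Agent.Sga4h.H299.GaussTot

open Groth.Agent.Etrest.ModAb Groth.Agent.Sga4h.H299.Proj Groth.Agent.Sga4h.H299.HcN
  Groth.Agent.Sga4h.H299.GCoord Groth.Agent.Sga4h.H299.GCoordK Groth.Agent.Sga4h.H299.GaussGeo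
open Groth.Agent.Sga4h.H918.Ask (GG)
open Groth.Agent.Sga4h.H918.Lang (F pullF mulF trivF)

variable {k : Type*} [Field k] [Fintype k] {K : Type u} [Field K] {Λ : Type (u + 1)} [Field Λ]
  (ρ : k →+* Γ(Spec (CommRingCat.of K), ⊤)) (θ : GG k →* Λˣ)
  {A G Y W V : Scheme.{u}} {a : A ⟶ Spec (CommRingCat.of K)} {t : Γ(A, ⊤)}
  {g : G ⟶ Spec (CommRingCat.of K)} {x : Γ(G, ⊤)} {pA : W ⟶ A} {pG : W ⟶ G}

/-- On `x ≠ 1` the sheaf `F_θ(t (x - 1), x)` has no cohomology. -/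
theorem hc_V1 [IsSepClosed K] {n : ℕ} (hn0 : 0 < n) (hn : (n : Λ) = 0) (ha : IsA1 a t) (hx : IsUnit x)
    {y : Y ⟶ G} (hy : IsUnit (y.appTop.hom (x - 1))) (hW : IsPullback pA pG a g) {j : V ⟶ W} {v : V ⟶ Y}
    (hj : IsPullback j v pG y) [IsSeparated a] [QuasiCompact a] [LocallyOfFiniteType a]
    {g' : Y ⟶ Spec (CommRingCat.of K)} (hg' : y ≫ g = g') [IsSeparated g'] [QuasiCompact g']
    [LocallyOfFiniteType g'] {w : V ⟶ Spec (CommRingCat.of K)} (hw : j ≫ pG ≫ g = w) [IsSeparated w]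
    [QuasiCompact w] [LocallyOfFiniteType w]
    (hA : ∀ q, hc a (FF ρ θ a t 1 isUnit_one) q = 1) {T1 X1 : Γ(V, ⊤)} (hT : (j ≫ pA).appTop.hom t = T1)
    (hX : (j ≫ pG).appTop.hom x = X1) (hu : IsUnit X1) (q : ℕ) :
    hc w (FF ρ θ w (T1 * (X1 - 1)) X1 hu) q = 1 := by
  have sq : IsPullback (j ≫ pA) v a (y ≫ g) := hj.paste_horiz hW
  rw [hg'] at sq
  have hv : IsA1 v ((j ≫ pA).appTop.hom t) := ha.baseChange sq
  rw [hT] at hv
  have hv' := hv.scale hy
  obtain ⟨pr, e1, e2⟩ := ha.exists_lift (v ≫ g') (T1 * v.appTop.hom (y.appTop.hom (x - 1)))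
  have P : IsPullback pr v a g' := hv'.isPullback ha g' pr e1 e2
  have hw' : v ≫ g' = w := by
    rw [← hg', ← Category.assoc, ← hj.w, Category.assoc, hw]
  have hX' : v.appTop.hom (y.appTop.hom x) = X1 := by
    rw [← hX, ← comp_app, ← hj.w]
  have hc1 : T1 * v.appTop.hom (y.appTop.hom (x - 1)) = T1 * (X1 - 1) := by
    rw [map_sub, map_sub, map_one, map_one, hX']
  obtain ⟨N', ⟨pN⟩⟩ := inv_FF ρ θ g' 0 (y.appTop.hom x) (hx.map _)
  have key := hc_kunneth_one hn0 hn P hw' (FF ρ θ a t 1 isUnit_one) pN hA q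
  rw [← key]
  refine hc_congr' ?_ q
  obtain ⟨m⟩ := mul_FF ρ θ w (φ := 0) (u := X1) (φ' := T1 * (X1 - 1)) (u' := 1) hu isUnit_one hu (zero_add _)
    (mul_one _)
  obtain ⟨m'⟩ := tens_congr
    (pull_FF ρ θ v hw' 0 (y.appTop.hom x) (hx.map _) 0 X1 (map_zero _) hX' hu)
    (pull_FF ρ θ pr (by rw [e1, hw']) t 1 isUnit_one (T1 * (X1 - 1)) 1 (by rw [e2, hc1]) (map_one _) isUnit_one)
  exact ⟨m ≪≫ m'.symm⟩

/-- On `t ≠ 0` the sheaf `F_θ(t (x - 1), x)` is an exterior product. -/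
theorem exists_V0 (hg : IsGm g x) {v : V ⟶ G} {T0 : Γ(V, ⊤)}
    (hv : IsGm v T0) {w : V ⟶ Spec (CommRingCat.of K)} (hw : v ≫ g = w)
    {X0 : Γ(V, ⊤)} (hX : v.appTop.hom x = X0) (hu : IsUnit X0) {x' : Γ(G, ⊤)} (hxx : x * x' = 1) :
    ∃ (pr1 pr2 : V ⟶ G), IsPullback pr1 pr2 g g ∧ pr2 ≫ g = w ∧
      Nonempty (FF ρ θ w (T0 * (X0 - 1)) X0 hu ≅
        (T ((EtModW.pull Λ pr2).obj (FF ρ θ g (-x) x' (IsUnit.of_mul_eq_one_right x hxx)))).obj
          ((EtModW.pull Λ pr1).obj (FF ρ θ g x x hg.isUnit))) := by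
  obtain ⟨pr1, a1, b1⟩ := hg.exists_lift w (T0 * X0) (hv.isUnit.mul hu)
  obtain ⟨pr2, a2, b2⟩ := hg.exists_lift w T0 hv.isUnit
  refine ⟨pr1, pr2, isPullback_gm_gm hg hv pr1 pr2 (a1.trans hw.symm) (a2.trans hw.symm) (by rw [b1, hX]) b2,
    a2, ?_⟩
  have hT' : IsUnit (pr2.appTop.hom x') := (IsUnit.of_mul_eq_one_right x hxx).map _
  have h1 : T0 * pr2.appTop.hom x' = 1 := by
    rw [← b2, ← map_mul, hxx, map_one]
  obtain ⟨m⟩ := mul_FF ρ θ w (φ := -T0) (u := pr2.appTop.hom x') (φ' := T0 * X0) (u' := T0 * X0)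
    (φ'' := T0 * (X0 - 1)) (u'' := X0) hT' (hv.isUnit.mul hu) hu (by ring)
    (by rw [← mul_assoc, mul_comm (pr2.appTop.hom x'), h1, one_mul])
  obtain ⟨m'⟩ := tens_congr
    (pull_FF ρ θ pr2 a2 (-x) x' (IsUnit.of_mul_eq_one_right x hxx) (-T0) (pr2.appTop.hom x')
      (by rw [map_neg, b2]) rfl hT')
    (pull_FF ρ θ pr1 a1 x x hg.isUnit (T0 * X0) (T0 * X0) b1 b1 (hv.isUnit.mul hu))
  exact ⟨m ≪≫ m'.symm⟩

/-- The section `x = 1` and its complement, in `W`. -/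
theorem range_compl {W G Y E V B : Scheme.{u}} {p : W ⟶ G} {y : Y ⟶ G} {e : E ⟶ G} {j : V ⟶ W} {v : V ⟶ Y}
    {b : B ⟶ W} {c : B ⟶ E} (hj : IsPullback j v p y) (hb : IsPullback b c p e)
    (hr : Set.range y = (Set.range e)ᶜ) : Set.range j = (Set.range b)ᶜ := by
  have h1 : Set.range j = p ⁻¹' Set.range y := by
    have h2 := Scheme.Pullback.range_fst p y
    rw [← h2]
    ext w
    constructor
    · rintro ⟨z, rfl⟩
      exact ⟨hj.isoPullback.hom z, by rw [← Scheme.Hom.comp_apply, hj.isoPullback_hom_fst]⟩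
    · rintro ⟨z, rfl⟩
      exact ⟨hj.isoPullback.inv z, by rw [← Scheme.Hom.comp_apply, hj.isoPullback_inv_fst]⟩
  have h3 : Set.range b = p ⁻¹' Set.range e := by
    have h2 := Scheme.Pullback.range_fst p e
    rw [← h2]
    ext w
    constructor
    · rintro ⟨z, rfl⟩
      exact ⟨hb.isoPullback.hom z, by rw [← Scheme.Hom.comp_apply, hb.isoPullback_hom_fst]⟩
    · rintro ⟨z, rfl⟩
      exact ⟨hb.isoPullback.inv z, by rw [← Scheme.Hom.comp_apply, hb.isoPullback_inv_fst]⟩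
  rw [h1, h3, hr, Set.preimage_compl]

/-- A section of a product. -/
theorem isPullback_section {W A G S : Scheme.{u}} {pA : W ⟶ A} {pG : W ⟶ G} {a : A ⟶ S} {g : G ⟶ S}
    (hW : IsPullback pA pG a g) {z : S ⟶ A} (hz : z ≫ a = 𝟙 S) {b : G ⟶ W} (h1 : b ≫ pA = g ≫ z)
    (h2 : b ≫ pG = 𝟙 G) : IsPullback b g pA z := by
  have h3 : IsPullback (b ≫ pG) g g (z ≫ a) := by
    rw [h2, hz]
    exact IsPullback.of_horiz_isIso ⟨by simp⟩
  exact IsPullback.of_right h3 h1 hW.flip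

section concrete

variable [IsSepClosed K] (hΛ : Finite Λ)

/-- **The cohomology of the total space**. -/
theorem total {n : ℕ} (hn0 : 0 < n) (hn : (n : Λ) = 0)
    (hA : ∀ q, hc (GCoordK.a K) (FF ρ θ (GCoordK.a K) (GCoordK.t K) 1 isUnit_one) q = 1)
    (hG : ∀ q, hc (GCoordK.g K) (FF ρ θ (GCoordK.g K) 0 (GCoordK.x K) (isGm_spec K).isUnit) q = 1)
    (x' : Γ(Spec (CommRingCat.of K[T;T⁻¹]), ⊤)) (hxx : GCoordK.x K * x' = 1) :
    ∃ (V : Scheme.{u}) (w : V ⟶ Spec (CommRingCat.of K)) (_ : IsSeparated w) (_ : QuasiCompact w)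
      (_ : LocallyOfFiniteType w) (pr1 pr2 : V ⟶ Spec (CommRingCat.of K[T;T⁻¹])),
      IsPullback pr1 pr2 (GCoordK.g K) (GCoordK.g K) ∧ pr2 ≫ GCoordK.g K = w ∧
      ∀ q, hc w ((T ((EtModW.pull Λ pr2).obj (FF ρ θ (GCoordK.g K) (-(GCoordK.x K)) x'
        (IsUnit.of_mul_eq_one_right _ hxx)))).obj ((EtModW.pull Λ pr1).obj
          (FF ρ θ (GCoordK.g K) (GCoordK.x K) (GCoordK.x K) (isGm_spec K).isUnit))) q =
        hc (GCoordK.a K) (EtModW.constMod Λ _ Λ) q := by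
  have ha := isA1_spec K
  have hg := isGm_spec K
  obtain ⟨W, pA, pG, hW⟩ : ∃ (W : Scheme.{u}) (pA : W ⟶ _) (pG : W ⟶ _),
      IsPullback pA pG (GCoordK.a K) (GCoordK.g K) := ⟨_, _, _, IsPullback.of_hasPullback _ _⟩
  have s1 : IsSeparated pG := MorphismProperty.of_isPullback hW inferInstance
  have s2 : QuasiCompact pG := MorphismProperty.of_isPullback hW inferInstance
  have s3 : LocallyOfFiniteType pG := MorphismProperty.of_isPullback hW inferInstance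
  have s4 : IsSeparated (pG ≫ GCoordK.g K) := inferInstance
  have s5 : QuasiCompact (pG ≫ GCoordK.g K) := inferInstance
  have s6 : LocallyOfFiniteType (pG ≫ GCoordK.g K) := inferInstance
  let tW := pA.appTop.hom (GCoordK.t K)
  let xW := pG.appTop.hom (GCoordK.x K)
  have hxW : IsUnit xW := hg.isUnit.map _
  let M := FF ρ θ (pG ≫ GCoordK.g K) (tW * (xW - 1)) xW hxW
  -- the closed subscheme `t = 0` and its complement
  have c1 : ∀ q, hc (GCoordK.a K) (EtModW.constMod Λ _ Λ) q = hc (pG ≫ GCoordK.g K) M q := by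
    -- the section `x = 1` and its complement
    let b : Spec (CommRingCat.of (Polynomial K)) ⟶ W := hW.lift (𝟙 _) (GCoordK.a K ≫ GCoordK.e K)
      (by rw [Category.id_comp, Category.assoc, e_g, Category.comp_id])
    have b1 : b ≫ pA = 𝟙 _ := hW.lift_fst _ _ _
    have b2 : b ≫ pG = GCoordK.a K ≫ GCoordK.e K := hW.lift_snd _ _ _
    have hb : IsPullback b (GCoordK.a K) pG (GCoordK.e K) := isPullback_section hW.flip (e_g K) b2 b1
    have hcl : IsClosedImmersion b := MorphismProperty.of_isPullback hb.flip inferInstance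
    have hj : IsPullback (pullback.fst pG (GCoordK.y K)) (pullback.snd pG (GCoordK.y K)) pG (GCoordK.y K) :=
      IsPullback.of_hasPullback _ _
    have hr := range_compl hj hb (range_y K)
    have wb : b ≫ pG ≫ GCoordK.g K = GCoordK.a K := by
      rw [← Category.assoc, b2, Category.assoc, e_g, Category.comp_id]
    intro q
    have h1 : ∀ q, hc (pullback.fst pG (GCoordK.y K) ≫ pG ≫ GCoordK.g K)
        ((EtModW.pull Λ (pullback.fst pG (GCoordK.y K))).obj M) q = 1 := by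
      intro q
      have h2 := hc_V1 ρ θ hn0 hn ha hg.isUnit (isUnit_y K) hW hj
        (g' := GCoordK.y K ≫ GCoordK.g K) rfl (w := pullback.fst pG (GCoordK.y K) ≫ pG ≫ GCoordK.g K) rfl hA
        rfl rfl (hg.isUnit.map _) q
      rw [← h2]
      refine hc_congr' (pull_FF ρ θ _ rfl _ _ _ _ _ ?_ ?_ _) q
      · rw [map_mul, map_sub, map_one]
        rfl
      · rfl
    have h3 := hc_closed' hn0 hn (pullback.fst pG (GCoordK.y K)) b (f := pG ≫ GCoordK.g K)
      (fU := pullback.fst pG (GCoordK.y K) ≫ pG ≫ GCoordK.g K) (fZ := GCoordK.a K) hr rfl wb M h1 q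
    rw [h3]
    obtain ⟨m1⟩ := pull_FF ρ θ b wb (tW * (xW - 1)) xW hxW 0 1 (by
      have h4 : b.appTop.hom xW = 1 := by
        change (b ≫ pG).appTop.hom (GCoordK.x K) = 1
        rw [b2, comp_app, e_x, map_one]
      rw [map_mul, map_sub, h4, map_one, sub_self, mul_zero]) (by
        change (b ≫ pG).appTop.hom (GCoordK.x K) = 1
        rw [b2, comp_app, e_x, map_one]) isUnit_one
    obtain ⟨m2⟩ := triv_FF ρ θ (GCoordK.a K) (Λ := Λ) (isUnit_one) rfl rfl
    exact (hc_congr' ⟨m1 ≪≫ m2⟩ q).symm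
  let b : Spec (CommRingCat.of K[T;T⁻¹]) ⟶ W := hW.lift (GCoordK.g K ≫ GCoordK.z K) (𝟙 _)
      (by rw [Category.id_comp, Category.assoc, z_a, Category.comp_id])
  have b1 : b ≫ pA = GCoordK.g K ≫ GCoordK.z K := hW.lift_fst _ _ _
  have b2 : b ≫ pG = 𝟙 _ := hW.lift_snd _ _ _
  have hb : IsPullback b (GCoordK.g K) pA (GCoordK.z K) := isPullback_section hW (z_a K) b1 b2
  have hcl : IsClosedImmersion b := MorphismProperty.of_isPullback hb.flip inferInstance
  obtain ⟨V, j, v', hj⟩ : ∃ (V : Scheme.{u}) (j : V ⟶ W) (v' : V ⟶ _), IsPullback j v' pA (GCoordK.o K) :=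
    ⟨_, _, _, IsPullback.of_hasPullback _ _⟩
  have hr := range_compl hj hb (range_o K)
  have wb : b ≫ pG ≫ GCoordK.g K = GCoordK.g K := by rw [← Category.assoc, b2, Category.id_comp]
  have hop : IsOpenImmersion j := MorphismProperty.of_isPullback hj.flip inferInstance
  have hqc : QuasiCompact j := MorphismProperty.of_isPullback hj.flip inferInstance
  have t4 : IsSeparated (j ≫ pG ≫ GCoordK.g K) := inferInstance
  have t5 : QuasiCompact (j ≫ pG ≫ GCoordK.g K) := inferInstance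
  have t6 : LocallyOfFiniteType (j ≫ pG ≫ GCoordK.g K) := inferInstance
  -- the coordinates on `V`
  have sq : IsPullback v' (j ≫ pG) (GCoordK.g K) (GCoordK.g K) := by
    have h5 := hj.flip.paste_vert hW
    rw [o_a] at h5
    exact h5
  have hv : IsGm (j ≫ pG) (v'.appTop.hom (GCoordK.x K)) := hg.baseChange sq
  obtain ⟨pr1, pr2, P, w2, ⟨m⟩⟩ := exists_V0 ρ θ hg hv (w := j ≫ pG ≫ GCoordK.g K) (Category.assoc _ _ _)
    (X0 := (j ≫ pG).appTop.hom (GCoordK.x K)) rfl (hg.isUnit.map _) hxx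
  refine ⟨V, j ≫ pG ≫ GCoordK.g K, t4, t5, t6, pr1, pr2, P, w2, fun q => ?_⟩
  rw [c1 q, ← hc_open' hn0 hn j b hr rfl wb M (fun q => ?_) q]
  · refine (hc_congr' ?_ q).symm
    obtain ⟨m1⟩ := pull_FF ρ θ j (f' := j ≫ pG ≫ GCoordK.g K) rfl (tW * (xW - 1)) xW hxW
      (v'.appTop.hom (GCoordK.x K) * ((j ≫ pG).appTop.hom (GCoordK.x K) - 1))
      ((j ≫ pG).appTop.hom (GCoordK.x K)) (by
        have h5 : j.appTop.hom tW = v'.appTop.hom (GCoordK.x K) := by
          change (j ≫ pA).appTop.hom (GCoordK.t K) = _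
          rw [hj.w, comp_app, o_t]
        rw [map_mul, map_sub, h5, map_one]
        rfl) rfl (hg.isUnit.map _)
    exact ⟨m1 ≪≫ m⟩
  · rw [← hG q]
    refine hc_congr' (pull_FF ρ θ b wb (tW * (xW - 1)) xW hxW 0 (GCoordK.x K) ?_ ?_ hg.isUnit) q
    · have h5 : b.appTop.hom tW = 0 := by
        change (b ≫ pA).appTop.hom (GCoordK.t K) = _
        rw [b1, comp_app, z_t, map_zero]
      rw [map_mul, h5, zero_mul]
    · change (b ≫ pG).appTop.hom (GCoordK.x K) = _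
      rw [b2]
      rfl

end concrete

end Groth.Agent.Sga4h.H299.GaussTot
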