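import Groth.Agent.S0384
import Mathlib.AlgebraicGeometry.Morphisms.Proper
import Mathlib.AlgebraicGeometry.Morphisms.Immersion

/-!
# Compactifications: dominant ones give cartesian squares
-/

set_option autoImplicit false
universe u

open CategoryTheory CategoryTheory.Limits AlgebraicGeometry

namespace Groth.Agent.Sga4h.H299.Geo

/-- A proper dominant open immersion is an isomorphism. -/
theorem isIso_of_proper_dominant {X Y : Scheme.{u}} (i : X ⟶ Y) [IsOpenImmersion i] [IsProper i]
    [IsDominant i] : IsIso i := by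
  have : Function.Surjective i := by
    rw [← Set.range_eq_univ, ← (i.isClosedMap.isClosed_range).closure_eq]
    exact i.denseRange.closure_range
  have : Surjective i := ⟨this⟩
  exact (isIso_iff_isOpenImmersion_and_surjective i).2 ⟨inferInstance, inferInstance⟩

/-- A dominant open immersion of `P`, proper over the open part, is cartesian. -/
theorem isPullback_of_dominant {P R Y Q : Scheme.{u}} (m : P ⟶ R) (p : P ⟶ Y) (π : R ⟶ Q) (k : Y ⟶ Q)
    [IsOpenImmersion m] [IsDominant m] [IsProper p] [IsSeparated π] [IsOpenImmersion k]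
    (w : m ≫ π = p ≫ k) : IsPullback m p π k := by
  let i : P ⟶ pullback π k := pullback.lift m p w
  have h1 : i ≫ pullback.fst π k = m := pullback.lift_fst _ _ _
  have h2 : i ≫ pullback.snd π k = p := pullback.lift_snd _ _ _
  have o1 : IsOpenImmersion (i ≫ pullback.fst π k) := by rw [h1]; infer_instance
  have o2 : IsOpenImmersion i := IsOpenImmersion.of_comp i (pullback.fst π k)
  have o3 : IsProper (i ≫ pullback.snd π k) := by rw [h2]; infer_instance
  have o4 : IsProper i := IsProper.of_comp i (pullback.snd π k)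
  have o5 : IsDominant i := by
    refine ⟨?_⟩
    have hd : DenseRange (i ≫ pullback.fst π k) := by rw [h1]; exact m.denseRange
    intro x
    rw [mem_closure_iff]
    intro U hU hx
    have hV : IsOpen ((pullback.fst π k) '' U) :=
      (pullback.fst π k).isOpenEmbedding.isOpenMap U hU
    obtain ⟨y, hy1, z, hz⟩ := mem_closure_iff.1 (hd ((pullback.fst π k) x)) _ hV ⟨x, hx, rfl⟩
    obtain ⟨u, hu, hu'⟩ := hy1
    refine ⟨u, hu, z, ?_⟩
    apply (pullback.fst π k).isOpenEmbedding.injective
    rw [hu', ← hz]
    rfl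
  have : IsIso i := isIso_of_proper_dominant i
  exact IsPullback.of_iso_pullback ⟨w⟩ (asIso i) h1 h2

/-- Any quasi-compact immersion factors as a dominant open immersion followed by a closed immersion. -/
theorem exists_dominant {X Y : Scheme.{u}} (i : X ⟶ Y) [IsImmersion i] [QuasiCompact i] :
    ∃ (W : Scheme.{u}) (k : X ⟶ W) (m : W ⟶ Y), IsOpenImmersion k ∧ IsDominant k ∧ IsClosedImmersion m ∧
      k ≫ m = i := by
  have h := i.toImage_imageι
  refine ⟨i.image, i.toImage, i.imageι, ?_, inferInstance, inferInstance, h⟩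
  infer_instance

/-- Two compactifications of the same morphism are dominated by a third one, cartesian over both. -/
theorem exists_dominating {X S P P' : Scheme.{u}} (j : X ⟶ P) (p : P ⟶ S) (j' : X ⟶ P') (p' : P' ⟶ S)
    [IsOpenImmersion j] [IsOpenImmersion j'] [IsProper p] [IsProper p'] [QuasiCompact j]
    (w : j ≫ p = j' ≫ p') :
    ∃ (W : Scheme.{u}) (k : X ⟶ W) (h : W ⟶ P) (h' : W ⟶ P'), IsOpenImmersion k ∧ IsProper h ∧
      IsProper h' ∧ IsPullback k (𝟙 X) h j ∧ IsPullback k (𝟙 X) h' j' ∧ h ≫ p = h' ≫ p' := by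
  let i : X ⟶ pullback p p' := pullback.lift j j' w
  have hi1 : i ≫ pullback.fst p p' = j := pullback.lift_fst _ _ _
  have hi2 : i ≫ pullback.snd p p' = j' := pullback.lift_snd _ _ _
  have : IsImmersion (i ≫ pullback.fst p p') := by rw [hi1]; infer_instance
  have hii : IsImmersion i := IsImmersion.of_comp i (pullback.fst p p')
  have : QuasiCompact (i ≫ pullback.fst p p') := by rw [hi1]; infer_instance
  have : QuasiCompact i := QuasiCompact.of_comp i (pullback.fst p p')
  obtain ⟨W, k, m, hk, hd, hm, fac⟩ := exists_dominant i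
  have w1 : k ≫ m ≫ pullback.fst p p' = j := by rw [reassoc_of% fac, hi1]
  have w2 : k ≫ m ≫ pullback.snd p p' = j' := by rw [reassoc_of% fac, hi2]
  refine ⟨W, k, m ≫ pullback.fst p p', m ≫ pullback.snd p p', hk, inferInstance,
    inferInstance, ?_, ?_, ?_⟩
  · exact isPullback_of_dominant _ _ _ _ (by rw [w1, Category.id_comp])
  · exact isPullback_of_dominant _ _ _ _ (by rw [w2, Category.id_comp])
  · rw [Category.assoc, Category.assoc, pullback.condition]

/-- Compactifying a proper morphism followed by an open immersion. -/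
theorem exists_comp {P Y Q : Scheme.{u}} (p : P ⟶ Y) [IsProper p] (k : Y ⟶ Q) [IsOpenImmersion k]
    [QuasiCompact k] [CompactSpace Q] [QuasiSeparatedSpace Q] :
    ∃ (R : Scheme.{u}) (m : P ⟶ R) (π : R ⟶ Q), IsOpenImmersion m ∧ IsProper π ∧ IsPullback m p π k := by
  obtain ⟨R₀, m₀, π₀, h1, h2, h3, h4⟩ := Groth.Agent.S0384.result (p ≫ k)
  obtain ⟨R, m, i, h5, h6, h7, h8⟩ := exists_dominant m₀
  refine ⟨R, m, i ≫ π₀, h5, inferInstance, ?_⟩
  exact isPullback_of_dominant _ _ _ _ (by rw [reassoc_of% h8, h4])

end Groth.Agent.Sga4h.H299.Geo
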