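import Groth.Agent.Sga4h.H299.Rs
import Groth.Agent.Sga4h.H299.AbBasic
import Groth.Agent.Sga4h.ModPoint
import Groth.Agent.EtpbcB.GammaRpush

/-!
# Cohomology with compact supports over a separably closed field

`X --j--> P --p--> Spec K`, `K` separably closed.

* `hcEquiv` : `Γ(Spec K, R^n p_* j_! M) ≃+ H^n(P, j_! M^ab)`;
* `isZero_iff` : `R^n p_* j_! M = 0` iff `H^n(P, j_! M^ab)` is trivial;
* `nonempty_const` : `R^n p_* j_! M` is the constant sheaf;
* `nonempty_iso_of_card` : over a finite field `Λ`, `R^n p_* j_! M ≅ Λ^d` iff `|H^n| = |Λ|^d`.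
-/

set_option autoImplicit false
universe u

open CategoryTheory CategoryTheory.Limits AlgebraicGeometry Opposite

namespace Groth.Agent.Sga4h.H299.Hc

open Groth.Agent.Sga4h.ModRestr Groth.Agent.Sga4h.EtaleRes Groth.Agent.Etrest.ModAb
  Groth.Agent.Sga4h.H299.ExtBC Groth.Agent.Sga4h.H299.Rs Groth.Agent.Sga4h.H299.AbBasic
  Groth.Agent.EtpbcB.GammaRpush Groth.Agent.EtpbcB.SepClosedPoint

attribute [local instance] jCont

variable {Λ : Type (u + 1)} [CommRing Λ] {K : Type u} [Field K] [IsSepClosed K]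

/-- Global sections of a sheaf of modules and of the underlying abelian sheaf. -/
noncomputable def gammaAb (X : Scheme.{u}) (F : EtModW.Mod Λ X) :
    ((ModPoint.Γ Λ X).obj F : Type (u + 1)) ≃+ ((Γtop X).obj ((ab Λ X).obj F) : AddCommGrpCat.{u + 1}) :=
  AddEquiv.refl _

variable {X P : Scheme.{u}} (j : X ⟶ P) [IsOpenImmersion j] (p : P ⟶ Spec (CommRingCat.of K))

/-- `Γ(Spec K, R^n p_* j_! M) ≃+ H^n(P, j_! M^ab)` -/
theorem nonempty_hcEquiv (n : ℕ) (M : EtModW.Mod Λ X) :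
    Nonempty (((ModPoint.Γ Λ _).obj ((RS Λ j p n).obj M) : Type (u + 1)) ≃+
      EtCoh.H P ((EtShriek.extZero j).obj ((ab Λ X).obj M)) n) := by
  obtain ⟨e⟩ := gamma_Rpush p ((EtShriek.extZero j).obj ((ab Λ X).obj M)) n
  exact ⟨(gammaAb _ _).trans
    (((Γtop _).mapIso ((rsAb Λ j p n).app M)).addCommGroupIsoToAddEquiv.trans e)⟩

theorem isZero_iff_Γ (F : EtModW.Mod Λ (Spec (CommRingCat.of K))) :
    IsZero F ↔ Subsingleton ((ModPoint.Γ Λ _).obj F : Type (u + 1)) := by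
  constructor
  · intro h
    exact ModuleCat.subsingleton_of_isZero ((ModPoint.Γ Λ _).map_isZero h)
  · intro h
    have h1 : IsZero ((ModPoint.Γ Λ _).obj F) := ModuleCat.isZero_of_subsingleton _
    have h2 : IsZero ((ModPoint.equiv Λ K).functor.obj ((ModPoint.Γ Λ _).obj F)) :=
      (ModPoint.equiv Λ K).functor.map_isZero h1
    exact h2.of_iso ((ModPoint.equiv Λ K).counitIso.app F).symm

theorem isZero_iff (n : ℕ) (M : EtModW.Mod Λ X) :
    IsZero ((RS Λ j p n).obj M) ↔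
      Subsingleton (EtCoh.H P ((EtShriek.extZero j).obj ((ab Λ X).obj M)) n) := by
  obtain ⟨e⟩ := nonempty_hcEquiv j p n M
  rw [isZero_iff_Γ]
  exact e.toEquiv.subsingleton_congr

/-- Sheaves on `Spec K` are constant. -/
noncomputable def constΓ (F : EtModW.Mod Λ (Spec (CommRingCat.of K))) :
    F ≅ (constantSheaf (Spec (CommRingCat.of K)).smallEtaleTopology (ModuleCat.{u + 1} Λ)).obj
      ((ModPoint.Γ Λ _).obj F) :=
  ((ModPoint.equiv Λ K).counitIso.app F).symm

/-- The constant sheaf `Λ^d`. -/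
noncomputable abbrev cstPow (Λ : Type (u + 1)) [CommRing Λ] (X : Scheme.{u}) (d : ℕ) : EtModW.Mod Λ X :=
  EtModW.constMod Λ X (Fin d → Λ)

/-- A sheaf on `Spec K` with value a free module of rank `d`. -/
theorem nonempty_iso_cstPow {d : ℕ} (F : EtModW.Mod Λ (Spec (CommRingCat.of K)))
    (e : ((ModPoint.Γ Λ _).obj F : Type (u + 1)) ≃ₗ[Λ] (Fin d → Λ)) :
    Nonempty (F ≅ cstPow Λ (Spec (CommRingCat.of K)) d) :=
  ⟨constΓ F ≪≫ (constantSheaf _ _).mapIso e.toModuleIso⟩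

end Groth.Agent.Sga4h.H299.Hc
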