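import Groth.Agent.Sga4h.H299.Exc
import Groth.Agent.Sga4h.H299.Hc
import Groth.Agent.Sga4h.H299.LamMod
import Groth.Prelude.Def_FinFr

/-!
# Cohomology with compact supports over a separably closed field: working API

`HcG j M n := H^n(P, j_! M^ab)` for `j : X ⟶ P` open, `P` proper over `Spec K`, `M` a sheaf of modules.

* `hc_congr`, `hc_of_rs`, `hc_indep` (independence of the compactification);
* `hc_open`, `hc_closed`, `hc_zero` (excision);
* `nonempty_extzero_pull`, `nonempty_hcK` : the groups of the prelude (`FinFr.ext`, `FinFr.extZeroLam`).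
-/

set_option autoImplicit false
universe u

open CategoryTheory CategoryTheory.Limits AlgebraicGeometry Opposite

namespace Groth.Agent.Sga4h.H299.HcK

open Groth.Agent.Sga4h.ModRestr Groth.Agent.Sga4h.EtaleRes Groth.Agent.Etrest.ModAb
  Groth.Agent.Sga4h.H299.ExtBC Groth.Agent.Sga4h.H299.Rs Groth.Agent.Sga4h.H299.AbBasic
  Groth.Agent.Sga4h.H299.Leray Groth.Agent.Sga4h.H299.Hc Groth.Agent.Sga4h.H299.Exc
  Groth.Agent.Sga4h.H299.LamMod

attribute [local instance] jCont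

/-- Cohomology of isomorphic abelian sheaves. -/
theorem nonempty_H_congr {X : Scheme.{u}} {F G : EtCoh.Ab X} (e : F ≅ G) (n : ℕ) :
    Nonempty (EtCoh.H X F n ≃+ EtCoh.H X G n) :=
  ⟨((EtCoh.HF X n).mapIso e).addCommGroupIsoToAddEquiv⟩

section

variable {Λ : Type (u + 1)} [CommRing Λ]

/-- `H^n(P, j_! M^ab)` -/
abbrev HcG {X P : Scheme.{u}} (j : X ⟶ P) [IsOpenImmersion j] (M : EtModW.Mod Λ X) (n : ℕ) : Type (u + 1) :=
  EtCoh.H P ((EtShriek.extZero j).obj ((ab Λ X).obj M)) n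

theorem hc_congr {X P : Scheme.{u}} (j : X ⟶ P) [IsOpenImmersion j] {M M' : EtModW.Mod Λ X} (e : M ≅ M')
    (n : ℕ) : Nonempty (HcG j M n ≃+ HcG j M' n) :=
  nonempty_H_congr ((EtShriek.extZero j).mapIso ((ab Λ X).mapIso e)) n

variable {K : Type u} [Field K] [IsSepClosed K]

/-- Comparison of two cohomology groups from an isomorphism of sheaves on `Spec K`. -/
theorem hc_of_rs {X P X' P' : Scheme.{u}} {j : X ⟶ P} {p : P ⟶ Spec (CommRingCat.of K)} {j' : X' ⟶ P'}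
    {p' : P' ⟶ Spec (CommRingCat.of K)} [IsOpenImmersion j] [IsOpenImmersion j'] {M : EtModW.Mod Λ X}
    {M' : EtModW.Mod Λ X'} {n n' : ℕ}
    (h : Nonempty ((RS Λ j p n).obj M ≅ (RS Λ j' p' n').obj M')) : Nonempty (HcG j M n ≃+ HcG j' M' n') := by
  obtain ⟨e⟩ := h
  obtain ⟨e1⟩ := nonempty_hcEquiv j p n M
  obtain ⟨e2⟩ := nonempty_hcEquiv j' p' n' M'
  exact ⟨e1.symm.trans (((ModPoint.Γ Λ _).mapIso e).toLinearEquiv.toAddEquiv.trans e2)⟩

/-- Independence of the compactification. -/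
theorem hc_indep {n : ℕ} (hn0 : 0 < n) (hn : (n : Λ) = 0) {X P P' : Scheme.{u}} (j : X ⟶ P)
    (p : P ⟶ Spec (CommRingCat.of K)) (j' : X ⟶ P') (p' : P' ⟶ Spec (CommRingCat.of K))
    [IsOpenImmersion j] [IsOpenImmersion j'] [IsProper p] [IsProper p'] [QuasiCompact j]
    (w : j ≫ p = j' ≫ p') (M : EtModW.Mod Λ X) (q : ℕ) : Nonempty (HcG j M q ≃+ HcG j' M q) :=
  hc_of_rs (nonempty_indep hn0 hn j p j' p' w q M)

/-- Isomorphisms of schemes. -/
theorem hc_iso {n : ℕ} (hn0 : 0 < n) (hn : (n : Λ) = 0) {X X' P P' : Scheme.{u}} (j : X ⟶ P)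
    (p : P ⟶ Spec (CommRingCat.of K)) (j' : X' ⟶ P') (p' : P' ⟶ Spec (CommRingCat.of K))
    [IsOpenImmersion j] [IsOpenImmersion j'] [IsProper p] [IsProper p'] [QuasiCompact j] [QuasiCompact j']
    (φ : X' ⟶ X) [IsIso φ] (w : φ ≫ j ≫ p = j' ≫ p') (M : EtModW.Mod Λ X) (q : ℕ) :
    Nonempty (HcG j M q ≃+ HcG j' ((EtModW.pull Λ φ).obj M) q) := by
  have h1 : IsPullback φ (φ ≫ j) j (𝟙 P) := by
    refine IsPullback.of_horiz_isIso ⟨?_⟩
    rw [Category.comp_id]
  have e1 : (EtShriek.extZero j).obj ((ab Λ X).obj M) ≅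
      (EtShriek.extZero (φ ≫ j)).obj ((ab Λ X').obj ((EtModW.pull Λ φ).obj M)) :=
    (extAb Λ j).symm.app M ≪≫ (ab Λ P).mapIso
      ((Groth.Agent.Etcore.LPullComp.pullId Λ P).symm.app _ ≪≫
        (extPull Λ j (𝟙 P) (φ ≫ j) φ h1.flip).symm.app M) ≪≫
      (extAb Λ (φ ≫ j)).app ((EtModW.pull Λ φ).obj M)
  obtain ⟨e2⟩ := nonempty_H_congr e1 q
  obtain ⟨e3⟩ := hc_indep hn0 hn (φ ≫ j) p j' p' (by rw [Category.assoc, w]) ((EtModW.pull Λ φ).obj M) q
  exact ⟨e2.trans e3⟩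

omit [IsSepClosed K] in
theorem compactSpace_of_proper {P : Scheme.{u}} (p : P ⟶ Spec (CommRingCat.of K)) [IsProper p] :
    CompactSpace P := QuasiCompact.compactSpace_of_compactSpace p

omit [IsSepClosed K] in
theorem quasiSeparatedSpace_of_proper {P : Scheme.{u}} (p : P ⟶ Spec (CommRingCat.of K)) [IsProper p] :
    QuasiSeparatedSpace P := quasiSeparatedSpace_of_quasiSeparated p

section exc

variable {U X Z P PU PZ : Scheme.{u}} (j : U ⟶ X) [IsOpenImmersion j] (b : Z ⟶ X) [IsClosedImmersion b]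
  (l : X ⟶ P) (p : P ⟶ Spec (CommRingCat.of K)) (lU : U ⟶ PU) (pU : PU ⟶ Spec (CommRingCat.of K))
  (lZ : Z ⟶ PZ) (pZ : PZ ⟶ Spec (CommRingCat.of K))
  [IsOpenImmersion l] [IsProper p] [IsOpenImmersion lU] [IsProper pU] [IsOpenImmersion lZ] [IsProper pZ]
  [QuasiCompact l] [QuasiCompact j]

/-- If the closed part has no cohomology. -/
theorem hc_open {n : ℕ} (hn0 : 0 < n) (hn : (n : Λ) = 0) (hr : Set.range j = (Set.range b)ᶜ)
    (wU : lU ≫ pU = j ≫ l ≫ p) (wZ : lZ ≫ pZ = b ≫ l ≫ p) (F : EtModW.Mod Λ X)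
    (h : ∀ q, Subsingleton (HcG lZ ((EtModW.pull Λ b).obj F) q)) (q : ℕ) :
    Nonempty (HcG lU ((EtModW.pull Λ j).obj F) q ≃+ HcG l F q) := by
  have := compactSpace_of_proper p
  have := quasiSeparatedSpace_of_proper p
  exact hc_of_rs (nonempty_of_closed j b l p lU pU lZ pZ hn0 hn hr wU wZ F
    (fun q => (isZero_iff lZ pZ q _).2 (h q)) q)

/-- If the open part has no cohomology. -/
theorem hc_closed {n : ℕ} (hn0 : 0 < n) (hn : (n : Λ) = 0) (hr : Set.range j = (Set.range b)ᶜ)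
    (wU : lU ≫ pU = j ≫ l ≫ p) (wZ : lZ ≫ pZ = b ≫ l ≫ p) (F : EtModW.Mod Λ X)
    (h : ∀ q, Subsingleton (HcG lU ((EtModW.pull Λ j).obj F) q)) (q : ℕ) :
    Nonempty (HcG l F q ≃+ HcG lZ ((EtModW.pull Λ b).obj F) q) := by
  have := compactSpace_of_proper p
  have := quasiSeparatedSpace_of_proper p
  exact hc_of_rs (nonempty_of_open j b l p lU pU lZ pZ hn0 hn hr wU wZ F
    (fun q => (isZero_iff lU pU q _).2 (h q)) q)

/-- If both parts have no cohomology in degree `q`. -/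
theorem hc_zero {n : ℕ} (hn0 : 0 < n) (hn : (n : Λ) = 0) (hr : Set.range j = (Set.range b)ᶜ)
    (wU : lU ≫ pU = j ≫ l ≫ p) (wZ : lZ ≫ pZ = b ≫ l ≫ p) (F : EtModW.Mod Λ X) (q : ℕ)
    (h : Subsingleton (HcG lU ((EtModW.pull Λ j).obj F) q))
    (h' : Subsingleton (HcG lZ ((EtModW.pull Λ b).obj F) q)) : Subsingleton (HcG l F q) := by
  have := compactSpace_of_proper p
  have := quasiSeparatedSpace_of_proper p
  exact (isZero_iff l p q F).1 (isZero_of_open_closed j b l p lU pU lZ pZ hn0 hn hr wU wZ F q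
    ((isZero_iff lU pU q _).2 h) ((isZero_iff lZ pZ q _).2 h'))

end exc

omit [IsSepClosed K] in
/-- Existence of compactifications over a field. -/
theorem exists_compactification {X : Scheme.{u}} (f : X ⟶ Spec (CommRingCat.of K)) [IsSeparated f]
    [QuasiCompact f] [LocallyOfFiniteType f] :
    ∃ (P : Scheme.{u}) (j : X ⟶ P) (p : P ⟶ Spec (CommRingCat.of K)), IsOpenImmersion j ∧
      QuasiCompact j ∧ IsProper p ∧ j ≫ p = f :=
  Groth.Agent.S0384.result f

end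

section prelude

variable {Λ : Type} [CommRing Λ]

/-- `gP^* (j_! L) ≅ j'_! (gX^* L)` as abelian sheaves, the right side in terms of `toMod L`. -/
noncomputable def extZeroPull {X P X' P' : Scheme.{u}} {j : X ⟶ P} {j' : X' ⟶ P'} {gX : X' ⟶ X}
    {gP : P' ⟶ P} [IsOpenImmersion j] [IsOpenImmersion j'] (h : IsPullback gX j' j gP)
    (L : EtLam.Sheaf Λ X) :
    (EtLam.pullback gP (FinFr.extZeroLam j L)).carrier ≅
      (EtShriek.extZero j').obj ((ab (UL.{u} Λ) X').obj ((EtModW.pull (UL.{u} Λ) gX).obj (toMod L))) :=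
  (EtCoh.pull gP).mapIso ((extAb (UL.{u} Λ) j).symm.app (toMod L)) ≪≫
    (pullIso (UL.{u} Λ) gP).symm.app _ ≪≫
    (ab (UL.{u} Λ) P').mapIso ((extPull (UL.{u} Λ) j gP j' gX h.flip).symm.app (toMod L)) ≪≫
    (extAb (UL.{u} Λ) j').app _

variable {k K : Type u} [Field k] [Field K] [Algebra k K] [IsSepClosed K]

omit [IsSepClosed K] in
theorem isPullback_extHom {X₀ P₀ : Scheme.{u}} {a : X₀ ⟶ Spec (CommRingCat.of k)}
    {b : P₀ ⟶ Spec (CommRingCat.of k)} (g : X₀ ⟶ P₀) (w : g ≫ b = a) :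
    IsPullback (FinFr.extπ K a) (FinFr.extHom K a g w) g (FinFr.extπ K b) := by
  have h1 : IsPullback (FinFr.extπ K b) (FinFr.extStr K b) b (FinFr.specι k K) :=
    IsPullback.of_hasPullback _ _
  have h2 : IsPullback (FinFr.extπ K a) (FinFr.extStr K a) a (FinFr.specι k K) :=
    IsPullback.of_hasPullback _ _
  have h3 : FinFr.extHom K a g w ≫ FinFr.extStr K b = FinFr.extStr K a :=
    (pullback.lift_snd _ _ _).trans (Category.comp_id _)
  refine IsPullback.of_bot ?_ (FinFr.extHom_fst a g w).symm h1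
  rw [h3, w]
  exact h2

omit [IsSepClosed K] in
/-- The compactly supported cohomology groups of the prelude. -/
theorem nonempty_hcK {X₀ P₀ : Scheme.{u}} {a : X₀ ⟶ Spec (CommRingCat.of k)}
    {b : P₀ ⟶ Spec (CommRingCat.of k)} (j : X₀ ⟶ P₀) [IsOpenImmersion j] [IsProper b] (w : j ≫ b = a)
    [IsOpenImmersion (FinFr.extHom K a j w)] (L : EtLam.Sheaf Λ X₀) (n : ℕ) :
    Nonempty (EtCoh.H (FinFr.ext K b) (EtLam.pullback (FinFr.extπ K b) (FinFr.extZeroLam j L)).carrier n ≃+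
      HcG (FinFr.extHom K a j w) ((EtModW.pull (UL.{u} Λ) (FinFr.extπ K a)).obj (toMod L)) n) :=
  nonempty_H_congr (extZeroPull (isPullback_extHom j w) L) n

/-- The compactly supported cohomology groups of the prelude, computed with any compactification of the
base change. -/
theorem nonempty_hcK' {m : ℕ} (hm0 : 0 < m) (hm : (m : Λ) = 0) {X₀ P₀ X P : Scheme.{u}}
    {a : X₀ ⟶ Spec (CommRingCat.of k)} {b : P₀ ⟶ Spec (CommRingCat.of k)} (j : X₀ ⟶ P₀)
    [IsOpenImmersion j] [QuasiCompact j] [IsProper b] (w : j ≫ b = a) {gX : X ⟶ X₀}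
    {s : X ⟶ Spec (CommRingCat.of K)} (h : IsPullback gX s a (FinFr.specι k K)) (l : X ⟶ P)
    (p : P ⟶ Spec (CommRingCat.of K)) [IsOpenImmersion l] [QuasiCompact l] [IsProper p] (wl : l ≫ p = s)
    (L : EtLam.Sheaf Λ X₀) (n : ℕ) :
    Nonempty (EtCoh.H (FinFr.ext K b) (EtLam.pullback (FinFr.extπ K b) (FinFr.extZeroLam j L)).carrier n ≃+
      HcG l ((EtModW.pull (UL.{u} Λ) gX).obj (toMod L)) n) := by
  have h0 : IsPullback (FinFr.extπ K b) (FinFr.extStr K b) b (FinFr.specι k K) :=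
    IsPullback.of_hasPullback _ _
  let j' : X ⟶ FinFr.ext K b := pullback.lift (gX ≫ j) s (by rw [Category.assoc, w, h.w])
  have w1 : j' ≫ FinFr.extπ K b = gX ≫ j := pullback.lift_fst _ _ _
  have w2 : j' ≫ FinFr.extStr K b = s := pullback.lift_snd _ _ _
  have h1 : IsPullback gX j' j (FinFr.extπ K b) := IsPullback.of_bot (by rw [w2, w]; exact h) w1.symm h0
  have i1 : IsOpenImmersion j' := MorphismProperty.of_isPullback h1 inferInstance
  have i2 : QuasiCompact j' := MorphismProperty.of_isPullback h1 inferInstance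
  obtain ⟨e1⟩ := nonempty_H_congr (extZeroPull h1 L) n
  have hm' : (m : UL.{u} Λ) = 0 := by
    apply ULift.down_injective
    exact hm
  obtain ⟨e2⟩ := hc_indep (K := K) hm0 hm' j' (FinFr.extStr K b) l p (w2.trans wl.symm)
    ((EtModW.pull (UL.{u} Λ) gX).obj (toMod L)) n
  exact ⟨e1.trans e2⟩

end prelude

end Groth.Agent.Sga4h.H299.HcK
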