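import Groth.Agent.Sga4h.H299.RowTop
import Groth.Agent.Sga4h.H299.KunF
import Groth.Agent.Sga4h.H299.HcK

/-!
# The top row of the Leray spectral sequence of `R f_!`, and of the Künneth spectral sequence

* `isZero_leray_top` : `R^q g_! M = 0` for `q > b`, `R^(m+b) (h g)_! M = 0` and the vanishing of the targets of the
  differentials imply `R^m h_! R^b g_! M = 0`;
* `kunneth_top` : over a separably closed field, if `M` has cohomology in degrees `1`, `2` only, all finite, and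
  `H_c^(m+2)(X × Y, M ⊠ N) = 0 = H_c^(m+2)(Y, N)`, then `H_c^2(X, M) = 0` or `H_c^m(Y, N) = 0` (`m ≥ 1`).
-/

set_option autoImplicit false
universe u

open CategoryTheory CategoryTheory.Limits AlgebraicGeometry Opposite

namespace Groth.Agent.Sga4h.H299.KunTop

open Groth.Agent.Sga4h.ModRestr Groth.Agent.Sga4h.EtaleRes Groth.Agent.Etrest.ModAb
  Groth.Agent.Sga4h.H299.ExtBC Groth.Agent.Etcore.LPullComp Groth.Agent.Etrest.ModCons
  Groth.Agent.Sga4h.H299.Rs Groth.Agent.Sga4h.H299.AbBasic Groth.Agent.Sga4h.H299.Leray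
  Groth.Agent.Sga4h.H299.Proj Groth.Agent.Sga4h.H299.RsBC Groth.Agent.Sga4h.H299.Hc
  Groth.Agent.Sga4h.H299.Kun Groth.Agent.Sga4h.H299.KunF Groth.Agent.Sga4h.H299.HcK

attribute [local instance] jCont Abelian.hasFiniteBiproducts

section leray

variable {Λ : Type (u + 1)} [CommRing Λ]
variable {X P Y Q S E : Scheme.{u}} (j : X ⟶ P) (p : P ⟶ Y) (k : Y ⟶ Q) (r : Q ⟶ S) (l : X ⟶ E) (e : E ⟶ S)
  [IsOpenImmersion j] [IsProper p] [IsOpenImmersion k] [IsProper r] [IsOpenImmersion l] [IsProper e]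

/-- The top row of the Leray spectral sequence. -/
theorem isZero_leray_top {n : ℕ} (hn0 : 0 < n) (hn : (n : Λ) = 0) [QuasiCompact j] [QuasiCompact k]
    [CompactSpace Q] [QuasiSeparatedSpace Q] (w : l ≫ e = j ≫ p ≫ k ≫ r) (b : ℕ) (M : EtModW.Mod Λ X)
    (m : ℕ) (hm : 1 ≤ m) (h1 : ∀ q, b < q → IsZero ((RS Λ j p q).obj M))
    (h2 : ∀ t s, t + s = b + 1 → 2 ≤ t → IsZero ((RS Λ k r (m + t)).obj ((RS Λ j p s).obj M)))
    (h3 : IsZero ((RS Λ l e (m + b)).obj M)) : IsZero ((RS Λ k r m).obj ((RS Λ j p b).obj M)) := by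
  obtain ⟨R, i, π, i1, i2, i3, i4⟩ := exists_total j p k
  have key : ∀ s, Nonempty ((EtModW.Rpush Λ π s).obj ((ext Λ (j ≫ i)).obj M) ≅
      (ext Λ k).obj ((RS Λ j p s).obj M)) := by
    intro s
    obtain ⟨e1⟩ := nonempty_sq hn0 hn k π i p i4 s ((ext Λ j).obj M)
    exact ⟨(EtModW.Rpush Λ π s).mapIso ((extComp Λ j i).app M).symm ≪≫ e1⟩
  obtain ⟨e3⟩ := nonempty_indep hn0 hn (j ≫ i) (π ≫ r) l e
    (by rw [w, Category.assoc, i4.w_assoc]) (m + b) M
  obtain ⟨e4⟩ := key b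
  have h4 : IsZero (((EtModW.push Λ r).rightDerived m).obj
      (((EtModW.push Λ π).rightDerived b).obj ((ext Λ (j ≫ i)).obj M))) := by
    refine RowTop.top (EtModW.push Λ π) (EtModW.push Λ r) (injective_push Λ π) b
      ((ext Λ (j ≫ i)).obj M) m hm ?_ ?_ ?_
    · intro q hq
      obtain ⟨e5⟩ := key q
      exact ((ext Λ k).map_isZero (h1 q hq)).of_iso e5
    · intro t s hts ht
      obtain ⟨e5⟩ := key s
      exact (h2 t s hts ht).of_iso ((EtModW.Rpush Λ r (m + t)).mapIso e5)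
    · exact (h3.of_iso e3).of_iso ((rpushCompIso Λ π r (m + b)).app ((ext Λ (j ≫ i)).obj M))
  exact h4.of_iso ((EtModW.Rpush Λ r m).mapIso e4).symm

end leray

section kun

variable {Λ : Type (u + 1)} [Field Λ] [Finite Λ] {K : Type u} [Field K] [IsSepClosed K]
  {X P Y Q Z E : Scheme.{u}} {jX : X ⟶ P} {p : P ⟶ Spec (CommRingCat.of K)} {jY : Y ⟶ Q}
  {r : Q ⟶ Spec (CommRingCat.of K)} {l : Z ⟶ E} {e : E ⟶ Spec (CommRingCat.of K)} [IsOpenImmersion jX]
  [IsProper p] [IsOpenImmersion jY] [IsProper r] [IsOpenImmersion l] [IsProper e] {pr1 : Z ⟶ X}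
  {pr2 : Z ⟶ Y}

omit [IsProper p] in
/-- A finite cohomology group is `Λ^d`. -/
theorem exists_equiv (M : EtModW.Mod Λ X) (q : ℕ) (h : Finite (HcG jX M q)) :
    ∃ d : ℕ, Nonempty (((ModPoint.Γ Λ _).obj ((RS Λ jX p q).obj M) : Type (u + 1)) ≃ₗ[Λ] (Fin d → Λ)) ∧
      Nat.card (HcG jX M q) = Nat.card Λ ^ d := by
  obtain ⟨e1⟩ := nonempty_hcEquiv jX p q M
  have hf : Finite ((ModPoint.Γ Λ _).obj ((RS Λ jX p q).obj M) : Type (u + 1)) :=
    Finite.of_equiv _ e1.symm.toEquiv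
  have h1 : Nat.card ((ModPoint.Γ Λ _).obj ((RS Λ jX p q).obj M) : Type (u + 1)) =
      Nat.card Λ ^ Module.finrank Λ ((ModPoint.Γ Λ _).obj ((RS Λ jX p q).obj M) : Type (u + 1)) :=
    Module.natCard_eq_pow_finrank
  obtain ⟨e2⟩ := nonempty_equiv_of_card h1
  exact ⟨_, ⟨e2⟩, by rw [← Nat.card_congr e1.toEquiv, h1]⟩

omit [Finite Λ] [IsProper p] [IsProper r] in
/-- The terms of the Künneth spectral sequence. -/
theorem nonempty_term {g : Y ⟶ Spec (CommRingCat.of K)} {M : EtModW.Mod Λ X} {N N' : EtModW.Mod Λ Y}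
    (pN : (T N).obj N' ≅ EtModW.constMod Λ Y Λ) (q d : ℕ)
    (hd : ((ModPoint.Γ Λ _).obj ((RS Λ jX p q).obj M) : Type (u + 1)) ≃ₗ[Λ] (Fin d → Λ)) (m : ℕ) :
    Nonempty ((RS Λ jY r m).obj ((T N).obj ((EtModW.pull Λ g).obj ((RS Λ jX p q).obj M))) ≅
      ⨁ fun _ : Fin d => (RS Λ jY r m).obj N) := by
  obtain ⟨e2⟩ := nonempty_iso_cstPow _ hd
  let e3 : (EtModW.pull Λ g).obj ((RS Λ jX p q).obj M) ≅ cstPow Λ Y d :=
    (EtModW.pull Λ g).mapIso e2 ≪≫ (FixPt.pullConstIso g).app (ModuleCat.of Λ (Fin d → Λ))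
  exact ⟨(RS Λ jY r m).mapIso ((T N).mapIso e3 ≪≫ tensorCstPow pN d) ≪≫ (RS Λ jY r m).mapBiproduct _⟩

omit [Finite Λ] [IsSepClosed K] in
theorem isZero_biproduct {d : ℕ} {F : EtModW.Mod Λ (Spec (CommRingCat.of K))} (h : IsZero F) :
    IsZero (⨁ fun _ : Fin d => F) := by
  rw [IsZero.iff_id_eq_zero]
  apply biproduct.hom_ext
  intro i
  exact h.eq_of_tgt _ _

omit [Finite Λ] [IsSepClosed K] in
theorem isZero_of_biproduct {d : ℕ} {F : EtModW.Mod Λ (Spec (CommRingCat.of K))}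
    (h : IsZero (⨁ fun _ : Fin d => F)) (hd : d ≠ 0) : IsZero F := by
  let i : Fin d := ⟨0, Nat.pos_of_ne_zero hd⟩
  rw [IsZero.iff_id_eq_zero, ← biproduct.ι_π_self (fun _ : Fin d => F) i]
  rw [h.eq_of_tgt (biproduct.ι (fun _ : Fin d => F) i) 0, zero_comp]

/-- **The top row of the Künneth spectral sequence.** -/
theorem kunneth_top {n : ℕ} (hn0 : 0 < n) (hn : (n : Λ) = 0) [QuasiCompact jX] [QuasiCompact jY]
    (h : IsPullback pr1 pr2 (jX ≫ p) (jY ≫ r)) (w : l ≫ e = pr2 ≫ jY ≫ r)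
    (M : EtModW.Mod Λ X) {N N' : EtModW.Mod Λ Y} (pN : (T N).obj N' ≅ EtModW.constMod Λ Y Λ)
    (h0 : Subsingleton (HcG jX M 0)) (h1 : Finite (HcG jX M 1)) (h2 : Finite (HcG jX M 2))
    (h3 : ∀ q, 2 < q → Subsingleton (HcG jX M q)) (m : ℕ) (hm : 1 ≤ m)
    (hY : Subsingleton (HcG jY N (m + 2)))
    (hZ : Subsingleton (HcG l ((T ((EtModW.pull Λ pr2).obj N)).obj ((EtModW.pull Λ pr1).obj M)) (m + 2))) :
    Subsingleton (HcG jX M 2) ∨ Subsingleton (HcG jY N m) := by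
  have := KunF.compactSpace_of_proper r
  have := KunF.quasiSeparatedSpace_of_proper r
  obtain ⟨P', j', p', gP, g1, g2, g3, g4, g5⟩ := exists_baseChange jX p h
  have hqc : QuasiCompact j' := MorphismProperty.of_isPullback g4 inferInstance
  have hT : (T N).Additive := additive_T pN
  have hrow : ∀ q, Nonempty ((RS Λ j' p' q).obj
      ((T ((EtModW.pull Λ pr2).obj N)).obj ((EtModW.pull Λ pr1).obj M)) ≅
        (T N).obj ((EtModW.pull Λ (jY ≫ r)).obj ((RS Λ jX p q).obj M))) := fun q =>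
    nonempty_rel hn0 hn g3 g4 g5 M pN q
  have hzero : ∀ q, Subsingleton (HcG jX M q) → IsZero ((RS Λ j' p' q).obj
      ((T ((EtModW.pull Λ pr2).obj N)).obj ((EtModW.pull Λ pr1).obj M))) := by
    intro q hq
    obtain ⟨e1⟩ := hrow q
    exact ((T N).map_isZero ((EtModW.pull Λ (jY ≫ r)).map_isZero ((isZero_iff jX p q M).2 hq))).of_iso e1
  obtain ⟨d1, ⟨ed1⟩, -⟩ := exists_equiv (jX := jX) (p := p) M 1 h1
  obtain ⟨d2, ⟨ed2⟩, c2⟩ := exists_equiv (jX := jX) (p := p) M 2 h2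
  have key : IsZero ((RS Λ jY r m).obj ((RS Λ j' p' 2).obj
      ((T ((EtModW.pull Λ pr2).obj N)).obj ((EtModW.pull Λ pr1).obj M)))) := by
    refine isZero_leray_top j' p' jY r l e hn0 hn (by rw [w, ← g3, Category.assoc]) 2 _ m hm
      (fun q hq => hzero q (h3 q hq)) (fun t s hts ht => ?_) ((isZero_iff l e (m + 2) _).2 hZ)
    have hs : s = 0 ∨ (s = 1 ∧ t = 2) := by omega
    rcases hs with rfl | ⟨rfl, rfl⟩
    · exact (RS Λ jY r (m + t)).map_isZero (hzero 0 h0)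
    · obtain ⟨e1⟩ := hrow 1
      obtain ⟨e2⟩ := nonempty_term (jX := jX) (p := p) (jY := jY) (r := r) (g := jY ≫ r) (M := M) pN 1 d1
        ed1 (m + 2)
      exact ((isZero_biproduct ((isZero_iff jY r (m + 2) N).2 hY)).of_iso e2).of_iso
        ((RS Λ jY r (m + 2)).mapIso e1)
  obtain ⟨e1⟩ := hrow 2
  obtain ⟨e2⟩ := nonempty_term (jX := jX) (p := p) (jY := jY) (r := r) (g := jY ≫ r) (M := M) pN 2 d2 ed2 m
  have k2 : IsZero (⨁ fun _ : Fin d2 => (RS Λ jY r m).obj N) :=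
    (key.of_iso ((RS Λ jY r m).mapIso e1).symm).of_iso e2.symm
  by_cases hd : d2 = 0
  · left
    subst hd
    have hc : Nat.card (HcG jX M 2) = 1 := by rw [c2, pow_zero]
    exact (Nat.card_eq_one_iff_unique.1 hc).1
  · right
    exact (isZero_iff jY r m N).1 (isZero_of_biproduct k2 hd)

end kun

end Groth.Agent.Sga4h.H299.KunTop
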