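import Groth.Agent.Sga4h.H299.HcCard
import Groth.Agent.Sga4h.H299.KunTop

/-!
# The orders of the cohomology groups with compact supports

`K` separably closed, `f : X ⟶ Spec K` separated of finite type, `M` a sheaf of `Λ`-modules, `(n : Λ) = 0`, `n > 0`:
`hc f M q` is the order of `H_c^q(X, M)`, computed with a chosen compactification; `hc_eq` : any compactification.
-/

set_option autoImplicit false
universe u

open CategoryTheory CategoryTheory.Limits AlgebraicGeometry Opposite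

namespace Groth.Agent.Sga4h.H299.HcN

open Groth.Agent.Sga4h.ModRestr Groth.Agent.Sga4h.EtaleRes Groth.Agent.Etrest.ModAb
  Groth.Agent.Sga4h.H299.Proj Groth.Agent.Sga4h.H299.Hc Groth.Agent.Sga4h.H299.HcK
  Groth.Agent.Sga4h.H299.HcCard

attribute [local instance] jCont

variable {K : Type u} [Field K]

/-- A compactification. -/
structure Cpt {X : Scheme.{u}} (f : X ⟶ Spec (CommRingCat.of K)) where
  /-- the compactification -/
  P : Scheme.{u}
  /-- the open immersion -/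
  j : X ⟶ P
  /-- the structure morphism -/
  p : P ⟶ Spec (CommRingCat.of K)
  open_j : IsOpenImmersion j
  qc_j : QuasiCompact j
  proper_p : IsProper p
  w : j ≫ p = f

attribute [instance] Cpt.open_j Cpt.qc_j Cpt.proper_p

theorem nonempty_cpt {X : Scheme.{u}} (f : X ⟶ Spec (CommRingCat.of K)) [IsSeparated f]
    [QuasiCompact f] [LocallyOfFiniteType f] : Nonempty (Cpt f) := by
  obtain ⟨P, j, p, h1, h2, h3, w⟩ := exists_compactification f
  exact ⟨⟨P, j, p, h1, h2, h3, w⟩⟩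

/-- A chosen compactification. -/
noncomputable def cpt {X : Scheme.{u}} (f : X ⟶ Spec (CommRingCat.of K)) [IsSeparated f]
    [QuasiCompact f] [LocallyOfFiniteType f] : Cpt f := (nonempty_cpt f).some

section defs

variable {Λ : Type (u + 1)} [CommRing Λ] {X : Scheme.{u}} (f : X ⟶ Spec (CommRingCat.of K)) [IsSeparated f]
    [QuasiCompact f] [LocallyOfFiniteType f]

/-- The order of `H_c^q(X, M)`. -/
noncomputable def hc (M : EtModW.Mod Λ X) (q : ℕ) : ℕ := Nat.card (HcG (cpt f).j M q)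

variable {f}

theorem card_one_iff {P : Scheme.{u}} (j : X ⟶ P) [IsOpenImmersion j] (M : EtModW.Mod Λ X) (q : ℕ) :
    Nat.card (HcG j M q) = 1 ↔ Subsingleton (HcG j M q) := by
  rw [Nat.card_eq_one_iff_unique]
  exact ⟨fun h => h.1, fun h => ⟨h, ⟨0⟩⟩⟩

theorem card_ne_zero_iff {P : Scheme.{u}} (j : X ⟶ P) [IsOpenImmersion j] (M : EtModW.Mod Λ X) (q : ℕ) :
    Nat.card (HcG j M q) ≠ 0 ↔ Finite (HcG j M q) := by
  rw [Nat.card_ne_zero]
  exact ⟨fun h => h.2, fun h => ⟨⟨0⟩, h⟩⟩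

theorem hc_congr' {M M' : EtModW.Mod Λ X} (e : Nonempty (M ≅ M')) (q : ℕ) : hc f M q = hc f M' q := by
  obtain ⟨e⟩ := e
  obtain ⟨e1⟩ := hc_congr (cpt f).j e q
  exact Nat.card_congr e1.toEquiv

end defs

variable [IsSepClosed K]

section main

variable {Λ : Type (u + 1)} [CommRing Λ] {n : ℕ} (hn0 : 0 < n) (hn : (n : Λ) = 0)

include hn0 hn

/-- Any compactification. -/
theorem hc_eq {X P : Scheme.{u}} {f : X ⟶ Spec (CommRingCat.of K)} [IsSeparated f]
    [QuasiCompact f] [LocallyOfFiniteType f] (j : X ⟶ P) (p : P ⟶ Spec (CommRingCat.of K))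
    [IsOpenImmersion j] [IsProper p] (w : j ≫ p = f) (M : EtModW.Mod Λ X) (q : ℕ) :
    Nat.card (HcG j M q) = hc f M q := by
  obtain ⟨e⟩ := hc_indep hn0 hn (cpt f).j (cpt f).p j p ((cpt f).w.trans w.symm) M q
  exact (Nat.card_congr e.toEquiv).symm

theorem hc_eq_one_iff {X P : Scheme.{u}} {f : X ⟶ Spec (CommRingCat.of K)} [IsSeparated f]
    [QuasiCompact f] [LocallyOfFiniteType f] (j : X ⟶ P) (p : P ⟶ Spec (CommRingCat.of K))
    [IsOpenImmersion j] [IsProper p] (w : j ≫ p = f) (M : EtModW.Mod Λ X) (q : ℕ) :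
    hc f M q = 1 ↔ Subsingleton (HcG j M q) := by
  rw [← hc_eq hn0 hn j p w, card_one_iff]

theorem hc_ne_zero_iff {X P : Scheme.{u}} {f : X ⟶ Spec (CommRingCat.of K)} [IsSeparated f]
    [QuasiCompact f] [LocallyOfFiniteType f] (j : X ⟶ P) (p : P ⟶ Spec (CommRingCat.of K))
    [IsOpenImmersion j] [IsProper p] (w : j ≫ p = f) (M : EtModW.Mod Λ X) (q : ℕ) :
    hc f M q ≠ 0 ↔ Finite (HcG j M q) := by
  rw [← hc_eq hn0 hn j p w, card_ne_zero_iff]

/-- Isomorphic schemes. -/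
theorem hc_pull_iso {X X' : Scheme.{u}} {f : X ⟶ Spec (CommRingCat.of K)} [IsSeparated f]
    [QuasiCompact f] [LocallyOfFiniteType f] {f' : X' ⟶ Spec (CommRingCat.of K)} [IsSeparated f']
    [QuasiCompact f'] [LocallyOfFiniteType f'] (φ : X' ⟶ X) [IsIso φ] (w : φ ≫ f = f')
    (M : EtModW.Mod Λ X) (q : ℕ) : hc f' ((EtModW.pull Λ φ).obj M) q = hc f M q := by
  obtain ⟨e⟩ := hc_iso hn0 hn (cpt f).j (cpt f).p (cpt f').j (cpt f').p φ
    (by rw [(cpt f).w, (cpt f').w, w]) M q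
  exact (Nat.card_congr e.toEquiv).symm

section exc

variable {U X Z : Scheme.{u}} (j : U ⟶ X) [IsOpenImmersion j] (b : Z ⟶ X) [IsClosedImmersion b]
  {f : X ⟶ Spec (CommRingCat.of K)} [IsSeparated f] [QuasiCompact f] [LocallyOfFiniteType f]
  {fU : U ⟶ Spec (CommRingCat.of K)} [IsSeparated fU] [QuasiCompact fU] [LocallyOfFiniteType fU]
  {fZ : Z ⟶ Spec (CommRingCat.of K)} [IsSeparated fZ] [QuasiCompact fZ] [LocallyOfFiniteType fZ]
  [QuasiCompact j] (hr : Set.range j = (Set.range b)ᶜ) (wU : j ≫ f = fU) (wZ : b ≫ f = fZ)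

include hr wU wZ

/-- The closed part has no cohomology. -/
theorem hc_open' (F : EtModW.Mod Λ X) (h : ∀ q, hc fZ ((EtModW.pull Λ b).obj F) q = 1) (q : ℕ) :
    hc fU ((EtModW.pull Λ j).obj F) q = hc f F q := by
  obtain ⟨e⟩ := hc_open j b (cpt f).j (cpt f).p (cpt fU).j (cpt fU).p (cpt fZ).j (cpt fZ).p hn0 hn hr
    (by rw [(cpt f).w, (cpt fU).w, wU]) (by rw [(cpt f).w, (cpt fZ).w, wZ]) F
    (fun q => (card_one_iff _ _ _).1 (h q)) q
  exact Nat.card_congr e.toEquiv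

/-- The open part has no cohomology. -/
theorem hc_closed' (F : EtModW.Mod Λ X) (h : ∀ q, hc fU ((EtModW.pull Λ j).obj F) q = 1) (q : ℕ) :
    hc f F q = hc fZ ((EtModW.pull Λ b).obj F) q := by
  obtain ⟨e⟩ := hc_closed j b (cpt f).j (cpt f).p (cpt fU).j (cpt fU).p (cpt fZ).j (cpt fZ).p hn0 hn hr
    (by rw [(cpt f).w, (cpt fU).w, wU]) (by rw [(cpt f).w, (cpt fZ).w, wZ]) F
    (fun q => (card_one_iff _ _ _).1 (h q)) q
  exact Nat.card_congr e.toEquiv

/-- The total space has no cohomology. -/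
theorem hc_shift' (F : EtModW.Mod Λ X) (h : ∀ q, hc f F q = 1) (q : ℕ) :
    hc fU ((EtModW.pull Λ j).obj F) (q + 1) = hc fZ ((EtModW.pull Λ b).obj F) q := by
  exact (card_shift j b (cpt f).j (cpt f).p (cpt fU).j (cpt fU).p (cpt fZ).j (cpt fZ).p hn0 hn hr
    (by rw [(cpt f).w, (cpt fU).w, wU]) (by rw [(cpt f).w, (cpt fZ).w, wZ]) F q
    ((card_one_iff _ _ _).1 (h q)) ((card_one_iff _ _ _).1 (h (q + 1)))).symm

theorem hc_zero' (F : EtModW.Mod Λ X) (h : hc f F 0 = 1) : hc fU ((EtModW.pull Λ j).obj F) 0 = 1 :=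
  (card_one_iff _ _ _).2 (subsingleton_zero j b (cpt f).j (cpt f).p (cpt fU).j (cpt fU).p (cpt fZ).j
    (cpt fZ).p hn0 hn hr (by rw [(cpt f).w, (cpt fU).w, wU]) (by rw [(cpt f).w, (cpt fZ).w, wZ]) F
    ((card_one_iff _ _ _).1 h))

end exc

end main

section kun

variable {Λ : Type (u + 1)} [Field Λ] [Finite Λ] {n : ℕ} (hn0 : 0 < n) (hn : (n : Λ) = 0)
  {X Y Z : Scheme.{u}} {pr1 : Z ⟶ X} {pr2 : Z ⟶ Y}
  {f : X ⟶ Spec (CommRingCat.of K)} [IsSeparated f] [QuasiCompact f] [LocallyOfFiniteType f]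
  {g : Y ⟶ Spec (CommRingCat.of K)} [IsSeparated g] [QuasiCompact g] [LocallyOfFiniteType g]
  {z : Z ⟶ Spec (CommRingCat.of K)} [IsSeparated z] [QuasiCompact z] [LocallyOfFiniteType z]
  (h : IsPullback pr1 pr2 f g) (w : pr2 ≫ g = z)

include hn0 hn h w

omit [Finite Λ] in
/-- Künneth: one factor has no cohomology. -/
theorem hc_kunneth_one (M : EtModW.Mod Λ X) {N N' : EtModW.Mod Λ Y}
    (pN : (T N).obj N' ≅ EtModW.constMod Λ Y Λ) (hM : ∀ q, hc f M q = 1) (m : ℕ) :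
    hc z ((T ((EtModW.pull Λ pr2).obj N)).obj ((EtModW.pull Λ pr1).obj M)) m = 1 := by
  refine (card_one_iff _ _ _).2 (KunF.subsingleton_kunneth (jX := (cpt f).j) (p := (cpt f).p)
    (jY := (cpt g).j) (r := (cpt g).p) (l := (cpt z).j) (e := (cpt z).p) hn0 hn ?_ ?_ M pN
    (fun q => (card_one_iff _ _ _).1 (hM q)) m)
  · rw [(cpt f).w, (cpt g).w]
    exact h
  · rw [(cpt g).w, (cpt z).w, w]

/-- Künneth: one factor has cohomology in one degree. -/
theorem hc_kunneth (M : EtModW.Mod Λ X) {N N' : EtModW.Mod Λ Y}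
    (pN : (T N).obj N' ≅ EtModW.constMod Λ Y Λ) (a d : ℕ) (hM : ∀ q, q ≠ a → hc f M q = 1)
    (hd : hc f M a = Nat.card Λ ^ d) (m : ℕ) :
    hc z ((T ((EtModW.pull Λ pr2).obj N)).obj ((EtModW.pull Λ pr1).obj M)) (m + a) = hc g N m ^ d := by
  refine KunF.card_kunneth (jX := (cpt f).j) (p := (cpt f).p)
    (jY := (cpt g).j) (r := (cpt g).p) (l := (cpt z).j) (e := (cpt z).p) hn0 hn ?_ ?_ M pN a d
    (fun q hq => (card_one_iff _ _ _).1 (hM q hq)) hd m
  · rw [(cpt f).w, (cpt g).w]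
    exact h
  · rw [(cpt g).w, (cpt z).w, w]

/-- Künneth: the top row. -/
theorem hc_kunneth_top (M : EtModW.Mod Λ X) {N N' : EtModW.Mod Λ Y}
    (pN : (T N).obj N' ≅ EtModW.constMod Λ Y Λ) (h0 : hc f M 0 = 1) (h1 : hc f M 1 ≠ 0)
    (h2 : hc f M 2 ≠ 0) (h3 : ∀ q, 2 < q → hc f M q = 1) (m : ℕ) (hm : 1 ≤ m)
    (hY : hc g N (m + 2) = 1)
    (hZ : hc z ((T ((EtModW.pull Λ pr2).obj N)).obj ((EtModW.pull Λ pr1).obj M)) (m + 2) = 1) :
    hc f M 2 = 1 ∨ hc g N m = 1 := by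
  rcases KunTop.kunneth_top (jX := (cpt f).j) (p := (cpt f).p)
    (jY := (cpt g).j) (r := (cpt g).p) (l := (cpt z).j) (e := (cpt z).p) hn0 hn
    (by rw [(cpt f).w, (cpt g).w]; exact h) (by rw [(cpt g).w, (cpt z).w, w]) M pN
    ((card_one_iff _ _ _).1 h0) ((card_ne_zero_iff _ _ _).1 h1) ((card_ne_zero_iff _ _ _).1 h2)
    (fun q hq => (card_one_iff _ _ _).1 (h3 q hq)) m hm ((card_one_iff _ _ _).1 hY)
    ((card_one_iff _ _ _).1 hZ) with h | h
  · exact Or.inl ((card_one_iff _ _ _).2 h)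
  · exact Or.inr ((card_one_iff _ _ _).2 h)

end kun

/-- The order of a finite cohomology group is a power of `|Λ|`. -/
theorem exists_pow {Λ : Type (u + 1)} [Field Λ] [Finite Λ] {X : Scheme.{u}}
    {f : X ⟶ Spec (CommRingCat.of K)} [IsSeparated f] [QuasiCompact f] [LocallyOfFiniteType f]
    (M : EtModW.Mod Λ X) (q : ℕ) (h : hc f M q ≠ 0) : ∃ d : ℕ, hc f M q = Nat.card Λ ^ d := by
  obtain ⟨d, -, hd⟩ := KunTop.exists_equiv (jX := (cpt f).j) (p := (cpt f).p) M q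
    ((card_ne_zero_iff _ _ _).1 h)
  exact ⟨d, hd⟩

end Groth.Agent.Sga4h.H299.HcN
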