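import Groth.Agent.Sga4h.H299.Rs
import Groth.Agent.Sga4h.H299.Geo
import Groth.Agent.Sga4h.H299.AbBasic
import Groth.Agent.Sga4h.FunLES
import Groth.Agent.S3113

/-!
# `R^q f_!` for sheaves of modules over a torsion ring: independence of the compactification and
degeneration of the Leray spectral sequence

`Λ : Type (u + 1)` a commutative ring with `(n : Λ) = 0`, `n > 0`.

* `nonempty_sq` : `R^q f_* (j'_! N) ≅ j_! R^q f'_* N` for a cartesian square, `f` proper, `j` open immersion;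
* `nonempty_indep` : independence of the compactification;
* `nonempty_leray` : `R^q g_! M = 0` for `q ≠ a` implies `R^(n+a) (h g)_! M ≅ R^n h_! R^a g_! M`;
* `isZero_leray_below`, `isZero_leray`.
-/

set_option autoImplicit false
universe u

open CategoryTheory CategoryTheory.Limits AlgebraicGeometry Opposite

namespace Groth.Agent.Sga4h.H299.Leray

open Groth.Agent.Sga4h.ModRestr Groth.Agent.Sga4h.EtaleRes Groth.Agent.Etrest.ModAb
  Groth.Agent.Sga4h.H299.ExtBC Groth.Agent.Etcore.LPullComp Groth.Agent.Etrest.ModCons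
  Groth.Agent.Sga4h.H299.Rs Groth.Agent.Sga4h.H299.AbBasic

attribute [local instance] jCont

variable {Λ : Type (u + 1)} [CommRing Λ]

/-- `R^q f_* (j'_! N) ≅ j_! R^q f'_* N` for a cartesian square with `f` proper and `j` an open immersion. -/
theorem nonempty_sq {n : ℕ} (hn0 : 0 < n) (hn : (n : Λ) = 0) {V' V Y X : Scheme.{u}} (j : V ⟶ X)
    [IsOpenImmersion j] (f : Y ⟶ X) [IsProper f] (j' : V' ⟶ Y) [IsOpenImmersion j'] (f' : V' ⟶ V)
    (h : IsPullback j' f' f j) (q : ℕ) (N : EtModW.Mod Λ V') :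
    Nonempty ((EtModW.Rpush Λ f q).obj ((ext Λ j').obj N) ≅
      (ext Λ j).obj ((EtModW.Rpush Λ f' q).obj N)) := by
  have hf' : IsProper f' := MorphismProperty.of_isPullback h inferInstance
  obtain ⟨e⟩ := S3113.result j' j f' f h.w n hn0 ((ab Λ V').obj N) (killedBy_ab hn N) q
  exact Sq.nonempty_sq Λ j f j' f' h q N ((EtCoh.Rpush f' q).obj ((ab Λ V').obj N))
    ((rsAb Λ j' f q).app N ≪≫ e.symm)

theorem isZero_rpush_id {X : Scheme.{u}} (N : EtModW.Mod Λ X) (q : ℕ) (hq : 0 < q) :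
    IsZero ((EtModW.Rpush Λ (𝟙 X) q).obj N) := by
  obtain ⟨q, rfl⟩ : ∃ r, q = r + 1 := ⟨q - 1, by omega⟩
  have h1 : IsZero ((Functor.rightDerived (𝟭 (EtModW.Mod Λ X)) (q + 1)).obj N) :=
    FunLES.isZero_rightDerived_of_exact _ N q
  exact h1.of_iso ((RDExact.congrIso (pushId Λ X) (q + 1)).app N)

/-- `R^0 (𝟙)_* ≅ 𝟭` -/
noncomputable def rpushIdZero (X : Scheme.{u}) : EtModW.Rpush Λ (𝟙 X) 0 ≅ 𝟭 (EtModW.Mod Λ X) :=
  (EtModW.push Λ (𝟙 X)).rightDerivedZeroIsoSelf ≪≫ pushId Λ X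

/-- Independence of the compactification, one step. -/
theorem nonempty_step {n : ℕ} (hn0 : 0 < n) (hn : (n : Λ) = 0) {X W P S : Scheme.{u}} (j : X ⟶ P)
    [IsOpenImmersion j] (p : P ⟶ S) (k : X ⟶ W) [IsOpenImmersion k] (h : W ⟶ P) [IsProper h]
    (hk : IsPullback k (𝟙 X) h j) (q : ℕ) (M : EtModW.Mod Λ X) :
    Nonempty ((RS Λ k (h ≫ p) q).obj M ≅ (RS Λ j p q).obj M) := by
  have hq : ∀ b, b ≠ 0 → IsZero ((EtModW.Rpush Λ h b).obj ((ext Λ k).obj M)) := by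
    intro b hb
    obtain ⟨e⟩ := nonempty_sq hn0 hn j h k (𝟙 X) hk b M
    exact ((ext Λ j).map_isZero (isZero_rpush_id M b (by omega))).of_iso e
  obtain ⟨e1⟩ := leray_push Λ h p 0 ((ext Λ k).obj M) hq q
  obtain ⟨e2⟩ := nonempty_sq hn0 hn j h k (𝟙 X) hk 0 M
  exact ⟨e1 ≪≫ (EtModW.Rpush Λ p q).mapIso (e2 ≪≫ (ext Λ j).mapIso ((rpushIdZero X).app M))⟩

/-- **Independence of the compactification**. -/
theorem nonempty_indep {n : ℕ} (hn0 : 0 < n) (hn : (n : Λ) = 0) {X S P P' : Scheme.{u}} (j : X ⟶ P)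
    (p : P ⟶ S) (j' : X ⟶ P') (p' : P' ⟶ S)
    [IsOpenImmersion j] [IsOpenImmersion j'] [IsProper p] [IsProper p'] [QuasiCompact j]
    (w : j ≫ p = j' ≫ p') (q : ℕ) (M : EtModW.Mod Λ X) :
    Nonempty ((RS Λ j p q).obj M ≅ (RS Λ j' p' q).obj M) := by
  obtain ⟨W, k, h, h', hk, hh, hh', s1, s2, w'⟩ := Geo.exists_dominating j p j' p' w
  obtain ⟨e1⟩ := nonempty_step hn0 hn j p k h s1 q M
  obtain ⟨e2⟩ := nonempty_step hn0 hn j' p' k h' s2 q M
  exact ⟨e1.symm ≪≫ (rpushCongr Λ w' q).app ((ext Λ k).obj M) ≪≫ e2⟩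

variable {X P Y Q S E : Scheme.{u}} (j : X ⟶ P) (p : P ⟶ Y) (k : Y ⟶ Q) (r : Q ⟶ S) (l : X ⟶ E) (e : E ⟶ S)
  [IsOpenImmersion j] [IsProper p] [IsOpenImmersion k] [IsProper r] [IsOpenImmersion l] [IsProper e]

omit [IsOpenImmersion j] in
/-- The compactification of a composite, cut out of a cartesian diagram. -/
theorem exists_total [QuasiCompact j] [QuasiCompact k] [CompactSpace Q] [QuasiSeparatedSpace Q] :
    ∃ (R : Scheme.{u}) (m : P ⟶ R) (π : R ⟶ Q), IsOpenImmersion m ∧ QuasiCompact m ∧ IsProper π ∧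
      IsPullback m p π k := by
  obtain ⟨R, m, π, h1, h2, h3⟩ := Geo.exists_comp p k
  exact ⟨R, m, π, h1, MorphismProperty.of_isPullback h3.flip inferInstance, h2, h3⟩

/-- **Leray spectral sequence, one row**: if `R^q g_! M = 0` for `q ≠ a`, then
`R^(n+a) (g ≫ h)_! M ≅ R^n h_! (R^a g_! M)`; `g = j ≫ p`, `h = k ≫ r`, `g ≫ h = l ≫ e`. -/
theorem nonempty_leray {n : ℕ} (hn0 : 0 < n) (hn : (n : Λ) = 0) [QuasiCompact j] [QuasiCompact k]
    [CompactSpace Q] [QuasiSeparatedSpace Q] (w : l ≫ e = j ≫ p ≫ k ≫ r) (a : ℕ) (M : EtModW.Mod Λ X)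
    (hq : ∀ q, q ≠ a → IsZero ((RS Λ j p q).obj M)) (m : ℕ) :
    Nonempty ((RS Λ l e (m + a)).obj M ≅ (RS Λ k r m).obj ((RS Λ j p a).obj M)) := by
  obtain ⟨R, i, π, h1, h2, h3, h4⟩ := exists_total j p k
  have hq' : ∀ b, b ≠ a → IsZero ((EtModW.Rpush Λ π b).obj ((ext Λ (j ≫ i)).obj M)) := by
    intro b hb
    obtain ⟨e1⟩ := nonempty_sq hn0 hn k π i p h4 b ((ext Λ j).obj M)
    exact (((ext Λ k).map_isZero (hq b hb)).of_iso e1).of_iso
      ((EtModW.Rpush Λ π b).mapIso ((extComp Λ j i).app M).symm)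
  obtain ⟨e1⟩ := nonempty_sq hn0 hn k π i p h4 a ((ext Λ j).obj M)
  obtain ⟨e2⟩ := leray_push Λ π r a ((ext Λ (j ≫ i)).obj M) hq' m
  obtain ⟨e3⟩ := nonempty_indep hn0 hn (j ≫ i) (π ≫ r) l e
    (by rw [w, Category.assoc, h4.w_assoc]) (m + a) M
  exact ⟨e3.symm ≪≫ e2 ≪≫ (EtModW.Rpush Λ r m).mapIso
    ((EtModW.Rpush Λ π a).mapIso ((extComp Λ j i).app M).symm ≪≫ e1)⟩

/-- Vanishing below the first nonzero row. -/
theorem isZero_leray_below {n : ℕ} (hn0 : 0 < n) (hn : (n : Λ) = 0) [QuasiCompact j] [QuasiCompact k]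
    [CompactSpace Q] [QuasiSeparatedSpace Q] (w : l ≫ e = j ≫ p ≫ k ≫ r) (a : ℕ) (M : EtModW.Mod Λ X)
    (hq : ∀ q, q < a → IsZero ((RS Λ j p q).obj M)) (m : ℕ) (hm : m < a) :
    IsZero ((RS Λ l e m).obj M) := by
  obtain ⟨R, i, π, h1, h2, h3, h4⟩ := exists_total j p k
  have hq' : ∀ b, b < a → IsZero ((EtModW.Rpush Λ π b).obj ((ext Λ (j ≫ i)).obj M)) := by
    intro b hb
    obtain ⟨e1⟩ := nonempty_sq hn0 hn k π i p h4 b ((ext Λ j).obj M)
    exact (((ext Λ k).map_isZero (hq b hb)).of_iso e1).of_iso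
      ((EtModW.Rpush Λ π b).mapIso ((extComp Λ j i).app M).symm)
  obtain ⟨e3⟩ := nonempty_indep hn0 hn (j ≫ i) (π ≫ r) l e
    (by rw [w, Category.assoc, h4.w_assoc]) m M
  exact (isZero_push_below Λ π r a ((ext Λ (j ≫ i)).obj M) hq' m hm).of_iso e3.symm

/-- Vanishing when all rows vanish. -/
theorem isZero_leray {n : ℕ} (hn0 : 0 < n) (hn : (n : Λ) = 0) [QuasiCompact j] [QuasiCompact k]
    [CompactSpace Q] [QuasiSeparatedSpace Q] (w : l ≫ e = j ≫ p ≫ k ≫ r) (M : EtModW.Mod Λ X)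
    (hq : ∀ q, IsZero ((RS Λ j p q).obj M)) (m : ℕ) :
    IsZero ((RS Λ l e m).obj M) :=
  isZero_leray_below j p k r l e hn0 hn w (m + 1) M (fun q _ => hq q) m (by omega)

end Groth.Agent.Sga4h.H299.Leray
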