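import Groth.Agent.Sga4h.H299.RsBC
import Groth.Agent.Sga4h.H299.Leray
import Groth.Agent.Sga4h.H299.Proj
import Groth.Agent.Sga4h.H299.Hc
import Mathlib.Algebra.Category.ModuleCat.Biproducts

/-!
# The Künneth formula when one factor has cohomology in one degree

`X --jX--> P --p--> S`, `Y --jY--> Q --r--> S`, `Z = X ×_S Y`, `Z --l--> E --e--> S`.

* `nonempty_rel` : `R^q` of `pr2` of `pr1^* M ⊗ pr2^* N` is `N ⊗ g^* R^q f_! M`;
* `nonempty_kunneth_rel` : one row, over a base;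
* `nonempty_kunneth` : one row, over a separably closed field.
-/

set_option autoImplicit false
universe u

open CategoryTheory CategoryTheory.Limits AlgebraicGeometry Opposite

namespace Groth.Agent.Sga4h.H299.Kun

open Groth.Agent.Sga4h.ModRestr Groth.Agent.Sga4h.EtaleRes Groth.Agent.Etrest.ModAb
  Groth.Agent.Sga4h.H299.ExtBC Groth.Agent.Sga4h.H299.Rs Groth.Agent.Sga4h.H299.AbBasic
  Groth.Agent.Sga4h.H299.Proj Groth.Agent.Sga4h.H299.Leray Groth.Agent.Sga4h.H299.RsBC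
  Groth.Agent.Sga4h.H299.Hc

attribute [local instance] jCont Abelian.hasFiniteBiproducts

variable {Λ : Type (u + 1)} [CommRing Λ]

/-- `Λ^d ≅ ⨁ Λ` -/
noncomputable def cstPowIso (X : Scheme.{u}) (d : ℕ) :
    cstPow Λ X d ≅ ⨁ fun _ : Fin d => EtModW.constMod Λ X Λ :=
  (constantSheaf X.smallEtaleTopology (ModuleCat.{u + 1} Λ)).mapIso
    (ModuleCat.biproductIsoPi (fun _ : Fin d => ModuleCat.of Λ Λ)).symm ≪≫
    (constantSheaf X.smallEtaleTopology (ModuleCat.{u + 1} Λ)).mapBiproduct _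

variable {X P Y Q S Z E : Scheme.{u}} {jX : X ⟶ P} {p : P ⟶ S} {jY : Y ⟶ Q} {r : Q ⟶ S} {l : Z ⟶ E}
  {e : E ⟶ S} [IsOpenImmersion jX] [IsProper p] [IsOpenImmersion jY] [IsProper r] [IsOpenImmersion l]
  [IsProper e] {pr1 : Z ⟶ X} {pr2 : Z ⟶ Y}

/-- The direct images with compact supports of `pr1^* M ⊗ pr2^* N` under `pr2`. -/
theorem nonempty_rel {n : ℕ} (hn0 : 0 < n) (hn : (n : Λ) = 0) {g : Y ⟶ S} {P' : Scheme.{u}} {j' : Z ⟶ P'}
    {p' : P' ⟶ Y} {gP : P' ⟶ P} [IsOpenImmersion j'] (hj' : j' ≫ p' = pr2) (h1 : IsPullback pr1 j' jX gP)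
    (h2 : IsPullback gP p' p g) (M : EtModW.Mod Λ X) {N N' : EtModW.Mod Λ Y}
    (pN : (T N).obj N' ≅ EtModW.constMod Λ Y Λ) (q : ℕ) :
    Nonempty ((RS Λ j' p' q).obj ((T ((EtModW.pull Λ pr2).obj N)).obj ((EtModW.pull Λ pr1).obj M)) ≅
      (T N).obj ((EtModW.pull Λ g).obj ((RS Λ jX p q).obj M))) := by
  obtain ⟨e1⟩ := nonempty_rs_pbc hn0 hn h1 h2 q M
  exact ⟨(rsT j' p' pr2 hj' pN q).app ((EtModW.pull Λ pr1).obj M) ≪≫ (T N).mapIso e1.symm⟩

/-- **Künneth formula, one row**, over a base. -/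
theorem nonempty_kunneth_rel {n : ℕ} (hn0 : 0 < n) (hn : (n : Λ) = 0) [CompactSpace Q]
    [QuasiSeparatedSpace Q] [QuasiCompact jX] [QuasiCompact jY]
    (h : IsPullback pr1 pr2 (jX ≫ p) (jY ≫ r)) (w : l ≫ e = pr2 ≫ jY ≫ r)
    (M : EtModW.Mod Λ X) {N N' : EtModW.Mod Λ Y} (pN : (T N).obj N' ≅ EtModW.constMod Λ Y Λ) (a : ℕ)
    (hM : ∀ q, q ≠ a → IsZero ((RS Λ jX p q).obj M)) (m : ℕ) :
    Nonempty ((RS Λ l e (m + a)).obj ((T ((EtModW.pull Λ pr2).obj N)).obj ((EtModW.pull Λ pr1).obj M)) ≅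
      (RS Λ jY r m).obj ((T N).obj ((EtModW.pull Λ (jY ≫ r)).obj ((RS Λ jX p a).obj M)))) := by
  obtain ⟨P', j', p', gP, h1, h2, h3, h4, h5⟩ := exists_baseChange jX p h
  have hqc : QuasiCompact j' := MorphismProperty.of_isPullback h4 inferInstance
  have hq : ∀ q, q ≠ a → IsZero ((RS Λ j' p' q).obj
      ((T ((EtModW.pull Λ pr2).obj N)).obj ((EtModW.pull Λ pr1).obj M))) := by
    intro q hq
    obtain ⟨e1⟩ := nonempty_rel hn0 hn h3 h4 h5 M pN q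
    have : (T N).Additive := additive_T pN
    exact ((T N).map_isZero ((EtModW.pull Λ (jY ≫ r)).map_isZero (hM q hq))).of_iso e1
  obtain ⟨e1⟩ := nonempty_rel hn0 hn h3 h4 h5 M pN a
  obtain ⟨e2⟩ := nonempty_leray j' p' jY r l e hn0 hn (by rw [w, ← h3, Category.assoc]) a _ hq m
  exact ⟨e2 ≪≫ (RS Λ jY r m).mapIso e1⟩

/-- Vanishing below the first nonzero row. -/
theorem isZero_kunneth_below {n : ℕ} (hn0 : 0 < n) (hn : (n : Λ) = 0) [CompactSpace Q]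
    [QuasiSeparatedSpace Q] [QuasiCompact jX] [QuasiCompact jY]
    (h : IsPullback pr1 pr2 (jX ≫ p) (jY ≫ r)) (w : l ≫ e = pr2 ≫ jY ≫ r)
    (M : EtModW.Mod Λ X) {N N' : EtModW.Mod Λ Y} (pN : (T N).obj N' ≅ EtModW.constMod Λ Y Λ) (a : ℕ)
    (hM : ∀ q, q < a → IsZero ((RS Λ jX p q).obj M)) (m : ℕ) (hm : m < a) :
    IsZero ((RS Λ l e m).obj ((T ((EtModW.pull Λ pr2).obj N)).obj ((EtModW.pull Λ pr1).obj M))) := by
  obtain ⟨P', j', p', gP, h1, h2, h3, h4, h5⟩ := exists_baseChange jX p h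
  have hqc : QuasiCompact j' := MorphismProperty.of_isPullback h4 inferInstance
  refine isZero_leray_below j' p' jY r l e hn0 hn (by rw [w, ← h3, Category.assoc]) a _
    (fun q hq => ?_) m hm
  obtain ⟨e1⟩ := nonempty_rel hn0 hn h3 h4 h5 M pN q
  have : (T N).Additive := additive_T pN
  exact ((T N).map_isZero ((EtModW.pull Λ (jY ≫ r)).map_isZero (hM q hq))).of_iso e1

/-- Vanishing of the cohomology of a product if one factor has no cohomology. -/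
theorem isZero_kunneth {n : ℕ} (hn0 : 0 < n) (hn : (n : Λ) = 0) [CompactSpace Q]
    [QuasiSeparatedSpace Q] [QuasiCompact jX] [QuasiCompact jY]
    (h : IsPullback pr1 pr2 (jX ≫ p) (jY ≫ r)) (w : l ≫ e = pr2 ≫ jY ≫ r)
    (M : EtModW.Mod Λ X) {N N' : EtModW.Mod Λ Y} (pN : (T N).obj N' ≅ EtModW.constMod Λ Y Λ)
    (hM : ∀ q, IsZero ((RS Λ jX p q).obj M)) (m : ℕ) :
    IsZero ((RS Λ l e m).obj ((T ((EtModW.pull Λ pr2).obj N)).obj ((EtModW.pull Λ pr1).obj M))) :=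
  isZero_kunneth_below hn0 hn h w M pN (m + 1) (fun q _ => hM q) m (by omega)

/-- `N ⊗ Λ^d ≅ ⨁ N` -/
noncomputable def tensorCstPow {N N' : EtModW.Mod Λ Y} (pN : (T N).obj N' ≅ EtModW.constMod Λ Y Λ) (d : ℕ) :
    (T N).obj (cstPow Λ Y d) ≅ ⨁ fun _ : Fin d => N :=
  haveI : (T N).Additive := additive_T pN
  (T N).mapIso (cstPowIso Y d) ≪≫ (T N).mapBiproduct _ ≪≫
    biproduct.mapIso (fun _ => tSwap N (EtModW.constMod Λ Y Λ) ≪≫ (tUnit Y).app N)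

end Groth.Agent.Sga4h.H299.Kun
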