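import Groth.Agent.Sga4h.BidLimAb
import Groth.Agent.Etrest.Eff
import Groth.Agent.Etrest.ModCons
import Groth.Agent.Sga4h.H299.AbBasic
import Groth.Agent.Etrest.ModAbR
import Groth.Agent.S0001

/-!
# Proper base change for sheaves of modules over a torsion ring, degree by degree
-/

set_option autoImplicit false
universe u

open CategoryTheory CategoryTheory.Limits AlgebraicGeometry Opposite

namespace Groth.Agent.Sga4h.H299.PbcMod

open Groth.Agent.Etrest Groth.Agent.Etrest.ModAb Groth.Agent.Etrest.ModCons Groth.Agent.EtpbcB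
  Groth.Agent.Sga4h.BidLimAb Groth.Agent.Sga4h.H299.AbBasic

variable {Λ : Type (u + 1)} [CommRing Λ]

variable {X Y X' Y' : Scheme.{u}} {f : X ⟶ Y} {g : Y' ⟶ Y} {f' : X' ⟶ Y'} {g' : X' ⟶ X}

/-- Proper base change in degree zero, as an isomorphism of functors. -/
theorem nonempty_pbc0 (h : IsPullback g' f' f g) [IsProper f] {n : ℕ} (hn0 : 0 < n) (hn : (n : Λ) = 0) :
    Nonempty (EtModW.push Λ f ⋙ EtModW.pull Λ g ≅ EtModW.pull Λ g' ⋙ EtModW.push Λ f') := by
  let β := MateCalc.bcNat (pullPushAdj Λ g) (pullPushAdj Λ g') (sqM Λ h.w).hom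
  have h1 : ∀ M, IsIso (β.app M) := by
    intro M
    exact isIso_bcM h.w M (S0001.result _ _ _ _ f g f' g' h _ (isTorsion_ab hn0 hn M)).2
  have h2 : IsIso β := NatIso.isIso_of_isIso_app β
  exact ⟨asIso β⟩

/-- Proper base change for sheaves of modules over a torsion ring. -/
theorem nonempty_pbc (h : IsPullback g' f' f g) [IsProper f] {n : ℕ} (hn0 : 0 < n) (hn : (n : Λ) = 0)
    (M : EtModW.Mod Λ X) (q : ℕ) :
    Nonempty ((EtModW.pull Λ g).obj ((EtModW.Rpush Λ f q).obj M) ≅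
      (EtModW.Rpush Λ f' q).obj ((EtModW.pull Λ g').obj M)) := by
  obtain ⟨e⟩ := nonempty_pbc0 (Λ := Λ) h hn0 hn
  refine Eff.nonempty_iso (EtModW.push Λ f) (EtModW.pull Λ g) (EtModW.pull Λ g') (EtModW.push Λ f') e
    (fun _ => True) (fun _ _ _ => trivial) (fun F _ => ?_) M trivial q
  refine ⟨Injective.under F, Injective.ι F, inferInstance, trivial, fun q hq => ?_⟩
  obtain ⟨q, rfl⟩ : ∃ r, q = r + 1 := ⟨q - 1, by omega⟩
  have h0 : IsZero (((EtModW.push Λ f).rightDerived (q + 1)).obj (Injective.under F)) :=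
    (EtModW.push Λ f).isZero_rightDerived_obj_injective_succ q _
  refine ⟨h0, isZero_of_ab ?_⟩
  obtain ⟨e1⟩ := (S0001.result _ _ _ _ f g f' g' h _ (isTorsion_ab hn0 hn (Injective.under F))).1 (q + 1)
  have z1 : IsZero ((EtCoh.Rpush f (q + 1)).obj ((ab Λ X).obj (Injective.under F))) :=
    (isZero_ab h0).of_iso ((rpushIso Λ f (q + 1)).app _).symm
  have z2 := ((EtCoh.pull g).map_isZero z1).of_iso e1.symm
  exact (z2.of_iso ((EtCoh.Rpush f' (q + 1)).mapIso ((pullIso Λ g').app _))).of_iso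
    ((rpushIso Λ f' (q + 1)).app _)

end Groth.Agent.Sga4h.H299.PbcMod
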