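import Groth.Agent.Sga4h.H299.Row

/-!
# The top row of the spectral sequence of a composite functor

`F : A ⥤ B` left exact preserving injectives, `G : B ⥤ C` left exact, `R^q F M = 0` for `q > b`.
If `R^(p+b) (F ⋙ G) M = 0` and all targets `R^(p+r) G (R^s F M)`, `r + s = b + 1`, `r ≥ 2`, of the differentials
vanish, then `R^p G (R^b F M) = 0` (`p ≥ 1`).
-/

set_option autoImplicit false
set_option backward.isDefEq.respectTransparency false
set_option linter.unusedSectionVars false

open CategoryTheory CategoryTheory.Limits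

namespace Groth.Agent.Sga4h.H299.RowTop

open Groth.Agent.EtpbcB.RDerLES Groth.Agent.EtpbcB.Acyc Groth.Agent.Sga5.OneRow

universe v₁ v₂ v₃ u₁ u₂ u₃

variable {A : Type u₁} {B : Type u₂} {C : Type u₃} [Category.{v₁} A] [Category.{v₂} B] [Category.{v₃} C]
  [Abelian A] [Abelian B] [Abelian C] [EnoughInjectives A]
  (F : A ⥤ B) [F.Additive] [PreservesFiniteLimits F] (G : B ⥤ C) [G.Additive] [PreservesFiniteLimits G]
  [HasInjectiveResolutions A] [HasInjectiveResolutions B]

/-- The two short exact sequences `0 ⟶ F M ⟶ F I ⟶ N ⟶ 0`, `0 ⟶ N ⟶ F Q ⟶ R^1 F M ⟶ 0`. -/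
theorem exists_two (M : A) : ∃ (T U : ShortComplex B), T.ShortExact ∧ U.ShortExact ∧
    Nonempty (T.X₁ ≅ F.obj M) ∧ Nonempty (T.X₂ ≅ F.obj (emb M).X₂) ∧ Nonempty (T.X₃ ≅ U.X₁) ∧
    Nonempty (U.X₂ ≅ F.obj (emb M).X₃) ∧ Nonempty (U.X₃ ≅ (F.rightDerived 1).obj M) := by
  have hE := emb_shortExact M
  obtain ⟨hex, hmono⟩ := map_exact F M
  have hI : Acyclic F (emb M).X₂ := acyclic_of_injective _ _
  let T : ShortComplex B := ShortComplex.mk (F.map (emb M).f) (cokernel.π (F.map (emb M).f)) (by simp)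
  have hT : T.ShortExact :=
    { exact := ShortComplex.exact_cokernel _
      mono_f := hmono
      epi_g := inferInstanceAs (Epi (cokernel.π _)) }
  obtain ⟨e1⟩ : Nonempty ((F.rightDerived 1).obj M ≅ cokernel (F.map (emb M).g)) := ⟨oneIso hE hI⟩
  let m : cokernel (F.map (emb M).f) ⟶ F.obj (emb M).X₃ :=
    cokernel.desc _ (F.map (emb M).g) (by rw [← F.map_comp, (emb M).zero, F.map_zero])
  have hm : Mono m := hex.mono_cokernelDesc
  let U : ShortComplex B := ShortComplex.mk m (cokernel.π m) (by simp)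
  have hU : U.ShortExact :=
    { exact := ShortComplex.exact_cokernel _
      mono_f := hm
      epi_g := inferInstanceAs (Epi (cokernel.π _)) }
  have e4 : cokernel (F.map (emb M).g) ≅ cokernel m := by
    have h5 : F.map (emb M).g = cokernel.π (F.map (emb M).f) ≫ m := by simp [m]
    exact cokernelIsoOfEq h5 ≪≫ cokernelEpiComp _ _
  exact ⟨T, U, hT, hU, ⟨Iso.refl _⟩, ⟨Iso.refl _⟩, ⟨Iso.refl _⟩, ⟨Iso.refl _⟩, ⟨e4.symm ≪≫ e1.symm⟩⟩

variable (hF : ∀ I : A, Injective I → Injective (F.obj I))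

include hF in
/-- `R^m G (N) = 0` if `R^(m+1) G (F M) = 0`. -/
theorem isZero_N {T : ShortComplex B} (hT : T.ShortExact) {M : A} (e1 : Nonempty (T.X₁ ≅ F.obj M))
    (e2 : Nonempty (T.X₂ ≅ F.obj (emb M).X₂)) (m : ℕ) (hm : 1 ≤ m)
    (h : IsZero ((G.rightDerived (m + 1)).obj (F.obj M))) : IsZero ((G.rightDerived m).obj T.X₃) := by
  obtain ⟨e1⟩ := e1
  obtain ⟨e2⟩ := e2
  have hi : Injective (F.obj (emb M).X₂) := hF _ inferInstance
  have h1 : IsZero ((G.rightDerived m).obj T.X₂) :=
    (acyclic_of_injective G (F.obj (emb M).X₂) m (by omega)).of_iso ((G.rightDerived m).mapIso e2)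
  exact isZero_right G hT m h1 (h.of_iso ((G.rightDerived (m + 1)).mapIso e1))

include hF in
theorem isZero_FQ (M : A) (m : ℕ) (hm : 1 ≤ m) (h : IsZero ((G.rightDerived (m + 1)).obj (F.obj M)))
    (h' : IsZero ((G.rightDerived m).obj ((F.rightDerived 1).obj M))) :
    IsZero ((G.rightDerived m).obj (F.obj (emb M).X₃)) := by
  obtain ⟨T, U, hT, hU, a1, a2, ⟨a3⟩, ⟨a4⟩, ⟨a5⟩⟩ := exists_two F M
  have h1 := (isZero_N F G hF hT a1 a2 m hm h).of_iso ((G.rightDerived m).mapIso a3).symm
  have h2 := h'.of_iso ((G.rightDerived m).mapIso a5)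
  exact (isZero_mid G hU m h1 h2).of_iso ((G.rightDerived m).mapIso a4).symm

include hF in
theorem isZero_R1 (M : A) (m : ℕ) (h : IsZero ((G.rightDerived (m + 2)).obj (F.obj M)))
    (h' : IsZero ((G.rightDerived m).obj (F.obj (emb M).X₃))) :
    IsZero ((G.rightDerived m).obj ((F.rightDerived 1).obj M)) := by
  obtain ⟨T, U, hT, hU, a1, a2, ⟨a3⟩, ⟨a4⟩, ⟨a5⟩⟩ := exists_two F M
  have h1 := (isZero_N F G hF hT a1 a2 (m + 1) (by omega) h).of_iso ((G.rightDerived (m + 1)).mapIso a3).symm
  have h2 := h'.of_iso ((G.rightDerived m).mapIso a4)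
  exact (isZero_right G hU m h2 h1).of_iso ((G.rightDerived m).mapIso a5).symm

include hF in
/-- **The top row.** -/
theorem top (b : ℕ) (M : A) (p : ℕ) (hp : 1 ≤ p) (h1 : ∀ q, b < q → IsZero ((F.rightDerived q).obj M))
    (h2 : ∀ r s, r + s = b + 1 → 2 ≤ r → IsZero ((G.rightDerived (p + r)).obj ((F.rightDerived s).obj M)))
    (h3 : IsZero (((F ⋙ G).rightDerived (p + b)).obj M)) :
    IsZero ((G.rightDerived p).obj ((F.rightDerived b).obj M)) := by
  have : PreservesFiniteLimits (F ⋙ G) := comp_preservesFiniteLimits F G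
  induction b generalizing M with
  | zero =>
    have hM : Acyclic F M := fun q hq => h1 q hq
    obtain ⟨e⟩ := comp_acyclic F G (fun I hI => by
      have := hF I hI
      exact acyclic_of_injective _ _) M hM p
    exact (h3.of_iso e).of_iso ((G.rightDerived p).mapIso (F.rightDerivedZeroIsoSelf.app M))
  | succ b ih =>
    have hE := emb_shortExact M
    have hI : Acyclic F (emb M).X₂ := acyclic_of_injective _ _
    have hI' : Acyclic (F ⋙ G) (emb M).X₂ := acyclic_of_injective _ _
    have k1 : ∀ q, b < q → IsZero ((F.rightDerived q).obj (emb M).X₃) := by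
      intro q hq
      obtain ⟨q, rfl⟩ : ∃ r, q = r + 1 := ⟨q - 1, by omega⟩
      exact (h1 (q + 2) (by omega)).of_iso (shiftIso hE hI q).symm
    have k3 : IsZero (((F ⋙ G).rightDerived (p + b)).obj (emb M).X₃) := by
      obtain ⟨m, hm⟩ : ∃ r, p + b = r + 1 := ⟨p + b - 1, by omega⟩
      rw [hm]
      refine IsZero.of_iso ?_ (shiftIso hE hI' m).symm
      have : m + 2 = p + (b + 1) := by omega
      rw [this]
      exact h3
    have hzero : ∀ m, IsZero ((G.rightDerived m).obj ((F.rightDerived 0).obj M)) →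
        IsZero ((G.rightDerived m).obj (F.obj M)) := fun m h =>
      h.of_iso ((G.rightDerived m).mapIso (F.rightDerivedZeroIsoSelf.app M).symm)
    cases b with
    | zero =>
      have k4 := ih (emb M).X₃ k1 (fun r s hrs hr => by omega) k3
      exact isZero_R1 F G hF M p (hzero _ (h2 2 0 rfl le_rfl))
        (k4.of_iso ((G.rightDerived p).mapIso (F.rightDerivedZeroIsoSelf.app _).symm))
    | succ b =>
      refine (ih (emb M).X₃ k1 (fun r s hrs hr => ?_) k3).of_iso
        ((G.rightDerived p).mapIso (shiftIso hE hI b))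
      cases s with
      | zero =>
        obtain rfl : r = b + 2 := by omega
        refine IsZero.of_iso ?_ ((G.rightDerived (p + (b + 2))).mapIso (F.rightDerivedZeroIsoSelf.app _))
        exact isZero_FQ F G hF M (p + (b + 2)) (by omega)
          (hzero _ (by
            have := h2 (b + 3) 0 (by omega) (by omega)
            rwa [show p + (b + 3) = p + (b + 2) + 1 by omega] at this))
          (h2 (b + 2) 1 (by omega) (by omega))
      | succ s =>
        exact (h2 r (s + 2) (by omega) hr).of_iso ((G.rightDerived (p + r)).mapIso (shiftIso hE hI s).symm)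

end Groth.Agent.Sga4h.H299.RowTop
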