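import Groth.Agent.Sga4h.H299.ExtBC
import Groth.Agent.Etrest.ModAbR
import Mathlib.CategoryTheory.Sites.Whiskering

/-!
# Scalars on sheaves of modules

`scal r N : N ⟶ N` is the multiplication by `r`.  It is natural and compatible with push, pull, `res`,
`ext`; a sheaf of modules is determined by its underlying abelian sheaf with the scalars.
-/

set_option autoImplicit false
universe u

open CategoryTheory CategoryTheory.Limits AlgebraicGeometry Opposite

namespace Groth.Agent.Sga4h.H299.Scal

open Groth.Agent.Sga4h.ModRestr Groth.Agent.Sga4h.EtaleRes Groth.Agent.Etrest.ModAb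

attribute [local instance] jCont

variable {R : Type (u + 1)} [CommRing R]

/-- Multiplication by `r` on a sheaf of modules. -/
noncomputable def scal {X : Scheme.{u}} (r : R) (N : EtModW.Mod R X) : N ⟶ N :=
  ⟨{ app := fun U => ModuleCat.ofHom (LinearMap.lsmul R (N.obj.obj U) r)
     naturality := fun U V f => by
      ext x
      exact ((N.obj.map f).hom.map_smul r x).symm }⟩

theorem scal_app {X : Scheme.{u}} (r : R) (N : EtModW.Mod R X) (U : (X.Etale)ᵒᵖ) (x : N.obj.obj U) :
    (scal r N).hom.app U x = r • x := rfl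

/-- Multiplication by `r` is natural. -/
theorem scal_naturality {X : Scheme.{u}} (r : R) {N N' : EtModW.Mod R X} (f : N ⟶ N') :
    scal r N ≫ f = f ≫ scal r N' := by
  apply Sheaf.hom_ext
  ext U x
  exact (f.hom.app U).hom.map_smul r x

theorem push_scal {X Y : Scheme.{u}} (f : X ⟶ Y) (r : R) (N : EtModW.Mod R X) :
    (EtModW.push R f).map (scal r N) = scal r ((EtModW.push R f).obj N) := rfl

theorem res_scal {X Y : Scheme.{u}} (f : X ⟶ Y) [Etale f] (r : R) (N : EtModW.Mod R Y) :
    (res R f).map (scal r N) = scal r ((res R f).obj N) := rfl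

/-- Left adjoints of functors compatible with scalars are compatible with scalars. -/
theorem left_scal {X Y : Scheme.{u}} {L : EtModW.Mod R X ⥤ EtModW.Mod R Y}
    {G : EtModW.Mod R Y ⥤ EtModW.Mod R X} (adj : L ⊣ G)
    (hG : ∀ (r : R) (N : EtModW.Mod R Y), G.map (scal r N) = scal r (G.obj N)) (r : R)
    (N : EtModW.Mod R X) : L.map (scal r N) = scal r (L.obj N) := by
  apply (adj.homEquiv _ _).injective
  rw [Adjunction.homEquiv_unit, Adjunction.homEquiv_unit, hG, adj.unit_naturality]
  exact scal_naturality r (adj.unit.app N)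

theorem pull_scal {X Y : Scheme.{u}} (f : X ⟶ Y) (r : R) (N : EtModW.Mod R Y) :
    (EtModW.pull R f).map (scal r N) = scal r ((EtModW.pull R f).obj N) :=
  left_scal (pullPushAdj R f) (push_scal f) r N

theorem ext_scal {X Y : Scheme.{u}} (f : X ⟶ Y) [Etale f] (r : R) (N : EtModW.Mod R X) :
    (ext R f).map (scal r N) = scal r ((ext R f).obj N) :=
  left_scal (extResAdj R f) (res_scal f) r N

/-- The scalars on the underlying abelian sheaf. -/
noncomputable abbrev abScal {X : Scheme.{u}} (r : R) (N : EtModW.Mod R X) :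
    (ab R X).obj N ⟶ (ab R X).obj N := (ab R X).map (scal r N)

/-- A morphism of abelian sheaves compatible with the scalars is a morphism of sheaves of modules. -/
noncomputable def homOfAb {X : Scheme.{u}} {N N' : EtModW.Mod R X} (e : (ab R X).obj N ⟶ (ab R X).obj N')
    (he : ∀ r : R, abScal r N ≫ e = e ≫ abScal r N') : N ⟶ N' :=
  ⟨{ app := fun U => ModuleCat.ofHom
      { toFun := fun x => e.hom.app U x
        map_add' := fun x y => map_add (e.hom.app U).hom x y
        map_smul' := fun r x => by
          have h := congrArg (fun t => t.hom.app U x) (he r)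
          exact h }
     naturality := fun U V f => by
      ext x
      have h := congrArg (fun t => t x) (e.hom.naturality f)
      exact h }⟩

theorem ab_homOfAb {X : Scheme.{u}} {N N' : EtModW.Mod R X} (e : (ab R X).obj N ⟶ (ab R X).obj N')
    (he : ∀ r : R, abScal r N ≫ e = e ≫ abScal r N') : (ab R X).map (homOfAb e he) = e := by
  apply Sheaf.hom_ext
  ext U x
  rfl

/-- An isomorphism of abelian sheaves compatible with the scalars is an isomorphism of sheaves of
modules. -/
noncomputable def isoOfAb {X : Scheme.{u}} {N N' : EtModW.Mod R X} (e : (ab R X).obj N ≅ (ab R X).obj N')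
    (he : ∀ r : R, abScal r N ≫ e.hom = e.hom ≫ abScal r N') : N ≅ N' :=
  have : IsIso ((ab R X).map (homOfAb e.hom he)) := by
    rw [ab_homOfAb]
    infer_instance
  have : IsIso (homOfAb e.hom he) := isIso_of_reflects_iso _ (ab R X)
  asIso (homOfAb e.hom he)

theorem ab_isoOfAb {X : Scheme.{u}} {N N' : EtModW.Mod R X} (e : (ab R X).obj N ≅ (ab R X).obj N')
    (he : ∀ r : R, abScal r N ≫ e.hom = e.hom ≫ abScal r N') : (ab R X).map (isoOfAb e he).hom = e.hom :=
  ab_homOfAb e.hom he

/-- `pullIso` is compatible with scalars. -/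
theorem pullIso_scal {X Y : Scheme.{u}} (f : X ⟶ Y) (r : R) (N : EtModW.Mod R Y) :
    abScal r ((EtModW.pull R f).obj N) ≫ ((pullIso R f).app N).hom =
      ((pullIso R f).app N).hom ≫ (EtCoh.pull f).map (abScal r N) := by
  have h := (pullIso R f).hom.naturality (scal r N)
  have h2 : abScal r ((EtModW.pull R f).obj N) = (EtModW.pull R f ⋙ ab R X).map (scal r N) :=
    congrArg (ab R X).map (pull_scal f r N).symm
  rw [h2]
  exact h

/-- `extAb` is compatible with scalars. -/
theorem extAb_scal {X Y : Scheme.{u}} (f : X ⟶ Y) [Etale f] (r : R) (N : EtModW.Mod R X) :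
    abScal r ((ext R f).obj N) ≫ ((ExtBC.extAb R f).app N).hom =
      ((ExtBC.extAb R f).app N).hom ≫ (EtShriek.extZero f).map (abScal r N) := by
  have h := (ExtBC.extAb R f).hom.naturality (scal r N)
  have h2 : abScal r ((ext R f).obj N) = (ext R f ⋙ ab R Y).map (scal r N) :=
    congrArg (ab R Y).map (ext_scal f r N).symm
  rw [h2]
  exact h

end Groth.Agent.Sga4h.H299.Scal
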